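import Mathlib
import Cfsg.Agent.OreSL.Core

/-!
# Covering numbers: products of conjugates in linear groups, and cyclic automorphisms
-/

namespace Cfsg.Agent.CoverNum

open Polynomial Module OreSL

variable {K : Type*} [Field K] {V : Type*} [AddCommGroup V] [Module K V]
  {V' : Type*} [AddCommGroup V'] [Module K V']

/-- `y` is a product of `k` conjugates of `x` by automorphisms of determinant one. -/
def InProd (x : V ≃ₗ[K] V) (k : ℕ) (y : V ≃ₗ[K] V) : Prop :=
  ∃ P : Fin k → (V ≃ₗ[K] V), (∀ i, LinearEquiv.det (P i) = 1) ∧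
    (List.ofFn fun i => P i * x * (P i)⁻¹).prod = y

/-- Every determinant occurs in the centraliser. -/
def Closed (y : V ≃ₗ[K] V) : Prop :=
  ∀ u : Kˣ, ∃ Q : V ≃ₗ[K] V, LinearEquiv.det Q = u ∧ Q * y = y * Q

/-- Not a multiple of the identity. -/
def NonScalar (y : V ≃ₗ[K] V) : Prop := ∀ a : K, (y : Module.End K V) ≠ a • LinearMap.id

/-- `y` is cyclic with characteristic polynomial `f`. -/
def Cyc (y : Module.End K V) (f : K[X]) : Prop :=
  f.Monic ∧ f.natDegree = finrank K V ∧ aeval y f = 0 ∧ ∃ μ : Dual K V, InvFree y μ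

theorem InProd.zero (x : V ≃ₗ[K] V) : InProd x 0 1 := ⟨Fin.elim0, fun i => i.elim0, by simp⟩

theorem InProd.single {x P : V ≃ₗ[K] V} (hP : LinearEquiv.det P = 1) :
    InProd x 1 (P * x * P⁻¹) :=
  ⟨fun _ => P, fun _ => hP, by simp⟩

theorem InProd.self (x : V ≃ₗ[K] V) : InProd x 1 x := by
  simpa using InProd.single (x := x) (P := 1) (map_one _)

theorem InProd.mul {x y z : V ≃ₗ[K] V} {j k : ℕ} :
    InProd x j y → InProd x k z → InProd x (j + k) (y * z) := by
  rintro ⟨P, hP, rfl⟩ ⟨Q, hQ, rfl⟩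
  refine ⟨Fin.append P Q, fun i => ?_, ?_⟩
  · induction i using Fin.addCases <;> simp [hP, hQ]
  · rw [List.ofFn_add, List.prod_append]
    simp

theorem InProd.conj {x y Q : V ≃ₗ[K] V} {k : ℕ} (hQ : LinearEquiv.det Q = 1) :
    InProd x k y → InProd x k (Q * y * Q⁻¹) := by
  rintro ⟨P, hP, rfl⟩
  refine ⟨fun i => Q * P i, fun i => by rw [map_mul, hQ, hP, one_mul], ?_⟩
  rw [← MulAut.conj_apply, map_list_prod, List.map_ofFn]
  congr 2

/-- A conjugate by any automorphism, adjusted inside the centraliser. -/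
theorem InProd.conj_closed {x y Q : V ≃ₗ[K] V} {k : ℕ} (hy : Closed y) (h : InProd x k y) :
    InProd x k (Q * y * Q⁻¹) := by
  obtain ⟨R, hR, hRy⟩ := hy (LinearEquiv.det Q)⁻¹
  have e : Q * y * Q⁻¹ = Q * R * y * (Q * R)⁻¹ := by
    rw [mul_inv_rev, mul_assoc Q R, hRy]; group
  rw [e]
  exact h.conj (by rw [map_mul, hR, mul_inv_cancel])

theorem InProd.det {x y : V ≃ₗ[K] V} {k : ℕ} (hx : LinearEquiv.det x = 1) :
    InProd x k y → LinearEquiv.det y = 1 := by
  rintro ⟨P, hP, rfl⟩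
  rw [map_list_prod, List.map_ofFn]
  exact List.prod_eq_one fun a ha => by
    obtain ⟨i, rfl⟩ := List.mem_ofFn.1 ha
    simp [hP, hx]

theorem Closed.conj {y Q : V ≃ₗ[K] V} (hy : Closed y) : Closed (Q * y * Q⁻¹) := fun u => by
  obtain ⟨R, hR, hRy⟩ := hy u
  refine ⟨Q * R * Q⁻¹, by simp [hR], ?_⟩
  calc Q * R * Q⁻¹ * (Q * y * Q⁻¹) = Q * (R * y) * Q⁻¹ := by group
    _ = Q * (y * R) * Q⁻¹ := by rw [hRy]
    _ = Q * y * Q⁻¹ * (Q * R * Q⁻¹) := by group

theorem Closed.inv {y : V ≃ₗ[K] V} (hy : Closed y) : Closed y⁻¹ := fun u => by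
  obtain ⟨R, hR, hRy⟩ := hy u
  exact ⟨R, hR, (Commute.inv_right hRy).eq⟩

theorem Cyc.exists_conj [FiniteDimensional K V] [FiniteDimensional K V'] {y : Module.End K V}
    {z : Module.End K V'} {f : K[X]} (hy : Cyc y f) (hz : Cyc z f) :
    ∃ P : V ≃ₗ[K] V', ∀ v, P (y v) = z (P v) := by
  obtain ⟨hf, hd, hya, μ, hμ⟩ := hy
  obtain ⟨-, hd', hza, ν, hν⟩ := hz
  let E : V ≃ₗ[K] V' := LinearEquiv.ofFinrankEq _ _ (hd.symm.trans hd')
  let z' : Module.End K V := E.symm.conj z
  have hz' : ∀ v, E (z' v) = z (E v) := fun v => by simp [z', LinearEquiv.conj_apply]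
  have hp : ∀ (i : ℕ) (v : V), E ((z' ^ i) v) = (z ^ i) (E v) := by
    intro i
    induction i with
    | zero => intro v; rfl
    | succ i ih => intro v; rw [pow_succ, pow_succ, Module.End.mul_apply, ih, hz']; rfl
  have hz'a : aeval z' f = 0 := LinearMap.ext fun v => E.injective (by
    rw [aeval_eq_sum_range, LinearMap.sum_apply, map_sum, LinearMap.zero_apply, map_zero]
    simp only [LinearMap.smul_apply, map_smul, hp]
    have := congrArg (fun L : Module.End K V' => L (E v)) hza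
    simpa [aeval_eq_sum_range, LinearMap.sum_apply] using this)
  have hν' : InvFree z' (ν ∘ₗ (E : V →ₗ[K] V')) := fun v hv => E.map_eq_zero_iff.1
    (hν (E v) fun i => by rw [← hp]; exact hv i)
  obtain ⟨P, hP⟩ := hμ.exists_conj hν' hf hd hya hz'a
  exact ⟨P.trans E, fun v => by rw [LinearEquiv.trans_apply, hP, hz']; rfl⟩

theorem Cyc.map {y : Module.End K V} {z : Module.End K V'} {f : K[X]} (hy : Cyc y f)
    (E : V ≃ₗ[K] V') (h : ∀ v, E (y v) = z (E v)) : Cyc z f := by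
  obtain ⟨hf, hd, hya, μ, hμ⟩ := hy
  have hp : ∀ (i : ℕ) (v : V), E ((y ^ i) v) = (z ^ i) (E v) := by
    intro i
    induction i with
    | zero => intro v; rfl
    | succ i ih => intro v; rw [pow_succ, pow_succ, Module.End.mul_apply, ih, h]; rfl
  refine ⟨hf, hd.trans E.finrank_eq, LinearMap.ext fun w => ?_, μ ∘ₗ (E.symm : V' →ₗ[K] V),
    fun w hw => ?_⟩
  · obtain ⟨v, rfl⟩ := E.surjective w
    rw [aeval_eq_sum_range, LinearMap.sum_apply, LinearMap.zero_apply]
    simp only [LinearMap.smul_apply, ← hp, ← map_smul, ← map_sum]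
    rw [← LinearEquiv.map_zero E]
    congr 1
    have := congrArg (fun L : Module.End K V => L v) hya
    simpa [aeval_eq_sum_range, LinearMap.sum_apply] using this
  · obtain ⟨v, rfl⟩ := E.surjective w
    rw [hμ v fun i => by simpa [← hp] using hw i, map_zero]

/-- Cyclic automorphisms with the same polynomial are conjugate. -/
theorem Cyc.exists_equiv_conj [FiniteDimensional K V] {y z : V ≃ₗ[K] V} {f : K[X]}
    (hy : Cyc (y : Module.End K V) f) (hz : Cyc (z : Module.End K V) f) :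
    ∃ Q : V ≃ₗ[K] V, z = Q * y * Q⁻¹ := by
  obtain ⟨P, hP⟩ := hy.exists_conj hz
  refine ⟨P, eq_mul_inv_of_mul_eq (LinearEquiv.ext fun v => ?_)⟩
  exact (hP v).symm

end Cfsg.Agent.CoverNum
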