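import Mathlib

/-!
# Two families of disjoint cycles whose product is one cycle

Cycles glued along a tree give a product which is one cycle; a cycle of the second family grows by
two points without spoiling this.
-/

namespace Cfsg.Agent.CoverNum

open List

variable {β : Type*} [DecidableEq β]

/-- The product of a family of cycles. -/
def cprod (cs : List (List β)) : Equiv.Perm β := (cs.map List.formPerm).prod

theorem cprod_cons (c : List β) (cs : List (List β)) : cprod (c :: cs) = c.formPerm * cprod cs := by
  simp [cprod]

theorem cprod_append_singleton (c : List β) (cs : List (List β)) :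
    cprod (cs ++ [c]) = cprod cs * c.formPerm := by simp [cprod]

theorem formPerm_split : ∀ (u : List β) (a : β) (v : List β),
    formPerm (u ++ a :: v) = formPerm (u ++ [a]) * formPerm (a :: v)
  | [], a, v => by simp
  | [x], a, v => by simp [formPerm_cons_cons]
  | x :: y :: u, a, v => by
    have := formPerm_split (y :: u) a v
    simp only [List.cons_append, formPerm_cons_cons] at this ⊢
    rw [this, mul_assoc]

/-- Two cycles meeting in one point. -/
theorem formPerm_mul (a : β) (r s : List β) (h : (a :: (r ++ s)).Nodup) :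
    formPerm (a :: r) * formPerm (a :: s) = formPerm (a :: (s ++ r)) := by
  have hr : (a :: r).Nodup := h.sublist ((List.sublist_append_left r s).cons_cons a)
  have hn : (r ++ a :: s).Nodup := (List.perm_middle (a := a) (l₁ := r) (l₂ := s)).nodup_iff.2 h
  rw [formPerm_eq_of_isRotated hr (IsRotated.cons_append_singleton), ← formPerm_split,
    formPerm_eq_of_isRotated hn (isRotated_append)]
  rfl

theorem cprod_of_notMem {cs : List (List β)} {v : β} (hv : v ∉ cs.flatten) : cprod cs v = v := by
  induction cs with
  | nil => rfl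
  | cons c cs ih =>
    simp only [List.flatten_cons, List.mem_append, not_or] at hv
    rw [cprod_cons, Equiv.Perm.mul_apply, ih hv.2, formPerm_apply_of_notMem hv.1]

theorem cprod_of_mem {cs : List (List β)} (hcs : cs.flatten.Nodup) {c : List β} (hc : c ∈ cs) {v : β}
    (hv : v ∈ c) : cprod cs v = c.formPerm v := by
  induction cs with
  | nil => simp at hc
  | cons d cs ih =>
    rw [List.flatten_cons, List.nodup_append'] at hcs
    obtain ⟨hd, hrest, hdis⟩ := hcs
    rw [cprod_cons, Equiv.Perm.mul_apply]
    rcases List.mem_cons.1 hc with rfl | hc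
    · rw [cprod_of_notMem fun h => hdis hv h]
    · rw [ih hrest hc]
      refine formPerm_apply_of_notMem fun h => hdis h ?_
      exact List.mem_flatten.2 ⟨c, hc, formPerm_apply_mem_of_mem hv⟩

theorem cprod_perm {cs cs' : List (List β)} (h : cs.Perm cs') (hcs : cs.flatten.Nodup) :
    cprod cs = cprod cs' := by
  refine Equiv.ext fun v => ?_
  by_cases hv : v ∈ cs.flatten
  · obtain ⟨c, hc, hvc⟩ := List.mem_flatten.1 hv
    rw [cprod_of_mem hcs hc hvc, cprod_of_mem (h.flatten.nodup_iff.1 hcs) (h.subset hc) hvc]
  · rw [cprod_of_notMem hv, cprod_of_notMem fun h' => hv (h.flatten.symm.subset h')]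

omit [DecidableEq β] in
theorem exists_ordered {γ : Type*} (f : γ → β) : ∀ {cs : List γ} {L : List β}, (cs.map f).Perm L →
    ∃ cs' : List γ, cs'.Perm cs ∧ cs'.map f = L := by
  classical
  intro cs L
  induction L generalizing cs with
  | nil =>
    intro h
    exact ⟨[], by rw [List.map_eq_nil_iff.1 h.eq_nil], rfl⟩
  | cons x L ih =>
    intro h
    obtain ⟨c, hc, rfl⟩ := List.mem_map.1 (h.symm.subset (List.mem_cons_self ..))
    have hp : cs.Perm (c :: cs.erase c) := List.perm_cons_erase hc
    obtain ⟨cs', h1, h2⟩ := ih (List.Perm.cons_inv (a := f c) (((hp.map f).symm).trans h))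
    exact ⟨c :: cs', (h1.cons c).trans hp.symm, by simp [h2]⟩

/-- The excess `Σ (d - 1)`. -/
def exc (L : List ℕ) : ℕ := (L.map fun d => d - 1).sum

/-- The number of even entries. -/
def evens (L : List ℕ) : ℕ := (L.filter fun d => decide (Even d)).length

theorem exc_cons (d : ℕ) (L : List ℕ) : exc (d :: L) = (d - 1) + exc L := by simp [exc]

theorem exc_perm {L L' : List ℕ} (h : L.Perm L') : exc L = exc L' := (h.map _).sum_eq

theorem evens_perm {L L' : List ℕ} (h : L.Perm L') : evens L = evens L' := (h.filter _).length_eq

theorem evens_cons (d : ℕ) (L : List ℕ) :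
    evens (d :: L) = evens L + if Even d then 1 else 0 := by
  by_cases h : Even d <;> simp [evens, h]

theorem sum_eq_exc_add_length {L : List ℕ} (h : ∀ d ∈ L, 1 ≤ d) : L.sum = exc L + L.length := by
  induction L with
  | nil => rfl
  | cons d L ih =>
    have := h d (List.mem_cons_self ..)
    rw [List.sum_cons, exc_cons, List.length_cons, ih fun x hx => h x (List.mem_cons_of_mem _ hx)]
    omega

theorem length_le_exc {L : List ℕ} (h : ∀ d ∈ L, 2 ≤ d) : L.length ≤ exc L := by
  induction L with
  | nil => simp
  | cons d L ih =>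
    have := h d (List.mem_cons_self ..)
    rw [exc_cons, List.length_cons]
    have := ih fun x hx => h x (List.mem_cons_of_mem _ hx)
    omega

/-- Cycles of the given lengths on `0, …, N - 1` whose product is the cycle through all of them. -/
def Arr (N : ℕ) (LA LB : List ℕ) : Prop :=
  ∃ (A B : List (List ℕ)) (G : List ℕ), (A.map List.length).Perm LA ∧ (B.map List.length).Perm LB ∧
    A.flatten.Nodup ∧ B.flatten.Nodup ∧ (∀ v ∈ A.flatten, v < N) ∧ (∀ v ∈ B.flatten, v < N) ∧
    G.Perm (List.range N) ∧ cprod A * cprod B = G.formPerm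

theorem arr_nil : Arr 1 [] [] :=
  ⟨[], [], [0], by simp, by simp, by simp, by simp, by simp, by simp, by simp, by simp [cprod]⟩

theorem exists_free {N : ℕ} {A : List (List ℕ)} (h : A.flatten.length < N) :
    ∃ v < N, v ∉ A.flatten := by
  by_contra hc
  push Not at hc
  have : (List.range N).Subperm A.flatten :=
    List.subperm_of_subset List.nodup_range fun v hv => hc v (List.mem_range.1 hv)
  have := this.length_le
  rw [List.length_range] at this
  omega

theorem rot_to {G : List ℕ} {v : ℕ} (hv : v ∈ G) : ∃ r, G ~r v :: r := by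
  obtain ⟨u, w, rfl⟩ := List.append_of_mem hv
  exact ⟨w ++ u, List.isRotated_append⟩

theorem flatten_length (A : List (List ℕ)) : A.flatten.length = (A.map List.length).sum :=
  List.length_flatten

/-- Attach a cycle of the first family. -/
theorem Arr.attach_left {N : ℕ} {LA LB : List ℕ} (h : Arr N LA LB) {d : ℕ} (hd : 1 ≤ d)
    (hfree : LA.sum < N) : Arr (N + (d - 1)) (d :: LA) LB := by
  obtain ⟨A, B, G, hA, hB, hAn, hBn, hAl, hBl, hG, hAB⟩ := h
  obtain ⟨v, hvN, hvA⟩ := exists_free (N := N) (A := A) (by rw [flatten_length, hA.sum_eq]; exact hfree)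
  obtain ⟨r, hr⟩ := rot_to (G := G) (hG.symm.subset (List.mem_range.2 hvN))
  have hGn : G.Nodup := hG.nodup_iff.2 List.nodup_range
  set s := List.range' N (d - 1) with hs
  have hs' : ∀ x ∈ s, N ≤ x ∧ x < N + (d - 1) := fun x hx => by
    simpa [hs, List.mem_range'_1] using hx
  have hp : (v :: (s ++ r)).Perm (List.range (N + (d - 1))) := by
    refine ((List.perm_append_comm (l₁ := s) (l₂ := r)).cons v).trans ?_
    rw [List.range_add, show (List.range (d - 1)).map (fun x => N + x) = s from
      (List.range'_eq_map_range ..).symm, ← List.cons_append]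
    exact List.Perm.append_right _ (hr.perm.symm.trans hG)
  have hn : (v :: (s ++ r)).Nodup := hp.nodup_iff.2 List.nodup_range
  refine ⟨(v :: s) :: A, B, v :: (r ++ s), ?_, hB, ?_, hBn, ?_, fun x hx => by have := hBl x hx; omega,
    ?_, ?_⟩
  · rw [List.map_cons, List.length_cons, hs, List.length_range', Nat.sub_add_cancel hd]
    exact hA.cons d
  · rw [List.flatten_cons, List.nodup_append']
    refine ⟨List.nodup_cons.2 ⟨fun hv => absurd (hs' v hv).1 (by omega), List.nodup_range'⟩, hAn,
      fun x hx hxA => ?_⟩
    rcases List.mem_cons.1 hx with rfl | hx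
    · exact hvA hxA
    · exact absurd (hAl x hxA) (by have := (hs' x hx).1; omega)
  · intro x hx
    rcases List.mem_append.1 (List.flatten_cons ▸ hx) with hx | hx
    · rcases List.mem_cons.1 hx with rfl | hx
      · omega
      · exact (hs' x hx).2
    · have := hAl x hx; omega
  · exact ((List.perm_append_comm (l₁ := r) (l₂ := s)).cons v).trans hp
  · rw [cprod_cons, mul_assoc, hAB, formPerm_eq_of_isRotated hGn hr, formPerm_mul v s r hn]

/-- Attach a cycle of the second family. -/
theorem Arr.attach_right {N : ℕ} {LA LB : List ℕ} (h : Arr N LA LB) {d : ℕ} (hd : 1 ≤ d)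
    (hfree : LB.sum < N) : Arr (N + (d - 1)) LA (d :: LB) := by
  obtain ⟨A, B, G, hA, hB, hAn, hBn, hAl, hBl, hG, hAB⟩ := h
  obtain ⟨v, hvN, hvB⟩ := exists_free (N := N) (A := B) (by rw [flatten_length, hB.sum_eq]; exact hfree)
  obtain ⟨r, hr⟩ := rot_to (G := G) (hG.symm.subset (List.mem_range.2 hvN))
  have hGn : G.Nodup := hG.nodup_iff.2 List.nodup_range
  set s := List.range' N (d - 1) with hs
  have hs' : ∀ x ∈ s, N ≤ x ∧ x < N + (d - 1) := fun x hx => by
    simpa [hs, List.mem_range'_1] using hx
  have hp : (v :: (r ++ s)).Perm (List.range (N + (d - 1))) := by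
    rw [List.range_add, show (List.range (d - 1)).map (fun x => N + x) = s from
      (List.range'_eq_map_range ..).symm, ← List.cons_append]
    exact List.Perm.append_right _ (hr.perm.symm.trans hG)
  have hn : (v :: (r ++ s)).Nodup := hp.nodup_iff.2 List.nodup_range
  refine ⟨A, B ++ [v :: s], v :: (s ++ r), hA, ?_, hAn, ?_, fun x hx => by have := hAl x hx; omega, ?_,
    ?_, ?_⟩
  · rw [List.map_append, List.map_singleton, List.length_cons, hs, List.length_range',
      Nat.sub_add_cancel hd]
    exact (hB.append_right _).trans (List.perm_append_comm (l₁ := LB) (l₂ := [d]))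
  · rw [List.flatten_append, List.flatten_singleton, List.nodup_append']
    refine ⟨hBn, List.nodup_cons.2 ⟨fun hv => absurd (hs' v hv).1 (by omega), List.nodup_range'⟩,
      fun x hxB hx => ?_⟩
    rcases List.mem_cons.1 hx with rfl | hx
    · exact hvB hxB
    · exact absurd (hBl x hxB) (by have := (hs' x hx).1; omega)
  · intro x hx
    rw [List.flatten_append, List.flatten_singleton] at hx
    rcases List.mem_append.1 hx with hx | hx
    · have := hBl x hx; omega
    · rcases List.mem_cons.1 hx with rfl | hx
      · omega
      · exact (hs' x hx).2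
  · exact ((List.perm_append_comm (l₁ := s) (l₂ := r)).cons v).trans hp
  · rw [cprod_append_singleton, ← mul_assoc, hAB, formPerm_eq_of_isRotated hGn hr, formPerm_mul v r s hn]

theorem Arr.perm {N : ℕ} {LA LA' LB LB' : List ℕ} (h : Arr N LA LB) (hA : LA.Perm LA')
    (hB : LB.Perm LB') : Arr N LA' LB' := by
  obtain ⟨A, B, G, h1, h2, h3⟩ := h
  exact ⟨A, B, G, h1.trans hA, h2.trans hB, h3⟩

/-- Cycles form a tree when they fit. -/
theorem arr_tree : ∀ (k : ℕ) (LA LB : List ℕ), LA.length + LB.length = k →
    (∀ d ∈ LA, 1 ≤ d) → (∀ d ∈ LB, 1 ≤ d) → LA.sum ≤ 1 + exc LA + exc LB →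
    LB.sum ≤ 1 + exc LA + exc LB → Arr (1 + exc LA + exc LB) LA LB := by
  intro k
  induction k with
  | zero =>
    intro LA LB h _ _ _ _
    obtain ⟨rfl, rfl⟩ : LA = [] ∧ LB = [] := ⟨List.length_eq_zero_iff.1 (by omega),
      List.length_eq_zero_iff.1 (by omega)⟩
    exact arr_nil
  | succ k ih =>
    intro LA LB hk hA hB hPA hPB
    have left : ∀ d ∈ LA, LB.sum + (d - 1) ≤ 1 + exc LA + exc LB →
        Arr (1 + exc LA + exc LB) LA LB := fun d hd hB' => by
      have hp := List.perm_cons_erase hd
      have h1 := hA d hd
      have e1 := exc_perm hp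
      rw [exc_cons] at e1
      have s1 := hp.sum_eq
      rw [List.sum_cons] at s1
      have l1 := hp.length_eq
      rw [List.length_cons] at l1
      have := (ih (LA.erase d) LB (by omega) (fun x hx => hA x (List.mem_of_mem_erase hx)) hB (by omega)
        (by omega)).attach_left h1 (by omega)
      rw [show 1 + exc (LA.erase d) + exc LB + (d - 1) = 1 + exc LA + exc LB by omega] at this
      exact this.perm hp.symm (List.Perm.refl _)
    have right : ∀ d ∈ LB, LA.sum + (d - 1) ≤ 1 + exc LA + exc LB →
        Arr (1 + exc LA + exc LB) LA LB := fun d hd hA' => by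
      have hp := List.perm_cons_erase hd
      have h1 := hB d hd
      have e1 := exc_perm hp
      rw [exc_cons] at e1
      have s1 := hp.sum_eq
      rw [List.sum_cons] at s1
      have l1 := hp.length_eq
      rw [List.length_cons] at l1
      have := (ih LA (LB.erase d) (by omega) hA (fun x hx => hB x (List.mem_of_mem_erase hx)) (by omega)
        (by omega)).attach_right h1 (by omega)
      rw [show 1 + exc LA + exc (LB.erase d) + (d - 1) = 1 + exc LA + exc LB by omega] at this
      exact this.perm (List.Perm.refl _) hp.symm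
    by_cases h1 : 1 ∈ LA
    · exact left 1 h1 (by omega)
    by_cases h2 : 1 ∈ LB
    · exact right 1 h2 (by omega)
    have hA2 : ∀ d ∈ LA, 2 ≤ d := fun d hd => by
      have := hA d hd
      rcases eq_or_ne d 1 with rfl | h
      · exact absurd hd h1
      · omega
    have hB2 : ∀ d ∈ LB, 2 ≤ d := fun d hd => by
      have := hB d hd
      rcases eq_or_ne d 1 with rfl | h
      · exact absurd hd h2
      · omega
    have sA := sum_eq_exc_add_length hA
    have sB := sum_eq_exc_add_length hB
    have lA := length_le_exc hA2
    have lB := length_le_exc hB2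
    cases LA with
    | nil =>
      cases LB with
      | nil => simp at hk
      | cons d LB =>
        refine right d (List.mem_cons_self ..) ?_
        simp only [List.sum_nil, exc_cons] at *
        omega
    | cons a LA =>
      by_cases hfit : LB.sum + (a - 1) ≤ 1 + exc (a :: LA) + exc LB
      · exact left a (List.mem_cons_self ..) hfit
      · cases LB with
        | nil => simp [exc_cons] at hfit; omega
        | cons b LB =>
          refine right b (List.mem_cons_self ..) ?_
          have := length_le_exc fun x hx => hA2 x (List.mem_cons_of_mem _ hx)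
          have := length_le_exc fun x hx => hB2 x (List.mem_cons_of_mem _ hx)
          simp only [exc_cons, List.length_cons] at *
          omega

theorem formPerm_swap_split (a b : β) (X W : List β) (h : (a :: (X ++ b :: W)).Nodup) :
    formPerm (a :: (X ++ b :: W)) * Equiv.swap a b = formPerm (b :: X) * formPerm (a :: W) := by
  have hrot : (a :: (X ++ b :: W)) ~r (b :: ((W ++ [a]) ++ X)) := by
    have := List.isRotated_append (l := a :: X) (l' := b :: W)
    simpa using this
  have hn : (b :: ((W ++ [a]) ++ X)).Nodup := hrot.nodup_iff.1 h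
  have hn2 : (b :: (W ++ [a])).Nodup := hn.sublist ((List.sublist_append_left _ X).cons_cons b)
  have hn3 : (a :: b :: W).Nodup := by
    have : (b :: (W ++ [a])) ~r (a :: b :: W) := by
      have := List.isRotated_append (l := b :: W) (l' := [a])
      simpa using this
    exact this.nodup_iff.1 hn2
  have e1 : formPerm (a :: (X ++ b :: W)) = formPerm (b :: X) * formPerm (b :: (W ++ [a])) := by
    rw [formPerm_eq_of_isRotated h hrot, formPerm_mul b X (W ++ [a])
      ((List.Perm.cons b List.perm_append_comm).nodup_iff.1 hn)]
  have e2 : formPerm (b :: (W ++ [a])) = formPerm (a :: W) * Equiv.swap a b := by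
    rw [formPerm_eq_of_isRotated hn2 (l' := a :: ([b] ++ W)) (by
        have := List.isRotated_append (l := b :: W) (l' := [a])
        simpa using this),
      ← formPerm_mul a W [b] ((List.Perm.cons a List.perm_append_comm).nodup_iff.1 hn3), formPerm_pair]
  rw [e1, e2, mul_assoc, mul_assoc, Equiv.swap_mul_self, mul_one]

/-- A three-cycle in the right sense keeps one cycle. -/
theorem formPerm_three (a b c : β) (X Y Z : List β)
    (h : (a :: (X ++ b :: (Y ++ c :: Z))).Nodup) :
    ∃ G : List β, G.Perm (a :: (X ++ b :: (Y ++ c :: Z))) ∧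
      formPerm (a :: (X ++ b :: (Y ++ c :: Z))) * formPerm [a, b, c] = formPerm G := by
  refine ⟨c :: (((X ++ [b])) ++ (Z ++ a :: Y)), ?_, ?_⟩
  · rw [List.perm_iff_count]
    intro x
    simp only [List.count_cons, List.count_append, List.count_nil]
    omega
  · set W := Y ++ c :: Z with hW
    have h1 := List.perm_middle (a := b) (l₁ := X) (l₂ := W)
    have hbX : (b :: X).Nodup := ((h1.nodup_iff.1 (List.nodup_cons.1 h).2)).sublist
      ((List.sublist_append_left X W).cons_cons b)
    have haW : (a :: W).Nodup := h.sublist (((List.sublist_cons_self b W).trans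
      (List.sublist_append_right X (b :: W))).cons_cons a)
    have hdis : ∀ x, x ∈ b :: X → x ∉ a :: W := fun x hx hx' => by
      have hc := List.nodup_iff_count_le_one.1 h x
      have h1 := List.one_le_count_iff.2 hx
      have h2 := List.one_le_count_iff.2 hx'
      simp only [List.count_cons, List.count_append] at hc h1 h2
      omega
    have hrot : (a :: W) ~r (c :: (Z ++ a :: Y)) := by
      have := List.isRotated_append (l := a :: Y) (l' := c :: Z)
      simpa [hW] using this
    have hcomm : formPerm (b :: X) * formPerm (a :: W) = formPerm (a :: W) * formPerm (b :: X) := by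
      refine Equiv.Perm.Disjoint.commute fun x => ?_
      by_cases hx : x ∈ b :: X
      · exact Or.inr (formPerm_apply_of_notMem (hdis x hx))
      · exact Or.inl (formPerm_apply_of_notMem hx)
    have hbc : (b :: (X ++ [c])).Nodup := by
      rw [← List.cons_append, List.nodup_append']
      exact ⟨hbX, List.nodup_singleton c, fun x hx hx' => hdis x hx (by
        simp at hx'; simp [hx', hW])⟩
    have hall : (c :: ((Z ++ a :: Y) ++ (X ++ [b]))).Nodup := by
      refine (List.Perm.nodup_iff ?_).1 h
      rw [List.perm_iff_count]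
      intro x
      simp only [hW, List.count_cons, List.count_append, List.count_nil]
      omega
    rw [formPerm_cons_cons a b [c], formPerm_pair, ← mul_assoc, formPerm_swap_split a b X W h, hcomm,
      mul_assoc, ← formPerm_pair b c, formPerm_mul b X [c] hbc,
      formPerm_eq_of_isRotated (l := b :: ([c] ++ X)) (l' := c :: (X ++ [b]))
        ((List.Perm.cons b List.perm_append_comm).nodup_iff.1 hbc)
        (by have := List.isRotated_append (l := [b]) (l' := c :: X); simpa using this),
      formPerm_eq_of_isRotated haW hrot, formPerm_mul c _ _ hall]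

/-- A cycle of the second family grows by two. -/
theorem Arr.grow {N d : ℕ} {LA LB : List ℕ} (h : Arr N LA (d :: LB)) (hd : 1 ≤ d)
    (hfree : d + LB.sum + 2 ≤ N) : Arr N LA ((d + 2) :: LB) := by
  obtain ⟨A, B, G, hA, hB, hAn, hBn, hAl, hBl, hG, hAB⟩ := h
  obtain ⟨B', hp, hB'⟩ := exists_ordered List.length hB
  obtain ⟨c, R, rfl⟩ : ∃ c R, B' = c :: R := by
    cases B' with
    | nil => simp at hB'
    | cons c R => exact ⟨c, R, rfl⟩
  simp only [List.map_cons, List.cons.injEq] at hB'
  obtain ⟨hc, hR⟩ := hB'
  obtain ⟨a, r, rfl⟩ : ∃ a r, c = a :: r := by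
    cases c with
    | nil => simp at hc; omega
    | cons a r => exact ⟨a, r, rfl⟩
  have hp' : (R ++ [a :: r]).Perm B := (List.perm_append_comm (l₁ := R) (l₂ := [a :: r])).trans hp
  have hn' : (R ++ [a :: r]).flatten.Nodup := hp'.flatten.nodup_iff.2 hBn
  have hlen : (R ++ [a :: r]).flatten.length = d + LB.sum := by
    rw [flatten_length, List.map_append, List.map_singleton, hR, List.sum_append, List.sum_singleton,
      hc, add_comm]
  have haN : a < N := hBl a (hp'.flatten.subset (by simp))
  obtain ⟨p, hpN, hpB⟩ := exists_free (N := N) (A := R ++ [a :: r]) (by omega)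
  obtain ⟨q, hqN, hqB⟩ := exists_free (N := N) (A := [p] :: (R ++ [a :: r])) (by
    rw [List.flatten_cons, List.length_append, List.length_singleton, hlen]; omega)
  simp only [List.flatten_cons, List.mem_append, List.mem_singleton, not_or] at hqB
  have hGn : G.Nodup := hG.nodup_iff.2 List.nodup_range
  obtain ⟨g, hg⟩ := rot_to (G := G) (hG.symm.subset (List.mem_range.2 haN))
  have hgn : (a :: g).Nodup := hg.nodup_iff.1 hGn
  have hmem : ∀ x < N, x ≠ a → x ∈ g := fun x hx hxa => by
    have := hg.perm.subset (hG.symm.subset (List.mem_range.2 hx))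
    simpa [hxa] using this
  have hpa : p ≠ a := fun e => hpB (by simp [e])
  have hqa : q ≠ a := fun e => hqB.2 (by simp [e])
  obtain ⟨X, W, hgs⟩ := List.append_of_mem (hmem p hpN hpa)
  -- name the two new points in their cyclic order
  obtain ⟨b, c', X, Y, Z, hg', hbc⟩ : ∃ (b c' : ℕ) (X Y Z : List ℕ), g = X ++ b :: (Y ++ c' :: Z) ∧
      (b = p ∧ c' = q ∨ b = q ∧ c' = p) := by
    have hq : q ∈ X ∨ q ∈ W := by
      have h' := hmem q hqN hqa
      rw [hgs] at h'
      simpa [hqB.1] using h'
    rcases hq with hq | hq
    · obtain ⟨X₁, X₂, hX⟩ := List.append_of_mem hq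
      exact ⟨q, p, X₁, X₂, W, by simp [hgs, hX], Or.inr ⟨rfl, rfl⟩⟩
    · obtain ⟨W₁, W₂, hW⟩ := List.append_of_mem hq
      exact ⟨p, q, X, W₁, W₂, by simp [hgs, hW], Or.inl ⟨rfl, rfl⟩⟩
  obtain ⟨G', hG', hprod⟩ := formPerm_three a b c' X Y Z (hg' ▸ hgn)
  have hnew : (a :: (r ++ [b, c'])).Nodup ∧ (∀ x ∈ [b, c'], x ∉ R.flatten) := by
    have hn := hn'
    rw [List.flatten_append, List.flatten_singleton, List.nodup_append'] at hn
    have hpB' : p ∉ R.flatten ∧ p ∉ a :: r := by
      constructor <;> intro h' <;> exact hpB (by rw [List.flatten_append, List.flatten_singleton]; simp [h'])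
    have hqB' : q ∉ R.flatten ∧ q ∉ a :: r := by
      constructor <;> intro h' <;>
        exact hqB.2 (by rw [List.flatten_append, List.flatten_singleton]; simp [h'])
    refine ⟨?_, ?_⟩
    · rw [← List.cons_append, List.nodup_append']
      refine ⟨hn.2.1, ?_, ?_⟩
      · rcases hbc with ⟨rfl, rfl⟩ | ⟨rfl, rfl⟩
        · simp [Ne.symm hqB.1]
        · simp [hqB.1]
      · intro x hx hx'
        rcases hbc with ⟨rfl, rfl⟩ | ⟨rfl, rfl⟩ <;> simp only [List.mem_cons, List.not_mem_nil, or_false] at hx' <;>
          rcases hx' with rfl | rfl <;> first | exact hpB'.2 hx | exact hqB'.2 hx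
    · intro x hx
      rcases hbc with ⟨rfl, rfl⟩ | ⟨rfl, rfl⟩ <;> simp only [List.mem_cons, List.not_mem_nil, or_false] at hx <;>
        rcases hx with rfl | rfl <;> first | exact hpB'.1 | exact hqB'.1
  refine ⟨A, R ++ [a :: ([b, c'] ++ r)], G', hA, ?_, hAn, ?_, hAl, ?_, ?_, ?_⟩
  · rw [List.map_append, List.map_singleton, hR]
    simp only [List.cons_append, List.nil_append, List.length_cons] at hc ⊢
    rw [show r.length + 1 + 1 + 1 = d + 2 by omega]
    exact List.perm_append_comm (l₁ := LB) (l₂ := [d + 2])
  · have hn := hn'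
    rw [List.flatten_append, List.flatten_singleton, List.nodup_append'] at hn ⊢
    refine ⟨hn.1, ((List.Perm.cons a List.perm_append_comm).nodup_iff.1 hnew.1), fun x hxR hx => ?_⟩
    have : x ∈ a :: r ∨ x ∈ [b, c'] := by
      simp only [List.mem_cons, List.cons_append, List.nil_append, List.not_mem_nil, or_false] at hx ⊢
      tauto
    exact this.elim (fun h' => hn.2.2 hxR h') fun h' => hnew.2 x h' hxR
  · intro x hx
    rw [List.flatten_append, List.flatten_singleton] at hx
    rcases List.mem_append.1 hx with hx | hx
    · exact hBl x (hp'.flatten.subset (by simp only [List.flatten_append, List.mem_append]; exact Or.inl hx))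
    · simp only [List.cons_append, List.nil_append, List.mem_cons] at hx
      have hbN : b < N ∧ c' < N := by rcases hbc with ⟨rfl, rfl⟩ | ⟨rfl, rfl⟩ <;> exact ⟨by omega, by omega⟩
      rcases hx with rfl | rfl | rfl | hx
      · exact haN
      · exact hbN.1
      · exact hbN.2
      · exact hBl x (hp'.flatten.subset (by simp [hx]))
  · exact hG'.trans ((List.Perm.of_eq (by rw [hg'])).trans (hg.perm.symm.trans hG))
  · rw [cprod_append_singleton, ← formPerm_mul a r [b, c'] hnew.1, ← mul_assoc (cprod R),
      ← cprod_append_singleton, cprod_perm hp' hn', ← mul_assoc, hAB,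
      formPerm_eq_of_isRotated hGn hg, hg', hprod]

/-- **Cycle types with one cycle as product.** -/
theorem exists_arr : ∀ (k N : ℕ) (LA LB : List ℕ), (∀ d ∈ LA, 1 ≤ d) → (∀ d ∈ LB, 1 ≤ d) →
    exc LA + exc LB + 1 = N + 2 * k → LA.sum ≤ N → LB.sum ≤ N → exc LA + evens LB + 1 ≤ N →
    Arr N LA LB := by
  intro k
  induction k with
  | zero =>
    intro N LA LB hA hB hN hPA hPB _
    rw [show N = 1 + exc LA + exc LB by omega] at hPA hPB ⊢
    exact arr_tree _ LA LB rfl hA hB hPA hPB
  | succ k ih =>
    intro N LA LB hA hB hN hPA hPB hev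
    obtain ⟨d, hd, hd3⟩ : ∃ d ∈ LB, 3 ≤ d := by
      by_contra hc
      push Not at hc
      have : exc LB ≤ evens LB := by
        clear hN hev hPB ih
        induction LB with
        | nil => simp [exc]
        | cons x L ihL =>
          have := hc x (List.mem_cons_self ..)
          have := hB x (List.mem_cons_self ..)
          rw [exc_cons, evens_cons]
          have := ihL (fun y hy => hB y (List.mem_cons_of_mem _ hy)) fun y hy => hc y (List.mem_cons_of_mem _ hy)
          rcases (show x = 1 ∨ x = 2 by omega) with rfl | rfl <;> simp <;> omega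
      omega
    have hp := List.perm_cons_erase hd
    have e1 := exc_perm hp
    have e2 := evens_perm hp
    have s1 := hp.sum_eq
    rw [exc_cons] at e1
    rw [evens_cons] at e2
    rw [List.sum_cons] at s1
    have hev' : (Even (d - 2) ↔ Even d) := by
      rw [Nat.even_sub (by omega)]; simp
    have := ih N LA ((d - 2) :: LB.erase d) hA (fun x hx => by
      rcases List.mem_cons.1 hx with rfl | hx
      · omega
      · exact hB x (List.mem_of_mem_erase hx)) (by rw [exc_cons]; omega) hPA
      (by rw [List.sum_cons]; omega) (by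
        rw [evens_cons]
        by_cases h : Even d
        · rw [if_pos (hev'.2 h)]; rw [if_pos h] at e2; omega
        · rw [if_neg (mt hev'.1 h)]; rw [if_neg h] at e2; omega)
    have := this.grow (by omega) (by omega)
    rw [show d - 2 + 2 = d by omega] at this
    exact this.perm (List.Perm.refl _) hp.symm

end Cfsg.Agent.CoverNum
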