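import Mathlib
import Cfsg.Agent.CoverNum.Basic
import Cfsg.Agent.CoverNum.Perm

/-!
# Products of block companion automorphisms in Bruhat cells

Companion blocks placed along the cycles of a permutation lie in a left or a right cell; when the
product of the permutations is one long cycle, the product is Hessenberg.
-/

namespace Cfsg.Agent.CoverNum

open Module List OreSL Polynomial

variable {K : Type*} [Field K] {V : Type*} [AddCommGroup V] [Module K V] {n : ℕ}

/-- Companion blocks along the cycles, the last vector of a block having, besides its own block,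
components on the listed extra nodes; the identity times `μ` elsewhere. -/
def Pat (e : Basis (Fin n) K V) (cs : List (List (Fin n) × List (Fin n))) (μ : K)
    (y : V ≃ₗ[K] V) : Prop :=
  (∀ v, v ∉ (cs.map Prod.fst).flatten → y (e v) = μ • e v) ∧
    ∀ p ∈ cs, ∀ h t, p.1 = h :: t → ∀ w ∈ p.1,
      (p.1.formPerm w ≠ h → y (e w) = e (p.1.formPerm w)) ∧
      (p.1.formPerm w = h → ∃ a : K, a ≠ 0 ∧
        y (e w) - a • e h ∈ Submodule.span K (e '' {x | x ∈ t ∨ x ∈ p.2}))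

/-- The left cell of `α`, scalar from `N` on. -/
def LCell (e : Basis (Fin n) K V) (α : Equiv.Perm (Fin n)) (N : ℕ) (μ : K) (y : V ≃ₗ[K] V) : Prop :=
  (∀ v : Fin n, (v : ℕ) < N → ∃ a : K, a ≠ 0 ∧
      y (e v) - a • e (α v) ∈ Submodule.span K (e '' {x | x < α v})) ∧
    ∀ v : Fin n, N ≤ (v : ℕ) → y (e v) = μ • e v

/-- The right cell of `π`, scalar from `N` on. -/
def RCell (e : Basis (Fin n) K V) (π : Equiv.Perm (Fin n)) (N : ℕ) (μ : K) (y : V ≃ₗ[K] V) : Prop :=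
  (∀ v : Fin n, (v : ℕ) < N → ∃ a : K, a ≠ 0 ∧
      y (e v) - a • e (π v) ∈ Submodule.span K (e '' {x | ∃ j, j < v ∧ x = π j})) ∧
    ∀ v : Fin n, N ≤ (v : ℕ) → y (e v) = μ • e v

/-- Hessenberg on the first `N` nodes, scalar from `N` on. -/
def Hess (e : Basis (Fin n) K V) (N : ℕ) (μ : K) (y : V ≃ₗ[K] V) : Prop :=
  (∀ v v' : Fin n, (v : ℕ) + 1 < N → (v' : ℕ) = v + 1 → ∃ a : K, a ≠ 0 ∧
      y (e v) - a • e v' ∈ Submodule.span K (e '' {x | x < v'})) ∧
    (∀ v : Fin n, (v : ℕ) + 1 = N → y (e v) ∈ Submodule.span K (e '' {x | (x : ℕ) < N})) ∧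
      ∀ v : Fin n, N ≤ (v : ℕ) → y (e v) = μ • e v

theorem map_mem_span (e : Basis (Fin n) K V) (f : V →ₗ[K] V) {S : Set (Fin n)} {T : Submodule K V}
    (h : ∀ x ∈ S, f (e x) ∈ T) {v : V} (hv : v ∈ Submodule.span K (e '' S)) : f v ∈ T := by
  have : Submodule.span K (e '' S) ≤ T.comap f := Submodule.span_le.2 (by
    rintro _ ⟨x, hx, rfl⟩; exact h x hx)
  exact this hv

theorem cell_mul {e : Basis (Fin n) K V} {α π : Equiv.Perm (Fin n)} {N : ℕ} {μ ν : K}
    {y z : V ≃ₗ[K] V} (hy : LCell e α N μ y) (hz : RCell e π N ν z)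
    (hπ : ∀ v : Fin n, (v : ℕ) < N → (π v : ℕ) < N)
    (hγ : ∀ v : Fin n, (v : ℕ) + 1 < N → (α (π v) : ℕ) = v + 1)
    (hγN : ∀ v : Fin n, (v : ℕ) < N → (α (π v) : ℕ) < N) : Hess e N (μ * ν) (y * z) := by
  -- a column of the left factor
  have col : ∀ v : Fin n, (v : ℕ) < N →
      y (e v) ∈ Submodule.span K (e '' {x | x ≤ α v}) := fun v hv => by
    obtain ⟨a, -, ha⟩ := hy.1 v hv
    have h1 : a • e (α v) ∈ Submodule.span K (e '' {x | x ≤ α v}) :=
      Submodule.smul_mem _ _ (Submodule.subset_span ⟨α v, le_rfl (a := α v), rfl⟩)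
    have h2 := Submodule.span_mono (Set.image_mono fun x (hx : x < α v) => (le_of_lt hx : x ≤ α v)) ha
    simpa using add_mem h1 h2
  refine ⟨fun v v' hv hv' => ?_, fun v hv => ?_, fun v hv => ?_⟩
  · obtain ⟨b, hb0, hb⟩ := hz.1 v (by omega)
    obtain ⟨a, ha0, ha⟩ := hy.1 (π v) (hπ v (by omega))
    have hvv : α (π v) = v' := Fin.ext (by rw [hγ v hv, hv'])
    rw [hvv] at ha
    refine ⟨b * a, mul_ne_zero hb0 ha0, ?_⟩
    have h1 : y (z (e v) - b • e (π v)) ∈ Submodule.span K (e '' {x | x < v'}) :=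
      map_mem_span e (y : V →ₗ[K] V) (fun x hx => by
        obtain ⟨j, hj, rfl⟩ := hx
        have hj' : (j : ℕ) < v := hj
        refine Submodule.span_mono (Set.image_mono fun x (hx : x ≤ α (π j)) => ?_) (col (π j) (hπ j (by omega)))
        show (x : ℕ) < v'
        have h : (x : ℕ) ≤ α (π j) := hx
        rw [hγ j (by omega)] at h
        omega) hb
    have h2 := Submodule.smul_mem _ b ha
    have e1 : (y * z) (e v) - (b * a) • e v' =
        y (z (e v) - b • e (π v)) + b • (y (e (π v)) - a • e v') := by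
      rw [map_sub, map_smul, smul_sub, smul_smul, show (y * z) (e v) = y (z (e v)) from rfl]
      abel
    rw [e1]
    exact add_mem h1 h2
  · obtain ⟨b, -, hb⟩ := hz.1 v (by omega)
    have hall : ∀ j : Fin n, (j : ℕ) < N →
        y (e (π j)) ∈ Submodule.span K (e '' {x | (x : ℕ) < N}) := fun j hj =>
      Submodule.span_mono (Set.image_mono fun x (hx : x ≤ α (π j)) =>
        lt_of_le_of_lt (show (x : ℕ) ≤ α (π j) from hx) (hγN j hj)) (col (π j) (hπ j hj))
    have h1 : y (z (e v) - b • e (π v)) ∈ Submodule.span K (e '' {x | (x : ℕ) < N}) :=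
      map_mem_span e (y : V →ₗ[K] V) (fun x hx => by
        obtain ⟨j, hj, rfl⟩ := hx
        exact hall j (by have : (j : ℕ) < v := hj; omega)) hb
    have := add_mem h1 (Submodule.smul_mem _ b (hall v (by omega)))
    rwa [map_sub, map_smul, sub_add_cancel] at this
  · show y (z (e v)) = _
    rw [hz.2 v hv, map_smul, hy.2 v hv, smul_smul, mul_comm]

theorem exists_perm_map : ∀ {l l' : List (Fin n)}, l.Nodup → l'.Nodup → l.length = l'.length →
    ∃ σ : Equiv.Perm (Fin n), l.map σ = l'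
  | [], [], _, _, _ => ⟨1, rfl⟩
  | [], _ :: _, _, _, h => by simp at h
  | _ :: _, [], _, _, h => by simp at h
  | a :: l, a' :: l', hl, hl', h => by
    obtain ⟨σ, hσ⟩ := exists_perm_map (List.nodup_cons.1 hl).2 (List.nodup_cons.1 hl').2 (by simpa using h)
    refine ⟨Equiv.swap (σ a) a' * σ, ?_⟩
    rw [List.map_cons, Equiv.Perm.mul_apply, Equiv.swap_apply_left]
    refine congrArg _ ((List.map_congr_left fun x hx => ?_).trans hσ)
    have hx' : σ x ∈ l' := hσ ▸ List.mem_map_of_mem hx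
    rw [Equiv.Perm.mul_apply, Equiv.swap_apply_of_ne_of_ne]
    · exact fun e => (List.nodup_cons.1 hl).1 (σ.injective e ▸ hx)
    · exact fun e => (List.nodup_cons.1 hl').1 (e ▸ hx')

theorem map_eq_of_flatten {γ δ : Type*} (f : γ → δ) : ∀ {cs : List (List γ)} {cs' : List (List δ)},
    cs.map List.length = cs'.map List.length → cs.flatten.map f = cs'.flatten →
      cs.map (List.map f) = cs'
  | [], [], _, _ => rfl
  | [], _ :: _, h, _ => by simp at h
  | _ :: _, [], h, _ => by simp at h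
  | c :: cs, c' :: cs', h, h' => by
    simp only [List.map_cons, List.cons.injEq] at h ⊢
    rw [List.flatten_cons, List.flatten_cons, List.map_append] at h'
    obtain ⟨h1, h2⟩ := List.append_inj h' (by simp [h.1])
    exact ⟨h1, map_eq_of_flatten f h.2 h2⟩

theorem formPerm_map_of_injOn {β γ : Type*} [DecidableEq β] [DecidableEq γ] (f : β → γ) :
    ∀ {l : List β} {v : β}, Set.InjOn f {x | x ∈ v :: l} →
      (l.map f).formPerm (f v) = f (l.formPerm v)
  | [], v, _ => by simp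
  | [x], v, _ => by simp
  | x :: y :: l, v, h => by
    have ih := formPerm_map_of_injOn f (l := y :: l) (v := v) (h.mono (by
      intro z hz; simp only [Set.mem_ofPred_eq, List.mem_cons] at hz ⊢; tauto))
    simp only [List.map_cons, formPerm_cons_cons, Equiv.Perm.mul_apply] at ih ⊢
    rw [ih]
    set u := (y :: l).formPerm v
    have hu : u ∈ v :: x :: y :: l := by
      by_cases hv : v ∈ y :: l
      · exact List.mem_cons_of_mem _ (List.mem_cons_of_mem _ (formPerm_apply_mem_of_mem hv))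
      · simp [u, formPerm_apply_of_notMem hv]
    rcases eq_or_ne u x with hx | hx
    · rw [hx, Equiv.swap_apply_left, Equiv.swap_apply_left]
    rcases eq_or_ne u y with hy | hy
    · rw [hy, Equiv.swap_apply_right, Equiv.swap_apply_right]
    rw [Equiv.swap_apply_of_ne_of_ne hx hy, Equiv.swap_apply_of_ne_of_ne]
    · exact fun e => hx (h hu (by simp) e)
    · exact fun e => hy (h hu (by simp) e)

/-- Pure companion blocks. -/
def pure' (cs : List (List (Fin n))) : List (List (Fin n) × List (Fin n)) := cs.map fun c => (c, [])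

theorem pure'_fst (cs : List (List (Fin n))) : (pure' cs).map Prod.fst = cs := by
  simp [pure', List.map_map, Function.comp_def]

/-- Reindexing. -/
theorem Pat.reindex {e : Basis (Fin n) K V} {cs : List (List (Fin n) × List (Fin n))} {μ : K}
    {y : V ≃ₗ[K] V} (h : Pat e cs μ y) (σ : Equiv.Perm (Fin n)) :
    ∃ Q : V ≃ₗ[K] V, Pat e (cs.map fun p => (p.1.map σ, p.2.map σ)) μ (Q * y * Q⁻¹) := by
  let Q : V ≃ₗ[K] V := e.equiv e σ
  have hQ : ∀ v, Q (e v) = e (σ v) := fun v => e.equiv_apply v e σ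
  have hQy : ∀ v, (Q * y * Q⁻¹) (e (σ v)) = Q (y (e v)) := fun v => by
    show Q (y (Q.symm (e (σ v)))) = _
    rw [← hQ, Q.symm_apply_apply]
  refine ⟨Q, fun v hv => ?_, ?_⟩
  · obtain ⟨v, rfl⟩ := σ.surjective v
    rw [hQy, h.1 v fun hv' => hv ?_, map_smul, hQ]
    simp only [List.map_map, List.mem_flatten, List.mem_map] at hv' ⊢
    obtain ⟨l, ⟨p, hp, rfl⟩, hl⟩ := hv'
    exact ⟨p.1.map σ, ⟨p, hp, rfl⟩, List.mem_map_of_mem hl⟩
  · intro q hq h' t' he w hw
    obtain ⟨p, hp, rfl⟩ := List.mem_map.1 hq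
    obtain ⟨h0, t, hpe, rfl, rfl⟩ : ∃ h0 t, p.1 = h0 :: t ∧ σ h0 = h' ∧ t.map σ = t' :=
      List.map_eq_cons_iff.1 he
    obtain ⟨w₀, hw₀, rfl⟩ := List.mem_map.1 hw
    obtain ⟨h1, h2⟩ := h.2 p hp h0 t hpe w₀ hw₀
    have hf : (p.1.map σ).formPerm (σ w₀) = σ (p.1.formPerm w₀) :=
      formPerm_map_of_injOn σ (σ.injective.injOn)
    simp only [hf, hQy]
    refine ⟨fun hne => by rw [h1 fun e => hne (by rw [e]), hQ], fun heq => ?_⟩
    obtain ⟨a, ha, hmem⟩ := h2 (σ.injective heq)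
    refine ⟨a, ha, ?_⟩
    rw [show Q (y (e w₀)) - a • e (σ h0) = (Q : V →ₗ[K] V) (y (e w₀) - a • e h0) by
      simp [map_sub, map_smul, hQ]]
    refine map_mem_span e _ (fun x hx => ?_) hmem
    show Q (e x) ∈ _
    rw [hQ]
    refine Submodule.subset_span ⟨σ x, ?_, rfl⟩
    rcases hx with hx | hx
    · exact Or.inl (List.mem_map_of_mem hx)
    · exact Or.inr (List.mem_map_of_mem hx)

/-- A block may start anywhere once every node is equally placed: rotated lists have one cycle. -/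
theorem exists_rot_head {c : List (Fin n)} {m : Fin n} (hm : m ∈ c) : ∃ r, c ~r m :: r := by
  obtain ⟨u, w, rfl⟩ := List.append_of_mem hm
  exact ⟨w ++ u, List.isRotated_append⟩

theorem exists_max {c : List (Fin n)} (hc : c ≠ []) : ∃ m ∈ c, ∀ x ∈ c, x ≤ m := by
  obtain ⟨m, hm, hmax⟩ := c.toFinset.exists_max_image id ⟨c.head hc, by simp⟩
  exact ⟨m, List.mem_toFinset.1 hm, fun x hx => hmax x (List.mem_toFinset.2 hx)⟩

/-- Scaling one node. -/
theorem exists_diag (e : Basis (Fin n) K V) (u : Kˣ) (hn : 1 ≤ n) :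
    ∃ D : V ≃ₗ[K] V, LinearEquiv.det D = u ∧ ∀ v, ∃ a : K, a ≠ 0 ∧ D (e v) = a • e v := by
  classical
  let d : Fin n → K := fun v => if (v : ℕ) = 0 then (u : K) else 1
  have hd : ∀ v, d v ≠ 0 := fun v => by simp only [d]; split_ifs <;> simp
  let D : V ≃ₗ[K] V := e.equiv (e.unitsSMul fun v => Units.mk0 (d v) (hd v)) (Equiv.refl _)
  have hD : ∀ v, D (e v) = d v • e v := fun v => by simp [D, Basis.unitsSMul_apply]
  refine ⟨D, Units.ext ?_, fun v => ⟨d v, hd v, hD v⟩⟩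
  have hm : LinearMap.toMatrix e e (D : V →ₗ[K] V) = Matrix.diagonal d := by
    ext i j
    rw [LinearMap.toMatrix_apply, LinearEquiv.coe_coe, hD]
    simp [Matrix.diagonal_apply, Finsupp.single_apply, eq_comm]
    aesop
  rw [LinearEquiv.coe_det, ← LinearMap.det_toMatrix e, hm, Matrix.det_diagonal,
    Finset.prod_eq_single (⟨0, by omega⟩ : Fin n)]
  · simp [d]
  · intro b _ hb
    simp [d, show (b : ℕ) ≠ 0 from fun h => hb (Fin.ext h)]
  · simp

theorem conj_diag {e : Basis (Fin n) K V} {y D : V ≃ₗ[K] V}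
    (hD : ∀ v, ∃ a : K, a ≠ 0 ∧ D (e v) = a • e v) (v : Fin n) :
    ∃ b : K, b ≠ 0 ∧ (D * y * D⁻¹) (e v) = b • D (y (e v)) := by
  obtain ⟨a, ha, h⟩ := hD v
  refine ⟨a⁻¹, inv_ne_zero ha, ?_⟩
  show D (y (D.symm (e v))) = _
  rw [show D.symm (e v) = a⁻¹ • e v from D.injective (by
    rw [D.apply_symm_apply, map_smul, h, smul_smul, inv_mul_cancel₀ ha, one_smul]), map_smul, map_smul]

theorem conj_diag_span {e : Basis (Fin n) K V} {y D : V ≃ₗ[K] V}
    (hD : ∀ v, ∃ a : K, a ≠ 0 ∧ D (e v) = a • e v) {v w : Fin n} {S : Set (Fin n)}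
    (h : ∃ a : K, a ≠ 0 ∧ y (e v) - a • e w ∈ Submodule.span K (e '' S)) :
    ∃ a : K, a ≠ 0 ∧ (D * y * D⁻¹) (e v) - a • e w ∈ Submodule.span K (e '' S) := by
  obtain ⟨a, ha, hm⟩ := h
  obtain ⟨b, hb, e1⟩ := conj_diag (y := y) hD v
  obtain ⟨c, hc, e2⟩ := hD w
  refine ⟨b * a * c, mul_ne_zero (mul_ne_zero hb ha) hc, ?_⟩
  rw [e1, show b • D (y (e v)) - (b * a * c) • e w = b • (D : V →ₗ[K] V) (y (e v) - a • e w) by
    rw [map_sub, map_smul, smul_sub]; simp [e2, smul_smul, mul_assoc]]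
  refine Submodule.smul_mem _ _ (map_mem_span e _ (fun x hx => ?_) hm)
  obtain ⟨d, -, e3⟩ := hD x
  show D (e x) ∈ _
  rw [e3]
  exact Submodule.smul_mem _ _ (Submodule.subset_span ⟨x, hx, rfl⟩)

theorem conj_diag_scalar {e : Basis (Fin n) K V} {y D : V ≃ₗ[K] V}
    (hD : ∀ v, ∃ a : K, a ≠ 0 ∧ D (e v) = a • e v) {v : Fin n} {μ : K} (h : y (e v) = μ • e v) :
    (D * y * D⁻¹) (e v) = μ • e v := by
  obtain ⟨a, ha, e0⟩ := hD v
  show D (y (D.symm (e v))) = _
  rw [show D.symm (e v) = a⁻¹ • e v from D.injective (by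
    rw [D.apply_symm_apply, map_smul, e0, smul_smul, inv_mul_cancel₀ ha, one_smul]), map_smul, h,
    smul_smul, map_smul, e0, smul_smul]
  congr 1
  field_simp

theorem LCell.det_one {e : Basis (Fin n) K V} {α : Equiv.Perm (Fin n)} {N : ℕ} {μ : K}
    {y Q : V ≃ₗ[K] V} (hn : 1 ≤ n) (h : LCell e α N μ (Q * y * Q⁻¹)) :
    ∃ P : V ≃ₗ[K] V, LinearEquiv.det P = 1 ∧ LCell e α N μ (P * y * P⁻¹) := by
  obtain ⟨D, hD, hDe⟩ := exists_diag e (LinearEquiv.det Q)⁻¹ hn
  refine ⟨D * Q, by simp [hD], ?_⟩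
  rw [show D * Q * y * (D * Q)⁻¹ = D * (Q * y * Q⁻¹) * D⁻¹ by group]
  exact ⟨fun v hv => conj_diag_span hDe (h.1 v hv), fun v hv => conj_diag_scalar hDe (h.2 v hv)⟩

theorem RCell.det_one {e : Basis (Fin n) K V} {π : Equiv.Perm (Fin n)} {N : ℕ} {μ : K}
    {y Q : V ≃ₗ[K] V} (hn : 1 ≤ n) (h : RCell e π N μ (Q * y * Q⁻¹)) :
    ∃ P : V ≃ₗ[K] V, LinearEquiv.det P = 1 ∧ RCell e π N μ (P * y * P⁻¹) := by
  obtain ⟨D, hD, hDe⟩ := exists_diag e (LinearEquiv.det Q)⁻¹ hn
  refine ⟨D * Q, by simp [hD], ?_⟩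
  rw [show D * Q * y * (D * Q)⁻¹ = D * (Q * y * Q⁻¹) * D⁻¹ by group]
  exact ⟨fun v hv => conj_diag_span hDe (h.1 v hv), fun v hv => conj_diag_scalar hDe (h.2 v hv)⟩

/-- `y` is similar to companion blocks of the given lengths and `μ` elsewhere. -/
def HasForm (e : Basis (Fin n) K V) (L : List ℕ) (μ : K) (y : V ≃ₗ[K] V) : Prop :=
  ∃ (Q : V ≃ₗ[K] V) (cs : List (List (Fin n))), cs.map List.length = L ∧ cs.flatten.Nodup ∧
    Pat e (pure' cs) μ (Q * y * Q⁻¹)

/-- As `HasForm`, but the first block is linked into the second. -/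
def HasForm₂ (e : Basis (Fin n) K V) (p q : ℕ) (L : List ℕ) (μ : K) (y : V ≃ₗ[K] V) : Prop :=
  ∃ (Q : V ≃ₗ[K] V) (c d : List (Fin n)) (u : Fin n) (cs : List (List (Fin n))),
    c.length = p ∧ d.length = q ∧ u ∈ d ∧ cs.map List.length = L ∧
      (c :: d :: cs).flatten.Nodup ∧ Pat e ((c, [u]) :: (d, []) :: pure' cs) μ (Q * y * Q⁻¹)

theorem Pat.cell_left {e : Basis (Fin n) K V} {cs : List (List (Fin n) × List (Fin n))} {μ : K}
    {y : V ≃ₗ[K] V} {N : ℕ} (h : Pat e cs μ y) (hn : (cs.map Prod.fst).flatten.Nodup)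
    (hN : ∀ v ∈ (cs.map Prod.fst).flatten, (v : ℕ) < N) (hμ : μ ≠ 0)
    (hmax : ∀ p ∈ cs, ∀ m t, p.1 = m :: t → (∀ x ∈ t, x < m) ∧ ∀ x ∈ p.2, x < m) :
    LCell e (cprod (cs.map Prod.fst)) N μ y := by
  refine ⟨fun v _ => ?_, fun v hv => h.1 v fun hv' => absurd (hN v hv') (by omega)⟩
  by_cases hv : v ∈ (cs.map Prod.fst).flatten
  · obtain ⟨c, hc, hvc⟩ := List.mem_flatten.1 hv
    obtain ⟨p, hp, rfl⟩ := List.mem_map.1 hc
    rw [cprod_of_mem hn hc hvc]
    obtain ⟨m, t, hmt⟩ : ∃ m t, p.1 = m :: t := by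
      cases h' : p.1 with
      | nil => rw [h'] at hvc; simp at hvc
      | cons m t => exact ⟨m, t, rfl⟩
    obtain ⟨h1, h2⟩ := h.2 p hp m t hmt v hvc
    rcases eq_or_ne (p.1.formPerm v) m with he | he
    · obtain ⟨a, ha, hm⟩ := h2 he
      rw [he]
      refine ⟨a, ha, Submodule.span_mono (Set.image_mono ?_) hm⟩
      rintro x (hx | hx)
      · exact (hmax p hp m t hmt).1 x hx
      · exact (hmax p hp m t hmt).2 x hx
    · exact ⟨1, one_ne_zero, by rw [h1 he, one_smul, sub_self]; exact Submodule.zero_mem _⟩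
  · rw [cprod_of_notMem hv, h.1 v hv]
    exact ⟨μ, hμ, by rw [sub_self]; exact Submodule.zero_mem _⟩

theorem Pat.cell_right {e : Basis (Fin n) K V} {cs : List (List (Fin n))} {μ : K} {y : V ≃ₗ[K] V}
    {N : ℕ} (h : Pat e (pure' cs) μ y) (hn : cs.flatten.Nodup) (hN : ∀ v ∈ cs.flatten, (v : ℕ) < N)
    (hμ : μ ≠ 0)
    (hmax : ∀ c ∈ cs, ∀ m t, c = m :: t → ∀ w ∈ c, c.formPerm w = m → ∀ x ∈ c, x ≤ w) :
    RCell e (cprod cs) N μ y := by
  refine ⟨fun v _ => ?_, fun v hv => h.1 v fun hv' => ?_⟩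
  swap
  · rw [pure'_fst] at hv'; exact absurd (hN v hv') (by omega)
  by_cases hv : v ∈ cs.flatten
  · obtain ⟨c, hc, hvc⟩ := List.mem_flatten.1 hv
    rw [cprod_of_mem hn hc hvc]
    obtain ⟨m, t, rfl⟩ : ∃ m t, c = m :: t := by
      cases h' : c with
      | nil => rw [h'] at hvc; simp at hvc
      | cons m t => exact ⟨m, t, rfl⟩
    obtain ⟨h1, h2⟩ := h.2 (m :: t, []) (List.mem_map.2 ⟨_, hc, rfl⟩) m t rfl v hvc
    rcases eq_or_ne ((m :: t).formPerm v) m with he | he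
    · obtain ⟨a, ha, hm⟩ := h2 he
      refine ⟨a, ha, ?_⟩
      rw [he]
      refine Submodule.span_mono (Set.image_mono ?_) hm
      rintro x (hx | hx)
      · obtain ⟨j, rfl⟩ := (m :: t).formPerm.surjective x
        have hj : j ∈ m :: t := mem_of_formPerm_apply_mem (List.mem_cons_of_mem _ hx)
        refine ⟨j, lt_of_le_of_ne (hmax _ hc m t rfl v hvc he j hj) fun e => ?_,
          (cprod_of_mem hn hc hj).symm⟩
        rw [e, he] at hx
        exact (List.nodup_cons.1 ((List.nodup_flatten.1 hn).1 _ hc)).1 hx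
      · simp at hx
    · exact ⟨1, one_ne_zero, by rw [h1 he, one_smul, sub_self]; exact Submodule.zero_mem _⟩
  · rw [cprod_of_notMem hv, h.1 v (by rwa [pure'_fst])]
    exact ⟨μ, hμ, by rw [sub_self]; exact Submodule.zero_mem _⟩

theorem rot_formPerm {cs cs' : List (List (Fin n))} (hn : cs.flatten.Nodup)
    (h : List.Forall₂ (fun a b => a ~r b) cs cs') :
    cprod cs = cprod cs' ∧ cs'.flatten.Perm cs.flatten ∧ cs'.map List.length = cs.map List.length := by
  induction h with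
  | nil => simp
  | cons hab _ ih =>
    rw [List.flatten_cons, List.nodup_append'] at hn
    obtain ⟨h1, h2, h3⟩ := ih hn.2.1
    refine ⟨by rw [cprod_cons, cprod_cons, h1, formPerm_eq_of_isRotated hn.1 hab], ?_, ?_⟩
    · rw [List.flatten_cons, List.flatten_cons]; exact hab.perm.symm.append h2
    · simp [h3, hab.perm.length_eq]

/-- Companion blocks placed on prescribed cycles give a right cell. -/
theorem HasForm.right {e : Basis (Fin n) K V} {L : List ℕ} {μ : K} {y : V ≃ₗ[K] V}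
    (h : HasForm e L μ y) {cs : List (List (Fin n))} {N : ℕ} (hlen : cs.map List.length = L)
    (hn : cs.flatten.Nodup) (hN : ∀ v ∈ cs.flatten, (v : ℕ) < N) (hμ : μ ≠ 0) (hn1 : 1 ≤ n) :
    ∃ P : V ≃ₗ[K] V, LinearEquiv.det P = 1 ∧ RCell e (cprod cs) N μ (P * y * P⁻¹) := by
  obtain ⟨Q, cs₀, hl₀, hn₀, hpat⟩ := h
  -- rotate each target cycle so that its last node is the largest
  obtain ⟨cs', hrot, hlast⟩ : ∃ cs', List.Forall₂ (fun a b => a ~r b) cs cs' ∧
      ∀ c ∈ cs', ∀ m t, c = m :: t → ∀ w ∈ c, c.formPerm w = m → ∀ x ∈ c, x ≤ w := by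
    clear hlen hN
    induction cs with
    | nil => exact ⟨[], .nil, by simp⟩
    | cons c cs ih =>
      rw [List.flatten_cons, List.nodup_append'] at hn
      obtain ⟨cs', h1, h2⟩ := ih hn.2.1
      rcases eq_or_ne c [] with rfl | hc
      · exact ⟨[] :: cs', .cons (List.IsRotated.refl _) h1, by simpa using h2⟩
      obtain ⟨mx, hmx, hle⟩ := exists_max hc
      obtain ⟨r, hr⟩ := exists_rot_head (formPerm_apply_mem_of_mem hmx)
      refine ⟨(c.formPerm mx :: r) :: cs', .cons hr h1, ?_⟩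
      intro c' hc' m t he w hw hwm x hx
      rcases List.mem_cons.1 hc' with rfl | hc'
      · rw [← formPerm_eq_of_isRotated hn.1 hr] at hwm
        have hm : m = c.formPerm mx := (List.cons.inj he).1.symm
        rw [c.formPerm.injective (hwm.trans hm)]
        exact hle x (hr.mem_iff.2 hx)
      · exact h2 c' hc' m t he w hw hwm x hx
  obtain ⟨hprod, hflat, hlen'⟩ := rot_formPerm hn hrot
  have hn' : cs'.flatten.Nodup := hflat.nodup_iff.2 hn
  obtain ⟨σ, hσ⟩ := exists_perm_map hn₀ hn' (by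
    rw [List.length_flatten, List.length_flatten, hl₀, hlen', hlen])
  have hmap := map_eq_of_flatten σ (by rw [hl₀, hlen', hlen]) hσ
  obtain ⟨S, hS⟩ := hpat.reindex σ
  rw [show (pure' cs₀).map (fun p => (p.1.map σ, p.2.map σ)) = pure' cs' by
    rw [← hmap]; simp [pure', List.map_map, Function.comp_def]] at hS
  rw [show S * (Q * y * Q⁻¹) * S⁻¹ = S * Q * y * (S * Q)⁻¹ by group] at hS
  obtain ⟨P, hP, hc⟩ := RCell.det_one hn1
    (hS.cell_right hn' (fun v hv => hN v (hflat.subset hv)) hμ hlast)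
  exact ⟨P, hP, hprod ▸ hc⟩

theorem left_aux {e : Basis (Fin n) K V} {cs₀ : List (List (Fin n) × List (Fin n))} {μ : K}
    {y Q : V ≃ₗ[K] V} (hn₀ : (cs₀.map Prod.fst).flatten.Nodup) (hpat : Pat e cs₀ μ (Q * y * Q⁻¹))
    {cs : List (List (Fin n))} {N : ℕ} (hlen : cs.map List.length = (cs₀.map Prod.fst).map List.length)
    (hn : cs.flatten.Nodup) (hN : ∀ v ∈ cs.flatten, (v : ℕ) < N) (hμ : μ ≠ 0) (hn1 : 1 ≤ n)
    (hex : ∀ σ : Equiv.Perm (Fin n), List.Forall₂ (fun a b => a ~r b) cs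
        ((cs₀.map Prod.fst).map (List.map σ)) →
      (∀ p ∈ cs₀, ∀ m t, p.1 = m :: t → ∀ x ∈ t, σ x < σ m) →
      ∀ p ∈ cs₀, ∀ m t, p.1 = m :: t → ∀ x ∈ p.2, σ x < σ m) :
    ∃ P : V ≃ₗ[K] V, LinearEquiv.det P = 1 ∧ LCell e (cprod cs) N μ (P * y * P⁻¹) := by
  -- rotate each target cycle so that it starts at its largest node
  obtain ⟨cs', hrot, hfirst⟩ : ∃ cs', List.Forall₂ (fun a b => a ~r b) cs cs' ∧
      ∀ c ∈ cs', ∀ m t, c = m :: t → ∀ x ∈ t, x < m := by
    clear hlen hN hex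
    induction cs with
    | nil => exact ⟨[], .nil, by simp⟩
    | cons c cs ih =>
      rw [List.flatten_cons, List.nodup_append'] at hn
      obtain ⟨cs', h1, h2⟩ := ih hn.2.1
      rcases eq_or_ne c [] with rfl | hc
      · exact ⟨[] :: cs', .cons (List.IsRotated.refl _) h1, by simpa using h2⟩
      obtain ⟨mx, hmx, hle⟩ := exists_max hc
      obtain ⟨r, hr⟩ := exists_rot_head hmx
      refine ⟨(mx :: r) :: cs', .cons hr h1, ?_⟩
      intro c' hc' m t he x hx
      rcases List.mem_cons.1 hc' with rfl | hc'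
      · obtain ⟨rfl, rfl⟩ := List.cons.inj he
        exact lt_of_le_of_ne (hle x (hr.mem_iff.2 (List.mem_cons_of_mem _ hx)))
          fun e => (List.nodup_cons.1 (hr.nodup_iff.1 hn.1)).1 (e ▸ hx)
      · exact h2 c' hc' m t he x hx
  obtain ⟨hprod, hflat, hlen'⟩ := rot_formPerm hn hrot
  have hn' : cs'.flatten.Nodup := hflat.nodup_iff.2 hn
  obtain ⟨σ, hσ⟩ := exists_perm_map hn₀ hn' (by
    rw [List.length_flatten, List.length_flatten, hlen', hlen])
  have hmap := map_eq_of_flatten σ (by rw [hlen', hlen]) hσ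
  have hfst : (cs₀.map fun p => (p.1.map σ, p.2.map σ)).map Prod.fst = cs' := by
    rw [← hmap]; simp [List.map_map, Function.comp_def]
  have hfirst' : ∀ p ∈ cs₀, ∀ m t, p.1 = m :: t → ∀ x ∈ t, σ x < σ m := fun p hp m t he x hx =>
    hfirst (p.1.map σ) (hmap ▸ List.mem_map_of_mem (List.mem_map_of_mem hp)) (σ m) (t.map σ)
      (by rw [he, List.map_cons]) (σ x) (List.mem_map_of_mem hx)
  have hex' := hex σ (hmap.symm ▸ hrot) hfirst'
  obtain ⟨S, hS⟩ := hpat.reindex σ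
  rw [show S * (Q * y * Q⁻¹) * S⁻¹ = S * Q * y * (S * Q)⁻¹ by group] at hS
  obtain ⟨P, hP, hc⟩ := LCell.det_one hn1 (hS.cell_left (by rw [hfst]; exact hn')
    (fun v hv => hN v (hflat.subset (hfst ▸ hv))) hμ (fun q hq m t he => by
      obtain ⟨p, hp, rfl⟩ := List.mem_map.1 hq
      obtain ⟨m₀, t₀, hpe, rfl, rfl⟩ : ∃ m₀ t₀, p.1 = m₀ :: t₀ ∧ σ m₀ = m ∧ t₀.map σ = t :=
        List.map_eq_cons_iff.1 he
      refine ⟨fun x hx => ?_, fun x hx => ?_⟩
      · obtain ⟨x, hx', rfl⟩ := List.mem_map.1 hx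
        exact hfirst' p hp m₀ t₀ hpe x hx'
      · obtain ⟨x, hx', rfl⟩ := List.mem_map.1 hx
        exact hex' p hp m₀ t₀ hpe x hx'))
  refine ⟨P, hP, ?_⟩
  rw [hfst, ← hprod] at hc
  exact hc

/-- Companion blocks placed on prescribed cycles give a left cell. -/
theorem HasForm.left {e : Basis (Fin n) K V} {L : List ℕ} {μ : K} {y : V ≃ₗ[K] V}
    (h : HasForm e L μ y) {cs : List (List (Fin n))} {N : ℕ} (hlen : cs.map List.length = L)
    (hn : cs.flatten.Nodup) (hN : ∀ v ∈ cs.flatten, (v : ℕ) < N) (hμ : μ ≠ 0) (hn1 : 1 ≤ n) :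
    ∃ P : V ≃ₗ[K] V, LinearEquiv.det P = 1 ∧ LCell e (cprod cs) N μ (P * y * P⁻¹) := by
  obtain ⟨Q, cs₀, hl₀, hn₀, hpat⟩ := h
  refine left_aux (by rwa [pure'_fst]) hpat (by rw [pure'_fst, hlen, hl₀]) hn hN hμ hn1
    fun σ _ _ p hp m t _ x hx => ?_
  obtain ⟨c, -, rfl⟩ := List.mem_map.1 hp
  simp at hx

/-- Linked blocks: the largest node of all lies in the first block. -/
theorem HasForm₂.left {e : Basis (Fin n) K V} {p q : ℕ} {L : List ℕ} {μ : K} {y : V ≃ₗ[K] V}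
    (h : HasForm₂ e p q L μ y) {c d : List (Fin n)} {cs : List (List (Fin n))} {N : ℕ}
    (hc : c.length = p) (hd : d.length = q) (hlen : cs.map List.length = L)
    (hn : (c :: d :: cs).flatten.Nodup) (hN : ∀ v ∈ (c :: d :: cs).flatten, (v : ℕ) < N) (hμ : μ ≠ 0)
    (hn1 : 1 ≤ n) {w : Fin n} (hwc : w ∈ c) (hw : (w : ℕ) + 1 = N) :
    ∃ P : V ≃ₗ[K] V, LinearEquiv.det P = 1 ∧ LCell e (cprod (c :: d :: cs)) N μ (P * y * P⁻¹) := by
  obtain ⟨Q, c₀, d₀, u, cs₀, hc₀, hd₀, hu, hl₀, hn₀, hpat⟩ := h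
  refine left_aux (cs₀ := (c₀, [u]) :: (d₀, []) :: pure' cs₀) (by simpa [pure'_fst] using hn₀) hpat
    (by simp [pure'_fst, hc, hd, hc₀, hd₀, hlen, hl₀]) hn hN hμ hn1 ?_
  intro σ hrot hfirst r hr m t hrm x hx
  rcases List.mem_cons.1 hr with rfl | hr
  · simp only [List.mem_singleton] at hx
    subst hx
    simp only [List.map_cons, List.forall₂_cons] at hrot
    obtain ⟨hcr, hdr, -⟩ := hrot
    have hσm : σ m = w := by
      have hwc' : w ∈ c₀.map σ := hcr.mem_iff.1 hwc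
      obtain ⟨w₀, hw₀, hw₀'⟩ := List.mem_map.1 hwc'
      simp only at hrm
      rw [hrm] at hw₀
      rcases List.mem_cons.1 hw₀ with rfl | hw₀
      · exact hw₀'
      · have hlt : (σ w₀ : ℕ) < σ m := hfirst _ (List.mem_cons_self ..) m t hrm w₀ hw₀
        have hσm' : σ m ∈ c := hcr.mem_iff.2 (List.mem_map_of_mem (hrm ▸ List.mem_cons_self ..))
        have := hN (σ m) (List.mem_flatten.2 ⟨c, List.mem_cons_self .., hσm'⟩)
        rw [hw₀'] at hlt
        omega
    have hxd : σ x ∈ d := hdr.mem_iff.2 (List.mem_map_of_mem hu)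
    have h1 := hN (σ x) (List.mem_flatten.2 ⟨d, by simp, hxd⟩)
    rw [hσm]
    refine lt_of_le_of_ne (show (σ x : ℕ) ≤ w by omega) fun e => ?_
    rw [List.flatten_cons, List.nodup_append'] at hn
    exact hn.2.2 hwc (List.mem_flatten.2 ⟨d, List.mem_cons_self .., e ▸ hxd⟩)
  · exfalso
    rcases List.mem_cons.1 hr with rfl | hr
    · simp at hx
    · obtain ⟨c', -, rfl⟩ := List.mem_map.1 hr
      simp at hx

end Cfsg.Agent.CoverNum
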