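import Mathlib
import Cfsg.Agent.CoverNum.Cells
import Cfsg.Agent.OreSL.Blocks
import Cfsg.Agent.OreSL.Scalar

/-!
# Block decompositions with few blocks
-/

namespace Cfsg.Agent.CoverNum

open Module Polynomial OreSL

universe u v

variable {K : Type u} [Field K] {V : Type v} [AddCommGroup V] [Module K V]

/-- `y` is a sum of companion blocks. -/
def Blocks (y : Module.End K V) {m : ℕ} (s : Fin m → ℕ) (c : ∀ i, Fin (s i) → K) : Prop :=
  (∀ i, 1 ≤ s i) ∧ ∃ E : (∀ i, Fin (s i) → K) ≃ₗ[K] V, ∀ z, y (E z) = E (dsum s c z)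

/-- The polynomial of a companion block. -/
noncomputable def cpoly {d : ℕ} (c : Fin d → K) : K[X] := X ^ d - ∑ l, C (c l) * X ^ (l : ℕ)

theorem cpoly_aux {d : ℕ} (c : Fin d → K) :
    (∑ l, C (c l) * X ^ (l : ℕ) : K[X]).degree < (d : WithBot ℕ) := by
  refine (degree_sum_le _ _).trans_lt ((Finset.sup_lt_iff (WithBot.bot_lt_coe d)).2 fun l _ => ?_)
  exact (degree_C_mul_X_pow_le _ _).trans_lt (WithBot.coe_lt_coe.2 l.isLt)

theorem cpoly_monic {d : ℕ} (c : Fin d → K) : (cpoly c).Monic :=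
  monic_X_pow_sub (cpoly_aux c)

theorem cpoly_natDegree {d : ℕ} (c : Fin d → K) : (cpoly c).natDegree = d :=
  natDegree_eq_of_degree_eq_some
    (by rw [cpoly, degree_sub_eq_left_of_degree_lt] <;> rw [degree_X_pow]; exact cpoly_aux c)

theorem cpoly_coeff {d : ℕ} (c : Fin d → K) (l : Fin d) : (cpoly c).coeff l = -c l := by
  rw [cpoly, coeff_sub, coeff_X_pow, if_neg l.isLt.ne, finsetSum_coeff, Finset.sum_eq_single l]
  · simp
  · intro b _ hb
    rw [coeff_C_mul_X_pow, if_neg (fun h => hb (Fin.ext h.symm))]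
  · simp

theorem comp_single {d : ℕ} (c : Fin d → K) (l : Fin d) :
    comp c (Pi.single l 1) = if h : (l : ℕ) + 1 < d then Pi.single ⟨(l : ℕ) + 1, h⟩ 1 else c := by
  funext j
  have hext : ∀ k (hk : k < d), ext k (Pi.single l 1) = if k = (l : ℕ) then (1 : K) else 0 := by
    intro k hk
    rw [ext_of_lt _ hk, Pi.single_apply]
    simp [Fin.ext_iff]
  rw [comp_apply, hext (d - 1) (by have := l.isLt; omega)]
  by_cases hl : (l : ℕ) + 1 < d
  · rw [dif_pos hl, if_neg (show d - 1 ≠ (l : ℕ) by omega), mul_zero, add_zero, Pi.single_apply]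
    by_cases hj : (j : ℕ) = 0
    · rw [if_pos hj, if_neg (fun e => by simp [e] at hj)]
    · rw [if_neg hj, hext _ (by omega)]
      simp only [Fin.ext_iff]
      by_cases h' : (j : ℕ) = (l : ℕ) + 1
      · rw [if_pos h', if_pos (by omega)]
      · rw [if_neg h', if_neg (by omega)]
  · rw [dif_neg hl, if_pos (show d - 1 = (l : ℕ) by omega), mul_one]
    by_cases hj : (j : ℕ) = 0
    · simp [hj]
    · rw [if_neg hj, hext _ (by omega), if_neg (by omega), zero_add]

theorem comp_pow_single {d : ℕ} (c : Fin d → K) (k : ℕ) (hk : k < d) :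
    ((comp c) ^ k) (Pi.single ⟨0, by omega⟩ 1) = Pi.single ⟨k, hk⟩ 1 := by
  induction k with
  | zero => rfl
  | succ k ih => rw [pow_succ', Module.End.mul_apply, ih (by omega), comp_single, dif_pos (by simpa using hk)]

theorem cyc_comp {d : ℕ} (hd : 1 ≤ d) (c : Fin d → K) : Cyc (comp c) (cpoly c) := by
  set v : Fin d → K := Pi.single ⟨0, by omega⟩ 1
  have h0 : aeval (comp c) (cpoly c) v = 0 := by
    have hlast : ((comp c) ^ d) v = c := by
      have e : (comp c) ^ d = comp c * (comp c) ^ (d - 1) := by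
        rw [← pow_succ', Nat.sub_add_cancel hd]
      rw [e, Module.End.mul_apply, comp_pow_single c (d - 1) (by omega), comp_single,
        dif_neg (by simp only; omega)]
    simp only [cpoly, map_sub, map_pow, aeval_X, map_sum, map_mul, aeval_C, LinearMap.sub_apply,
      LinearMap.sum_apply, Module.End.mul_apply, Module.algebraMap_end_apply, hlast, sub_eq_zero]
    refine (pi_eq_sum_univ' c).trans (Finset.sum_congr rfl fun l _ => ?_)
    rw [comp_pow_single c l l.isLt]
  refine ⟨cpoly_monic c, by rw [cpoly_natDegree, Module.finrank_fin_fun], ?_, ext (d - 1), ?_⟩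
  · refine (Pi.basisFun K (Fin d)).ext fun l => ?_
    rw [Pi.basisFun_apply, LinearMap.zero_apply, ← comp_pow_single c l l.isLt,
      ← Module.End.mul_apply, show ((comp c) ^ (l : ℕ) : Module.End K (Fin d → K)) =
        aeval (comp c) ((X : K[X]) ^ (l : ℕ)) by simp, ← map_mul, mul_comm, map_mul, Module.End.mul_apply, h0,
      map_zero]
  · refine InvFree.of_submodule fun Z h1 h2 => (Submodule.eq_bot_iff _).2 fun z hz => ?_
    have key : ∀ k, k < d → ∀ w ∈ Z, ext (d - 1 - k) w = (0 : K) := by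
      intro k
      induction k with
      | zero => intro _ w hw; exact h1 w hw
      | succ k ih =>
        intro hk w hw
        have := ih (by omega) _ (h2 w hw)
        rw [ext_of_lt _ (show d - 1 - k < d by omega), comp_apply,
          if_neg (show d - 1 - k ≠ 0 by omega)] at this
        have h1' := h1 w hw
        rw [h1', mul_zero, add_zero] at this
        simpa [show d - 1 - (k + 1) = d - 1 - k - 1 by omega] using this
    funext j
    show z j = 0
    have := key (d - 1 - j) (by have := j.isLt; omega) z hz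
    rwa [show d - 1 - (d - 1 - (j : ℕ)) = j by have := j.isLt; omega, ext_fin] at this

theorem exists_blocks [FiniteDimensional K V] (y : Module.End K V) :
    ∃ (m : ℕ) (s : Fin m → ℕ) (c : ∀ i, Fin (s i) → K), Blocks y s c := by
  obtain ⟨m, s, c, E, hE⟩ := exists_dsum y
  -- drop the empty blocks
  induction m with
  | zero => exact ⟨0, s, c, fun i => i.elim0, E, hE⟩
  | succ m ih =>
    by_cases h : ∀ i, 1 ≤ s i
    · exact ⟨m + 1, s, c, h, E, hE⟩
    push Not at h
    obtain ⟨i, hi⟩ := h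
    have : IsEmpty (Fin (s i)) := ⟨fun l => by have := l.isLt; omega⟩
    let R : (∀ j, Fin (s (i.succAbove j)) → K) ≃ₗ[K] (∀ i, Fin (s i) → K) :=
      (LinearEquiv.uniqueProd (R := K) (M := ∀ j, Fin (s (i.succAbove j)) → K)
        (M₂ := Fin (s i) → K)).symm.trans (splitAt s i).symm
    refine ih _ (fun j => c (i.succAbove j)) (R.trans E) fun z => ?_
    simp only [LinearEquiv.trans_apply]
    rw [hE]
    congr 1
    apply (splitAt (K := K) s i).injective
    rw [splitAt_dsum]
    simp only [R, LinearEquiv.trans_apply, LinearEquiv.apply_symm_apply]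
    exact Prod.ext (Subsingleton.elim _ _) rfl

/-- Isolate one block. -/
theorem Blocks.extract {y : Module.End K V} {m : ℕ} {s : Fin (m + 1) → ℕ} {c : ∀ i, Fin (s i) → K}
    (h : Blocks y s c) (i : Fin (m + 1)) :
    ∃ E : ((Fin (s i) → K) × (∀ j, Fin (s (i.succAbove j)) → K)) ≃ₗ[K] V, ∀ z,
      y (E z) = E ((comp (c i)).prodMap (dsum _ fun j => c (i.succAbove j)) z) := by
  obtain ⟨-, E, hE⟩ := h
  refine ⟨(splitAt s i).symm.trans E, fun z => ?_⟩
  rw [LinearEquiv.trans_apply, hE, LinearEquiv.trans_apply]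
  congr 1
  apply (splitAt (K := K) s i).injective
  rw [splitAt_dsum, LinearEquiv.apply_symm_apply, LinearEquiv.apply_symm_apply]

/-- Put one block in front. -/
theorem Blocks.insert {y : Module.End K V} {m d : ℕ} (hd : 1 ≤ d) {s : Fin m → ℕ}
    (hs : ∀ i, 1 ≤ s i) (g : Fin d → K) (c : ∀ i, Fin (s i) → K)
    (E : ((Fin d → K) × (∀ j, Fin (s j) → K)) ≃ₗ[K] V)
    (hE : ∀ z, y (E z) = E ((comp g).prodMap (dsum s c) z)) :
    ∃ c' : ∀ i, Fin ((Fin.cons d s : Fin (m + 1) → ℕ) i) → K,
      Blocks y (Fin.cons d s : Fin (m + 1) → ℕ) c' := by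
  refine ⟨Fin.cons (α := fun i => Fin ((Fin.cons d s : Fin (m + 1) → ℕ) i) → K) g c,
    Fin.cases hd hs, ?_⟩
  let J : (∀ i, Fin ((Fin.cons d s : Fin (m + 1) → ℕ) i) → K) ≃ₗ[K]
      (Fin d → K) × (∀ j, Fin (s j) → K) :=
    { toFun := fun z => (z 0, fun j => z j.succ)
      invFun := fun z => Fin.cons (α := fun i => Fin ((Fin.cons d s : Fin (m + 1) → ℕ) i) → K) z.1 z.2
      map_add' := fun _ _ => rfl
      map_smul' := fun _ _ => rfl
      left_inv := fun z => Fin.cons_self_tail z
      right_inv := fun z => rfl }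
  refine ⟨J.trans E, fun z => ?_⟩
  rw [LinearEquiv.trans_apply, hE, LinearEquiv.trans_apply]
  rfl

theorem Blocks.finrank_eq {y : Module.End K V} {m : ℕ} {s : Fin m → ℕ} {c : ∀ i, Fin (s i) → K}
    (h : Blocks y s c) : ∑ i, s i = finrank K V := by
  obtain ⟨-, E, -⟩ := h
  rw [← E.finrank_eq, Module.finrank_pi_fintype]
  simp

theorem Blocks.coeff_ne_zero {y : V ≃ₗ[K] V} {m : ℕ} {s : Fin m → ℕ} {c : ∀ i, Fin (s i) → K}
    (h : Blocks (y : Module.End K V) s c) (i : Fin m) (hi : 0 < s i) : c i ⟨0, hi⟩ ≠ 0 := by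
  intro h0
  obtain ⟨-, E, hE⟩ := h
  have hinj : Function.Injective (dsum s c) := fun a b hab => E.injective (y.injective (by
    have ha := hE a; have hb := hE b
    simp only [LinearEquiv.coe_coe] at ha hb
    rw [ha, hb, hab]))
  have hinj' : Function.Injective (comp (c i)) := fun a b hab => by
    have := hinj (a₁ := Pi.single i a) (a₂ := Pi.single i b) (funext fun j => by
      rw [dsum_apply, dsum_apply]
      rcases eq_or_ne j i with rfl | hj
      · simpa using hab
      · rw [Pi.single_eq_of_ne hj, Pi.single_eq_of_ne hj])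
    simpa using congrFun this i
  obtain ⟨w, hw⟩ := (LinearMap.injective_iff_surjective.1 hinj') (Pi.single ⟨0, hi⟩ 1)
  have := congrFun hw ⟨0, hi⟩
  simp [comp_apply, h0] at this

theorem cpoly_coprime_of_root {d : ℕ} (g : Fin d → K) (l : Fin 1 → K)
    (h : (cpoly g).eval (l 0) ≠ 0) : IsCoprime (cpoly g) (cpoly l) := by
  have e : cpoly l = X - C (l 0) := by simp [cpoly]
  rw [e]
  exact ((Polynomial.irreducible_X_sub_C (l 0)).coprime_iff_not_dvd.2
    fun hdvd => h (dvd_iff_isRoot.1 hdvd)).symm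

/-- Two blocks with coprime polynomials are one. -/
theorem exists_merge_coprime {a b : ℕ} (ha : 1 ≤ a) (hb : 1 ≤ b) (g : Fin a → K) (g' : Fin b → K)
    (hco : IsCoprime (cpoly g) (cpoly g')) :
    ∃ (r : Fin (a + b) → K) (P : (Fin (a + b) → K) ≃ₗ[K] (Fin a → K) × (Fin b → K)),
      cpoly r = cpoly g * cpoly g' ∧ ∀ x, P (comp r x) = (comp g).prodMap (comp g') (P x) := by
  obtain ⟨hm, hd, hA, μ, hμ⟩ := cyc_comp ha g
  obtain ⟨hm', hd', hA', μ', hμ'⟩ := cyc_comp hb g'
  set f := cpoly g * cpoly g' with hf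
  have hfd : f.natDegree = a + b := by rw [hm.natDegree_mul hm', cpoly_natDegree, cpoly_natDegree]
  let r : Fin (a + b) → K := fun l => -f.coeff l
  have hr : cpoly r = f := Polynomial.ext fun k => by
    rcases lt_trichotomy k (a + b) with hk | rfl | hk
    · exact (cpoly_coeff r ⟨k, hk⟩).trans (neg_neg _)
    · have h1 := (cpoly_monic r).coeff_natDegree
      have h2 := (hm.mul hm').coeff_natDegree
      rw [cpoly_natDegree] at h1
      rw [hfd] at h2
      rw [h1, hf, h2]
    · rw [coeff_eq_zero_of_natDegree_lt (by rwa [cpoly_natDegree]),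
        coeff_eq_zero_of_natDegree_lt (by rwa [hfd])]
  have hc : Cyc ((comp g).prodMap (comp g')) f := by
    refine ⟨hm.mul hm', ?_, ?_, _, hμ.prod hμ' hA hA' hco⟩
    · rw [hfd, Module.finrank_prod, Module.finrank_fin_fun, Module.finrank_fin_fun]
    · rw [hf, aeval_prodMap, map_mul, map_mul, hA, hA', zero_mul, mul_zero]
      exact LinearMap.prodMap_zero
  have h2 := cyc_comp (d := a + b) (by omega) r
  rw [hr] at h2
  obtain ⟨P, hP⟩ := h2.exists_conj hc
  exact ⟨r, P, hr, hP⟩

/-- Merging lowers the number of blocks. -/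
theorem Blocks.merge {y : Module.End K V} {m : ℕ} {s : Fin m → ℕ} {c : ∀ i, Fin (s i) → K}
    (h : Blocks y s c) {i j : Fin m} (hij : i ≠ j) (hco : IsCoprime (cpoly (c i)) (cpoly (c j))) :
    ∃ (m' : ℕ) (s' : Fin m' → ℕ) (c' : ∀ i, Fin (s' i) → K), Blocks y s' c' ∧ m' + 1 = m := by
  obtain ⟨m, rfl⟩ : ∃ k, m = k + 1 := ⟨m - 1, by have := i.isLt; omega⟩
  obtain ⟨j', rfl⟩ := Fin.exists_succAbove_eq hij.symm
  obtain ⟨m, rfl⟩ : ∃ k, m = k + 1 := ⟨m - 1, by have := j'.isLt; omega⟩
  obtain ⟨E, hE⟩ := h.extract i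
  obtain ⟨r, P, -, hP⟩ := exists_merge_coprime (h.1 i) (h.1 _) (c i) (c (i.succAbove j')) hco
  set s₁ := fun l => s (i.succAbove l)
  let F : ((Fin (s i + s (i.succAbove j')) → K) × (∀ l, Fin (s₁ (j'.succAbove l)) → K)) ≃ₗ[K] V :=
    (P.prodCongr (LinearEquiv.refl K _)).trans <|
      (LinearEquiv.prodAssoc K _ _ _).trans <|
        ((LinearEquiv.refl K _).prodCongr (splitAt s₁ j').symm).trans E
  obtain ⟨c', hc'⟩ := Blocks.insert (y := y) (d := s i + s (i.succAbove j'))
    (by have := h.1 i; omega) (fun l => h.1 _) r _ F fun z => by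
      simp only [F, LinearEquiv.trans_apply, hE]
      congr 1
      refine Prod.ext (congrArg Prod.fst (hP z.1)).symm ?_
      show dsum _ _ ((splitAt s₁ j').symm ((P z.1).2, z.2)) = (splitAt s₁ j').symm ((P (comp r z.1)).2, _)
      apply (splitAt (K := K) s₁ j').injective
      rw [splitAt_dsum, LinearEquiv.apply_symm_apply, LinearEquiv.apply_symm_apply]
      exact Prod.ext (congrArg Prod.snd (hP z.1)).symm rfl
  exact ⟨_, _, _, hc', rfl⟩

/-- Number of blocks of size one. -/
def ones {m : ℕ} (s : Fin m → ℕ) : ℕ := (Finset.univ.filter fun i => s i = 1).card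

/-- A decomposition with fewest blocks, and most trivial ones among these. -/
theorem exists_best [FiniteDimensional K V] (y : Module.End K V) :
    ∃ (m : ℕ) (s : Fin m → ℕ) (c : ∀ i, Fin (s i) → K), Blocks y s c ∧
      (∀ (m' : ℕ) (s' : Fin m' → ℕ) (c' : ∀ i, Fin (s' i) → K), Blocks y s' c' → m ≤ m') ∧
      ∀ (s' : Fin m → ℕ) (c' : ∀ i, Fin (s' i) → K), Blocks y s' c' → ones s' ≤ ones s := by
  classical
  obtain ⟨m₀, s₀, c₀, h₀⟩ := exists_blocks y
  let P : ℕ → Prop := fun m => ∃ (s : Fin m → ℕ) (c : ∀ i, Fin (s i) → K), Blocks y s c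
  have hP : ∃ m, P m := ⟨m₀, s₀, c₀, h₀⟩
  set m := Nat.find hP
  let Q : ℕ → Prop := fun k => ∃ (s : Fin m → ℕ) (c : ∀ i, Fin (s i) → K), Blocks y s c ∧ m ≤ ones s + k
  have hQ : ∃ k, Q k := by
    obtain ⟨s, c, h⟩ := Nat.find_spec hP
    exact ⟨m, s, c, h, by omega⟩
  obtain ⟨s, c, h, hk⟩ := Nat.find_spec hQ
  refine ⟨m, s, c, h, fun m' s' c' h' => Nat.find_min' hP ⟨s', c', h'⟩, fun s' c' h' => ?_⟩
  by_contra hlt
  have hle : ones s' ≤ m := (Finset.card_le_univ _).trans (by simp)
  have := Nat.find_min' hQ (m := m - ones s') ⟨s', c', h', by omega⟩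
  omega

theorem eq_of_sizes_one {m : ℕ} {s : Fin m → ℕ} {c : ∀ i, Fin (s i) → K} {i : Fin m} (hi : s i = 1) :
    cpoly (c i) = X - C (c i ⟨0, by omega⟩) := by
  have : ∀ {d : ℕ} (g : Fin d → K) (hd : d = 1), cpoly g = X - C (g ⟨0, by omega⟩) := by
    rintro d g rfl
    simp [cpoly]
  exact this (c i) hi

/-- In a shortest decomposition the trivial blocks agree and all others share their root. -/
theorem Blocks.root {y : Module.End K V} {m : ℕ} {s : Fin m → ℕ} {c : ∀ i, Fin (s i) → K}
    (h : Blocks y s c)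
    (hmin : ∀ (m' : ℕ) (s' : Fin m' → ℕ) (c' : ∀ i, Fin (s' i) → K), Blocks y s' c' → m ≤ m')
    {i : Fin m} (hi : s i = 1) (j : Fin m) : (cpoly (c j)).eval (c i ⟨0, by omega⟩) = 0 := by
  rcases eq_or_ne j i with rfl | hij
  · rw [eq_of_sizes_one hi]; simp
  by_contra hne
  obtain ⟨m', s', c', h', hm'⟩ := h.merge hij (by
    rw [eq_of_sizes_one hi]
    exact ((Polynomial.irreducible_X_sub_C _).coprime_iff_not_dvd.2
      fun hdvd => hne (dvd_iff_isRoot.1 hdvd)).symm)
  have := hmin m' s' c' h'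
  omega

theorem hasForm_of_family [FiniteDimensional K V] {n : ℕ} (e : Basis (Fin n) K V) {y : V ≃ₗ[K] V}
    (b : Fin n → V) (hb : ⊤ ≤ Submodule.span K (Set.range b))
    {cs : List (List (Fin n) × List (Fin n))} {μ : K}
    (hout : ∀ v, v ∉ (cs.map Prod.fst).flatten → y (b v) = μ • b v)
    (hin : ∀ p ∈ cs, ∀ h t, p.1 = h :: t → ∀ w ∈ p.1,
      (p.1.formPerm w ≠ h → y (b w) = b (p.1.formPerm w)) ∧
      (p.1.formPerm w = h → ∃ a : K, a ≠ 0 ∧
        y (b w) - a • b h ∈ Submodule.span K (b '' {x | x ∈ t ∨ x ∈ p.2}))) :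
    ∃ Q : V ≃ₗ[K] V, Pat e cs μ (Q * y * Q⁻¹) := by
  let L : Module.End K V := e.constr K b
  have hL : ∀ k, L (e k) = b k := fun k => e.constr_basis K b k
  have hsurj : Function.Surjective L := by
    rw [← LinearMap.range_eq_top, eq_top_iff]
    refine hb.trans (Submodule.span_le.2 ?_)
    rintro _ ⟨k, rfl⟩
    exact ⟨e k, hL k⟩
  let Le : V ≃ₗ[K] V :=
    LinearEquiv.ofBijective L ⟨LinearMap.injective_iff_surjective.2 hsurj, hsurj⟩
  have hLe : ∀ k, Le (e k) = b k := hL
  have hinv : ∀ k, Le.symm (b k) = e k := fun k => by rw [← hLe, LinearEquiv.symm_apply_apply]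
  have hy : ∀ v, (Le⁻¹ * y * Le⁻¹⁻¹) (e v) = Le.symm (y (b v)) := fun v => by
    show Le.symm (y (Le (e v))) = _
    rw [hLe]
  refine ⟨Le⁻¹, fun v hv => by rw [hy, hout v hv, map_smul, hinv], fun p hp h t ht w hw => ?_⟩
  obtain ⟨h1, h2⟩ := hin p hp h t ht w hw
  refine ⟨fun hne => by rw [hy, h1 hne, hinv], fun heq => ?_⟩
  obtain ⟨a, ha, hm⟩ := h2 heq
  refine ⟨a, ha, ?_⟩
  rw [hy, show Le.symm (y (b w)) - a • e h = (Le.symm : V →ₗ[K] V) (y (b w) - a • b h) by
    simp [map_sub, map_smul, hinv]]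
  have : Submodule.span K (b '' {x | x ∈ t ∨ x ∈ p.2}) ≤
      (Submodule.span K (e '' {x | x ∈ t ∨ x ∈ p.2})).comap (Le.symm : V →ₗ[K] V) := by
    refine Submodule.span_le.2 ?_
    rintro _ ⟨x, hx, rfl⟩
    rw [SetLike.mem_coe, Submodule.mem_comap, LinearEquiv.coe_coe, hinv]
    exact Submodule.subset_span ⟨x, hx, rfl⟩
  exact this hm

/-- The standard vectors of a decomposition. -/
theorem Blocks.exists_vectors {y : V ≃ₗ[K] V} {m : ℕ} {s : Fin m → ℕ} {c : ∀ i, Fin (s i) → K}
    (h : Blocks (y : Module.End K V) s c) :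
    ∃ b : (Σ i, Fin (s i)) → V, ⊤ ≤ Submodule.span K (Set.range b) ∧
      ∀ i l, y (b ⟨i, l⟩) = if hl : (l : ℕ) + 1 < s i then b ⟨i, ⟨(l : ℕ) + 1, hl⟩⟩
        else ∑ k, c i k • b ⟨i, k⟩ := by
  obtain ⟨-, E, hE⟩ := h
  refine ⟨fun p => E (Pi.single p.1 (Pi.single p.2 1)), ?_, fun i l => ?_⟩
  · refine le_of_eq (((Pi.basis fun i => Pi.basisFun K (Fin (s i))).map E).span_eq.symm.trans ?_)
    congr 2
    funext p
    simp [Basis.map_apply, Pi.basis_apply]
  · have hd : dsum s c (Pi.single i (Pi.single l 1)) = Pi.single i (OreSL.comp (c i) (Pi.single l 1)) := by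
      funext j
      rw [dsum_apply]
      rcases eq_or_ne j i with rfl | hj
      · simp
      · rw [Pi.single_eq_of_ne hj, Pi.single_eq_of_ne hj, map_zero]
    show (y : Module.End K V) (E _) = _
    rw [hE, hd, comp_single]
    split_ifs with hl
    · rfl
    · conv_lhs => rw [pi_eq_sum_univ' (c i)]
      rw [show Pi.single (M := fun i => Fin (s i) → K) i (∑ k, c i k • Pi.single k (1 : K)) =
        LinearMap.single K (fun i => Fin (s i) → K) i (∑ k, c i k • Pi.single k 1) from rfl,
        map_sum, map_sum]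
      simp only [map_smul, LinearMap.coe_single]

theorem formPerm_map_finRange {n d : ℕ} (f : Fin d → Fin n) (hf : Function.Injective f) (l : Fin d) :
    ((List.finRange d).map f).formPerm (f l) =
      f (if h : (l : ℕ) + 1 < d then ⟨(l : ℕ) + 1, h⟩ else ⟨0, by have := l.isLt; omega⟩) := by
  have hn : ((List.finRange d).map f).Nodup := (List.nodup_finRange d).map hf
  have e1 : ((List.finRange d).map f)[(l : ℕ)]'(by simp) = f l := by simp
  conv_lhs => rw [← e1]
  rw [List.formPerm_apply_getElem _ hn]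
  simp only [List.getElem_map, List.getElem_finRange, List.length_map, List.length_finRange]
  congr 1
  split_ifs with h
  · exact Fin.ext (by simp [Nat.mod_eq_of_lt h])
  · exact Fin.ext (by simp [show (l : ℕ) + 1 = d by have := l.isLt; omega])

/-- The lengths of the non-trivial blocks. -/
noncomputable def bigSizes {m : ℕ} (s : Fin m → ℕ) : List ℕ :=
  (((Finset.univ.filter fun i => 2 ≤ s i)).toList).map s

theorem flatten_nodup_of_sigma {n m : ℕ} {s : Fin m → ℕ} (σ : (Σ i, Fin (s i)) ≃ Fin n)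
    {l : List (Fin m)} (hl : l.Nodup) :
    (l.map fun i => (List.finRange (s i)).map fun k => σ ⟨i, k⟩).flatten.Nodup := by
  rw [List.nodup_flatten]
  refine ⟨?_, ?_⟩
  · intro c hc
    obtain ⟨i, -, rfl⟩ := List.mem_map.1 hc
    exact (List.nodup_finRange _).map fun a b h => by simpa using σ.injective h
  · refine List.pairwise_map.2 ((List.nodup_iff_pairwise_ne.1 hl).imp fun {i j} hij x hx hx' => ?_)
    obtain ⟨a, -, rfl⟩ := List.mem_map.1 hx
    obtain ⟨b, -, hb⟩ := List.mem_map.1 hx'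
    exact hij (congrArg Sigma.fst (σ.injective hb)).symm

theorem mem_flatten_sigma {n m : ℕ} {s : Fin m → ℕ} (σ : (Σ i, Fin (s i)) ≃ Fin n) {l : List (Fin m)}
    {i : Fin m} {k : Fin (s i)} (hi : i ∈ l) :
    σ ⟨i, k⟩ ∈ (l.map fun i => (List.finRange (s i)).map fun k => σ ⟨i, k⟩).flatten :=
  List.mem_flatten.2 ⟨_, List.mem_map_of_mem hi, List.mem_map_of_mem (List.mem_finRange k)⟩

/-- The equations of one block. -/
theorem block_equations {n m : ℕ} {y : V ≃ₗ[K] V} {s : Fin m → ℕ} {c : ∀ i, Fin (s i) → K}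
    (σ : (Σ i, Fin (s i)) ≃ Fin n) {b : Fin n → V}
    (hby : ∀ i l, y (b (σ ⟨i, l⟩)) = if hl : (l : ℕ) + 1 < s i then b (σ ⟨i, ⟨(l : ℕ) + 1, hl⟩⟩)
        else ∑ k, c i k • b (σ ⟨i, k⟩))
    (i : Fin m) (hi : 0 < s i) (h0 : c i ⟨0, hi⟩ ≠ 0) (h : Fin n) (t ex : List (Fin n))
    (ht : ((List.finRange (s i)).map fun k => σ ⟨i, k⟩) = h :: t) (w : Fin n) (hw : w ∈ h :: t) :
    ((h :: t).formPerm w ≠ h → y (b w) = b ((h :: t).formPerm w)) ∧
      ((h :: t).formPerm w = h → ∃ a : K, a ≠ 0 ∧
        y (b w) - a • b h ∈ Submodule.span K (b '' {x | x ∈ t ∨ x ∈ ex})) := by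
  rw [← ht] at hw ⊢
  obtain ⟨l, -, rfl⟩ := List.mem_map.1 hw
  have hf : Function.Injective fun k => σ ⟨i, k⟩ := fun a b h => by simpa using σ.injective h
  have hh : h = σ ⟨i, ⟨0, hi⟩⟩ := by
    have h1 : ((List.finRange (s i)).map fun k => σ ⟨i, k⟩)[0]? = some (σ ⟨i, ⟨0, hi⟩⟩) := by simp [hi]
    rw [ht, List.getElem?_cons_zero] at h1
    exact Option.some_injective _ h1
  rw [formPerm_map_finRange _ hf, hby, hh]
  split_ifs with hl
  · refine ⟨fun _ => rfl, fun heq => absurd (hf heq) fun e => by simp at e⟩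
  · refine ⟨fun hne => absurd rfl hne, fun _ => ⟨c i ⟨0, hi⟩, h0, ?_⟩⟩
    rw [← Finset.add_sum_erase _ _ (Finset.mem_univ (⟨0, hi⟩ : Fin (s i))), add_sub_cancel_left]
    refine Submodule.sum_mem _ fun k hk => Submodule.smul_mem _ _ (Submodule.subset_span ⟨_, ?_, rfl⟩)
    left
    have hk' : σ ⟨i, k⟩ ∈ h :: t := ht ▸ List.mem_map_of_mem (List.mem_finRange k)
    rcases List.mem_cons.1 hk' with e | e
    · exact absurd (hf (e.trans hh)) (Finset.ne_of_mem_erase hk)
    · exact e

theorem Blocks.hasForm [FiniteDimensional K V] {n : ℕ} (e : Basis (Fin n) K V) {y : V ≃ₗ[K] V}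
    {m : ℕ} {s : Fin m → ℕ} {c : ∀ i, Fin (s i) → K} (h : Blocks (y : Module.End K V) s c) {μ : K}
    (hone : ∀ i (hi : s i = 1), c i ⟨0, by omega⟩ = μ) : HasForm e (bigSizes s) μ y := by
  classical
  obtain ⟨b₀, hspan, hby⟩ := h.exists_vectors
  let σ : (Σ i, Fin (s i)) ≃ Fin n := Fintype.equivFinOfCardEq (by
    rw [Fintype.card_sigma]
    simp only [Fintype.card_fin]
    rw [h.finrank_eq, Module.finrank_eq_card_basis e, Fintype.card_fin])
  set l := (Finset.univ.filter fun i => 2 ≤ s i).toList with hl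
  set cs := l.map fun i => (List.finRange (s i)).map fun k => σ ⟨i, k⟩ with hcs
  let b : Fin n → V := fun v => b₀ (σ.symm v)
  have hb : ∀ p, b (σ p) = b₀ p := fun p => by simp [b]
  have hby' : ∀ i l, y (b (σ ⟨i, l⟩)) = if hl : (l : ℕ) + 1 < s i then b (σ ⟨i, ⟨(l : ℕ) + 1, hl⟩⟩)
      else ∑ k, c i k • b (σ ⟨i, k⟩) := by
    intro i l
    simp only [hb]
    exact hby i l
  obtain ⟨Q, hQ⟩ := hasForm_of_family e b (y := y) (cs := pure' cs) (μ := μ)
    (by
      refine hspan.trans (Submodule.span_mono ?_)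
      rintro _ ⟨p, rfl⟩
      exact ⟨σ p, hb p⟩)
    (fun v hv => by
      obtain ⟨⟨i, k⟩, rfl⟩ := σ.surjective v
      have hi : ¬ 2 ≤ s i := fun h2 => hv (by
        rw [pure'_fst]
        exact mem_flatten_sigma σ (Finset.mem_toList.2 (Finset.mem_filter.2 ⟨Finset.mem_univ _, h2⟩)))
      have hi1 : s i = 1 := by have := h.1 i; omega
      have hk : k = ⟨0, by omega⟩ := Fin.ext (by simp only; have := k.isLt; omega)
      subst hk
      rw [hby', dif_neg (by simp only; omega), Finset.sum_eq_single (⟨0, by omega⟩ : Fin (s i))]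
      · rw [hone i hi1]
      · intro k _ hk; exact absurd (Fin.ext (by simp only; have := k.isLt; omega)) hk
      · simp)
    (fun p hp h' t ht w hw => by
      obtain ⟨c', hc', rfl⟩ := List.mem_map.1 hp
      obtain ⟨i, -, rfl⟩ := List.mem_map.1 hc'
      simp only at ht hw ⊢
      rw [ht] at hw ⊢
      exact block_equations σ hby' i (h.1 i) (h.coeff_ne_zero i (h.1 i)) h' t [] ht w hw)
  refine ⟨Q, cs, ?_, flatten_nodup_of_sigma σ (Finset.nodup_toList _), hQ⟩
  rw [hcs, bigSizes, ← hl, List.map_map]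
  congr 1
  funext i
  simp

/-- A block with reducible polynomial, linked in two. -/
theorem Blocks.hasForm₂ [FiniteDimensional K V] {n : ℕ} (e : Basis (Fin n) K V) {y : V ≃ₗ[K] V}
    {m : ℕ} {s : Fin m → ℕ} {c : ∀ i, Fin (s i) → K} (h : Blocks (y : Module.End K V) s c) {μ : K}
    (hone : ∀ i (hi : s i = 1), c i ⟨0, by omega⟩ = μ) {i₀ : Fin m} (hi₀ : 2 ≤ s i₀) {g₁ g₂ : K[X]}
    (hg₁ : g₁.Monic) (hg₂ : g₂.Monic) (h₁ : 1 ≤ g₁.natDegree) (h₂ : 1 ≤ g₂.natDegree)
    (hg : cpoly (c i₀) = g₁ * g₂) :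
    ∃ L : List ℕ, (bigSizes s).Perm (s i₀ :: L) ∧ g₂.natDegree + g₁.natDegree = s i₀ ∧
      HasForm₂ e g₂.natDegree g₁.natDegree L μ y := by
  classical
  obtain ⟨b₀, hspan, hby⟩ := h.exists_vectors
  let σ : (Σ i, Fin (s i)) ≃ Fin n := Fintype.equivFinOfCardEq (by
    rw [Fintype.card_sigma]
    simp only [Fintype.card_fin]
    rw [h.finrank_eq, Module.finrank_eq_card_basis e, Fintype.card_fin])
  set d := s i₀ with hd
  set d₁ := g₁.natDegree with hd₁
  set d₂ := g₂.natDegree with hd₂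
  have hsum : d₂ + d₁ = d := by
    have := congrArg natDegree hg
    rw [cpoly_natDegree, hg₁.natDegree_mul hg₂] at this
    omega
  set Y : Module.End K V := (y : Module.End K V)
  set v₀ : V := b₀ ⟨i₀, ⟨0, by omega⟩⟩
  have hpow : ∀ k (hk : k < d), (Y ^ k) v₀ = b₀ ⟨i₀, ⟨k, hk⟩⟩ := by
    intro k
    induction k with
    | zero => intro _; rfl
    | succ k ih =>
      intro hk
      rw [pow_succ', Module.End.mul_apply, ih (by omega)]
      show y _ = _
      rw [hby i₀ ⟨k, by omega⟩, dif_pos (show k + 1 < s i₀ from hk)]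
  have hann : aeval Y (cpoly (c i₀)) v₀ = 0 := by
    have hlast : (Y ^ d) v₀ = ∑ k, c i₀ k • b₀ ⟨i₀, k⟩ := by
      rw [show d = (d - 1) + 1 by omega, pow_succ', Module.End.mul_apply, hpow (d - 1) (by omega)]
      show y _ = _
      rw [hby i₀ ⟨d - 1, by omega⟩, dif_neg (by simp only; omega)]
    simp only [cpoly, map_sub, map_pow, aeval_X, map_sum, map_mul, aeval_C, LinearMap.sub_apply,
      LinearMap.sum_apply, Module.End.mul_apply, Module.algebraMap_end_apply]
    rw [hlast, sub_eq_zero]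
    exact Finset.sum_congr rfl fun k _ => by rw [hpow k k.isLt]
  set u₀ := aeval Y g₂ v₀ with hu₀
  -- the new vectors
  let bl : Fin d → V := fun k =>
    if (k : ℕ) < d₁ then (Y ^ (k : ℕ)) u₀ else (Y ^ ((k : ℕ) - d₁)) v₀
  let b : Fin n → V := fun v => if hv : (σ.symm v).1 = i₀ then bl (Fin.cast (by rw [hv]) (σ.symm v).2)
    else b₀ (σ.symm v)
  have hb0 : ∀ k : Fin d, b (σ ⟨i₀, k⟩) = bl k := fun k => by
    simp only [b]
    rw [σ.symm_apply_apply]
    simp [Fin.cast]
  have hb1 : ∀ i k, i ≠ i₀ → b (σ ⟨i, k⟩) = b₀ ⟨i, k⟩ := fun i k hi => by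
    simp only [b]
    rw [σ.symm_apply_apply]
    simp [hi]
  have hbspan : ⊤ ≤ Submodule.span K (Set.range b) := by
    refine hspan.trans (Submodule.span_le.2 ?_)
    rintro _ ⟨⟨i, k⟩, rfl⟩
    by_cases hi : i = i₀
    · subst hi
      have key : ∀ j : ℕ, j < d → (Y ^ j) v₀ ∈ Submodule.span K (Set.range b) := by
        intro j
        induction j using Nat.strong_induction_on with
        | h j ih =>
          intro hj
          by_cases hj2 : j < d₂
          · refine Submodule.subset_span ⟨σ ⟨i, ⟨d₁ + j, by omega⟩⟩, ?_⟩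
            rw [hb0]
            simp [bl]
          · have hu : (Y ^ (j - d₂)) u₀ ∈ Submodule.span K (Set.range b) := by
              refine Submodule.subset_span ⟨σ ⟨i, ⟨j - d₂, by omega⟩⟩, ?_⟩
              rw [hb0]
              simp only [bl]
              rw [if_pos (by omega)]
            rw [hu₀, aeval_eq_sum_range, ← hd₂, Finset.sum_range_succ, LinearMap.add_apply,
              LinearMap.smul_apply, show g₂.coeff d₂ = 1 from hg₂.coeff_natDegree, one_smul, map_add,
              ← Module.End.mul_apply, ← Module.End.mul_apply (f := Y ^ (j - d₂)), ← pow_add,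
              show j - d₂ + d₂ = j by omega] at hu
            refine (Submodule.add_mem_iff_right _ ?_).1 hu
            rw [Module.End.mul_apply, LinearMap.sum_apply, map_sum]
            refine Submodule.sum_mem _ fun k hk => ?_
            rw [LinearMap.smul_apply, map_smul, ← Module.End.mul_apply, ← pow_add]
            have := Finset.mem_range.1 hk
            exact Submodule.smul_mem _ _ (ih _ (by omega) (by omega))
      rw [← hpow k k.isLt]
      exact key k k.isLt
    · exact Submodule.subset_span ⟨σ ⟨i, k⟩, hb1 i k hi⟩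
  let f₀ : Fin d → Fin n := fun k => σ ⟨i₀, k⟩
  have hf₀ : Function.Injective f₀ := fun a b h => by simpa [f₀] using σ.injective h
  let fc : Fin d₂ → Fin n := fun k => f₀ ⟨d₁ + k, by omega⟩
  let fd : Fin d₁ → Fin n := fun k => f₀ ⟨k, by omega⟩
  have hfc : Function.Injective fc := fun a b h => Fin.ext (by
    have := congrArg Fin.val (hf₀ h); simp only at this; omega)
  have hfd : Function.Injective fd := fun a b h => Fin.ext (by
    have := congrArg Fin.val (hf₀ h); simpa using this)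
  set cc := (List.finRange d₂).map fc with hcc
  set dd := (List.finRange d₁).map fd with hdd
  set rest := (((Finset.univ.filter fun i => 2 ≤ s i)).toList).erase i₀ with hrest
  set cs := rest.map fun i => (List.finRange (s i)).map fun k => σ ⟨i, k⟩ with hcs
  have hrn : rest.Nodup := (Finset.nodup_toList _).erase _
  have hi₀r : i₀ ∉ rest := List.Nodup.not_mem_erase (Finset.nodup_toList _)
  have hperm : ((Finset.univ.filter fun i => 2 ≤ s i)).toList.Perm (i₀ :: rest) :=
    List.perm_cons_erase (Finset.mem_toList.2 (Finset.mem_filter.2 ⟨Finset.mem_univ _, hi₀⟩))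
  have hdiv : ∀ g : K[X], g.Monic → ∀ w : V, aeval Y g w =
      (Y ^ g.natDegree) w + ∑ k ∈ Finset.range g.natDegree, g.coeff k • (Y ^ k) w := fun g hgm w => by
    rw [aeval_eq_sum_range, LinearMap.sum_apply, Finset.sum_range_succ, add_comm]
    simp [hgm.coeff_natDegree]
  have hc00 : g₁.coeff 0 * g₂.coeff 0 ≠ 0 := by
    rw [← mul_coeff_zero, ← hg, show (cpoly (c i₀)).coeff 0 = -c i₀ ⟨0, by omega⟩ from
      cpoly_coeff (c i₀) ⟨0, by omega⟩, neg_ne_zero]
    exact h.coeff_ne_zero i₀ (by omega)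
  obtain ⟨Q, hQ⟩ := hasForm_of_family e b (y := y) hbspan
    (cs := (cc, [fd ⟨0, h₁⟩]) :: (dd, []) :: pure' cs) (μ := μ)
    (fun v hv => by
      obtain ⟨⟨i, k⟩, rfl⟩ := σ.surjective v
      simp only [List.map_cons, List.flatten_cons, List.mem_append, not_or, pure'_fst] at hv
      by_cases hi : i = i₀
      · subst hi
        exfalso
        by_cases hk : (k : ℕ) < d₁
        · exact hv.2.1 (List.mem_map.2 ⟨⟨k, hk⟩, List.mem_finRange _, rfl⟩)
        · exact hv.1 (List.mem_map.2 ⟨⟨(k : ℕ) - d₁, by omega⟩, List.mem_finRange _, by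
            simp only [fc, f₀]; congr 2; exact Fin.ext (by simp only; omega)⟩)
      · have h2 : ¬ 2 ≤ s i := fun h2 => hv.2.2 (mem_flatten_sigma σ ((List.mem_erase_of_ne hi).2
          (Finset.mem_toList.2 (Finset.mem_filter.2 ⟨Finset.mem_univ _, h2⟩))))
        have hi1 : s i = 1 := by have := h.1 i; omega
        have hk : k = ⟨0, by omega⟩ := Fin.ext (by simp only; have := k.isLt; omega)
        subst hk
        rw [hb1 i _ hi, hby, dif_neg (by simp only; omega),
          Finset.sum_eq_single (⟨0, by omega⟩ : Fin (s i))]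
        · rw [hone i hi1]
        · intro k _ hk; exact absurd (Fin.ext (by simp only; have := k.isLt; omega)) hk
        · simp)
    (fun p hp h' t ht w hw => by
      rcases List.mem_cons.1 hp with rfl | hp
      · -- the upper piece
        simp only at ht hw ⊢
        obtain ⟨l, -, rfl⟩ := List.mem_map.1 hw
        have hh : h' = fc ⟨0, h₂⟩ := by
          have h1 : cc[0]? = some (fc ⟨0, h₂⟩) := by simp [hcc, show 0 < d₂ from h₂]
          rw [ht, List.getElem?_cons_zero] at h1
          exact Option.some_injective _ h1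
        have hbc : ∀ k : Fin d₂, b (fc k) = (Y ^ (k : ℕ)) v₀ := fun k => by
          rw [show fc k = σ ⟨i₀, ⟨d₁ + k, by omega⟩⟩ from rfl, hb0]
          simp [bl]
        rw [hcc, formPerm_map_finRange fc hfc, hh]
        split_ifs with hl
        · refine ⟨fun _ => ?_, fun heq => absurd (hfc heq) fun e => by simp at e⟩
          rw [hbc, hbc, pow_succ', Module.End.mul_apply]
          rfl
        · refine ⟨fun hne => absurd rfl hne, fun _ => ⟨-g₂.coeff 0, neg_ne_zero.2 (right_ne_zero_of_mul hc00), ?_⟩⟩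
          have e1 : y (b (fc l)) = u₀ - ∑ k ∈ Finset.range d₂, g₂.coeff k • (Y ^ k) v₀ := by
            have epow : Y ^ d₂ = Y * Y ^ (l : ℕ) := by
              rw [← pow_succ']; congr 1; have := l.isLt; omega
            rw [hu₀, hdiv g₂ hg₂, add_sub_cancel_right, hbc, ← hd₂, epow, Module.End.mul_apply]
            rfl
          have hu : u₀ = b (fd ⟨0, h₁⟩) := by
            rw [show fd ⟨0, h₁⟩ = σ ⟨i₀, ⟨0, by omega⟩⟩ from rfl, hb0]
            simp only [bl]
            rw [if_pos (show 0 < d₁ from h₁)]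
            rfl
          obtain ⟨r, hr⟩ : ∃ r, d₂ = r + 1 := ⟨d₂ - 1, by omega⟩
          rw [e1, show Finset.range d₂ = Finset.range (r + 1) by rw [hr], Finset.sum_range_succ', hbc, show ((⟨0, h₂⟩ : Fin d₂) : ℕ) = 0 from rfl,
            show ∀ (A B C : V), A - (B + C) - (-g₂.coeff 0) • (Y ^ 0) v₀ = A - B - (C - g₂.coeff 0 • (Y ^ 0) v₀)
              from fun A B C => by module, sub_self, sub_zero]
          refine Submodule.sub_mem _ (Submodule.subset_span ⟨_, Or.inr (List.mem_singleton_self _), hu.symm⟩)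
            (Submodule.sum_mem _ fun k hk => Submodule.smul_mem _ _ ?_)
          have hk' : k + 1 < d₂ := by have := Finset.mem_range.1 hk; omega
          refine Submodule.subset_span ⟨fc ⟨k + 1, hk'⟩, Or.inl ?_, hbc _⟩
          have := List.mem_map_of_mem (f := fc) (List.mem_finRange ⟨k + 1, hk'⟩)
          rw [← hcc, ht, List.mem_cons] at this
          exact this.resolve_left fun e => by have := hfc (e.trans hh); simp at this
      rcases List.mem_cons.1 hp with rfl | hp
      · -- the lower piece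
        simp only at ht hw ⊢
        obtain ⟨l, -, rfl⟩ := List.mem_map.1 hw
        have hh : h' = fd ⟨0, h₁⟩ := by
          have h1 : dd[0]? = some (fd ⟨0, h₁⟩) := by simp [hdd, show 0 < d₁ from h₁]
          rw [ht, List.getElem?_cons_zero] at h1
          exact Option.some_injective _ h1
        have hbd : ∀ k : Fin d₁, b (fd k) = (Y ^ (k : ℕ)) u₀ := fun k => by
          rw [show fd k = σ ⟨i₀, ⟨k, by omega⟩⟩ from rfl, hb0]
          simp only [bl]
          rw [if_pos k.isLt]
        rw [hdd, formPerm_map_finRange fd hfd, hh]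
        split_ifs with hl
        · refine ⟨fun _ => ?_, fun heq => absurd (hfd heq) fun e => by simp at e⟩
          rw [hbd, hbd, pow_succ', Module.End.mul_apply]
          rfl
        · refine ⟨fun hne => absurd rfl hne, fun _ => ⟨-g₁.coeff 0, neg_ne_zero.2 (left_ne_zero_of_mul hc00), ?_⟩⟩
          have e0 : aeval Y g₁ u₀ = 0 := by
            rw [hu₀, ← Module.End.mul_apply, ← map_mul, ← hg, hann]
          have e1 : y (b (fd l)) = -∑ k ∈ Finset.range d₁, g₁.coeff k • (Y ^ k) u₀ := by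
            rw [eq_neg_iff_add_eq_zero, ← e0, hdiv g₁ hg₁, hbd, ← hd₁]
            have epow : Y ^ d₁ = Y * Y ^ (l : ℕ) := by
              rw [← pow_succ']; congr 1; have := l.isLt; omega
            rw [epow, Module.End.mul_apply]
            rfl
          obtain ⟨r, hr⟩ : ∃ r, d₁ = r + 1 := ⟨d₁ - 1, by omega⟩
          rw [e1, show Finset.range d₁ = Finset.range (r + 1) by rw [hr], Finset.sum_range_succ', hbd, show ((⟨0, h₁⟩ : Fin d₁) : ℕ) = 0 from rfl,
            show ∀ (B C : V), -(B + C) - (-g₁.coeff 0) • (Y ^ 0) u₀ = -B - (C - g₁.coeff 0 • (Y ^ 0) u₀)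
              from fun B C => by module, sub_self, sub_zero]
          refine Submodule.neg_mem _ (Submodule.sum_mem _ fun k hk => Submodule.smul_mem _ _ ?_)
          have hk' : k + 1 < d₁ := by have := Finset.mem_range.1 hk; omega
          refine Submodule.subset_span ⟨fd ⟨k + 1, hk'⟩, Or.inl ?_, hbd _⟩
          have := List.mem_map_of_mem (f := fd) (List.mem_finRange ⟨k + 1, hk'⟩)
          rw [← hdd, ht, List.mem_cons] at this
          exact this.resolve_left fun e => by have := hfd (e.trans hh); simp at this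
      obtain ⟨c', hc', rfl⟩ := List.mem_map.1 hp
      obtain ⟨i, hi, rfl⟩ := List.mem_map.1 hc'
      have hii : i ≠ i₀ := fun e => hi₀r (e ▸ hi)
      simp only at ht hw ⊢
      rw [ht] at hw ⊢
      have hw2 := hw
      rw [← ht] at hw2
      obtain ⟨l, -, rfl⟩ := List.mem_map.1 hw2
      -- away from the split block the vectors are unchanged
      have hf : Function.Injective fun k => σ ⟨i, k⟩ := fun a b h => by simpa using σ.injective h
      have hh : h' = σ ⟨i, ⟨0, h.1 i⟩⟩ := by
        have h1 : ((List.finRange (s i)).map fun k => σ ⟨i, k⟩)[0]? = some (σ ⟨i, ⟨0, h.1 i⟩⟩) := by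
          simp [show 0 < s i from h.1 i]
        rw [ht, List.getElem?_cons_zero] at h1
        exact Option.some_injective _ h1
      rw [← ht, formPerm_map_finRange _ hf, hb1 i l hii, hby, hh]
      split_ifs with hl
      · refine ⟨fun _ => (hb1 i _ hii).symm, fun heq => absurd (hf heq) fun e => by simp at e⟩
      · refine ⟨fun hne => absurd rfl hne, fun _ => ⟨c i ⟨0, h.1 i⟩, h.coeff_ne_zero i (h.1 i), ?_⟩⟩
        rw [hb1 i _ hii, ← Finset.add_sum_erase _ _ (Finset.mem_univ (⟨0, h.1 i⟩ : Fin (s i))),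
          add_sub_cancel_left]
        refine Submodule.sum_mem _ fun k hk =>
          Submodule.smul_mem _ _ (Submodule.subset_span ⟨σ ⟨i, k⟩, Or.inl ?_, hb1 i k hii⟩)
        have hk' : σ ⟨i, k⟩ ∈ h' :: t := ht ▸ List.mem_map_of_mem (List.mem_finRange k)
        rcases List.mem_cons.1 hk' with e | e
        · exact absurd (hf (e.trans hh)) (Finset.ne_of_mem_erase hk)
        · exact e)
  refine ⟨rest.map s, ?_, hsum, Q, cc, dd, fd ⟨0, h₁⟩, cs, by simp [hcc], by simp [hdd],
    List.mem_map_of_mem (List.mem_finRange _), ?_, ?_, hQ⟩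
  · exact hperm.map s
  · rw [hcs, List.map_map]; congr 1; funext i; simp
  · simp only [List.flatten_cons, List.nodup_append']
    refine ⟨(List.nodup_finRange _).map hfc, ⟨(List.nodup_finRange _).map hfd,
      flatten_nodup_of_sigma σ hrn, fun x hx hx' => ?_⟩, fun x hx hx' => ?_⟩
    · obtain ⟨k, -, rfl⟩ := List.mem_map.1 hx
      obtain ⟨c', hc', hxc⟩ := List.mem_flatten.1 hx'
      obtain ⟨i, hi, rfl⟩ := List.mem_map.1 hc'
      obtain ⟨k', -, hk'⟩ := List.mem_map.1 hxc
      exact hi₀r ((show i = i₀ from congrArg Sigma.fst (σ.injective hk')) ▸ hi)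
    · obtain ⟨k, -, rfl⟩ := List.mem_map.1 hx
      rcases List.mem_append.1 hx' with hx' | hx'
      · obtain ⟨k', -, hk'⟩ := List.mem_map.1 hx'
        have := congrArg Fin.val (hf₀ hk')
        simp only at this
        omega
      · obtain ⟨c', hc', hxc⟩ := List.mem_flatten.1 hx'
        obtain ⟨i, hi, rfl⟩ := List.mem_map.1 hc'
        obtain ⟨k', -, hk'⟩ := List.mem_map.1 hxc
        exact hi₀r ((show i = i₀ from congrArg Sigma.fst (σ.injective hk')) ▸ hi)

end Cfsg.Agent.CoverNum
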