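import Mathlib
import Cfsg.Agent.CoverNum.Basic

/-!
# A factor of any cyclic type turning an endomorphism into one with a root

With a hyperplane and a shift as in the commutator construction, the conjugating map is moreover
controlled up to determinant.
-/

namespace Cfsg.Agent.CoverNum

open Polynomial Module OreSL

variable {K : Type*} [Field K] {V : Type*} [AddCommGroup V] [Module K V] [FiniteDimensional K V]

/-- `T` times a conjugate of any cyclic `M` takes every form `h * (X - s)` allowed by determinants,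
the determinant of the conjugating map being a fixed multiple of `s ^ (n - 1)`. -/
def Tool (T : Module.End K V) : Prop :=
  ∀ (M : Module.End K V) (f : K[X]), Cyc M f → LinearMap.det M ≠ 0 → ∃ ρ : K, ρ ≠ 0 ∧
    ∀ (h : K[X]) (s : K), h.Monic → h.natDegree + 1 = finrank K V →
      LinearMap.det T * LinearMap.det M = (-1) ^ h.natDegree * h.coeff 0 * s →
      ∃ P : V ≃ₗ[K] V, LinearMap.det (P : Module.End K V) = ρ * s ^ h.natDegree ∧
        aeval (T * P.conj M) (h * (X - C s)) = 0 ∧
        (h.eval s ≠ 0 → Cyc (T * P.conj M) (h * (X - C s)))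

omit [FiniteDimensional K V] in
theorem conj_pow {V' : Type*} [AddCommGroup V'] [Module K V'] (e : V ≃ₗ[K] V')
    (A : Module.End K V) (i : ℕ) (v : V) : ((e.conj A) ^ i) (e v) = e ((A ^ i) v) := by
  induction i generalizing v with
  | zero => rfl
  | succ i ih =>
    rw [pow_succ, pow_succ, Module.End.mul_apply, Module.End.mul_apply, ← ih]
    simp [LinearEquiv.conj_apply]

omit [FiniteDimensional K V] in
theorem aeval_conj {V' : Type*} [AddCommGroup V'] [Module K V'] (e : V ≃ₗ[K] V')
    (A : Module.End K V) (p : K[X]) : aeval (e.conj A) p = e.conj (aeval A p) := by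
  refine LinearMap.ext fun w => ?_
  obtain ⟨v, rfl⟩ := e.surjective w
  have h1 : ∀ B : Module.End K V, e.conj B (e v) = e (B v) := fun B => by
    simp [LinearEquiv.conj_apply]
  rw [h1, aeval_eq_sum_range, aeval_eq_sum_range]
  simp only [LinearMap.sum_apply, LinearMap.smul_apply, conj_pow, map_sum, map_smul]

theorem Tool.of_equiv {V' : Type*} [AddCommGroup V'] [Module K V'] [FiniteDimensional K V']
    (e : V ≃ₗ[K] V') {T : Module.End K V} {T' : Module.End K V'}
    (hT : ∀ v, e (T v) = T' (e v)) (h : Tool T) : Tool T' := by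
  intro M' f hM hdet
  let M : Module.End K V := e.symm.conj M'
  have hMe : ∀ v, e (M v) = M' (e v) := fun v => by simp [M, LinearEquiv.conj_apply]
  have hdM : LinearMap.det M = LinearMap.det M' := by
    rw [show M = e.symm.conj M' from rfl, LinearEquiv.conj_apply, LinearMap.comp_assoc,
      LinearMap.det_conj]
  have hdT : LinearMap.det T' = LinearMap.det T := by
    rw [← LinearMap.det_conj T e]
    congr 1
    exact LinearMap.ext fun w => by simp [hT]
  obtain ⟨ρ, hρ, H⟩ := h M f (hM.map e.symm fun v => by simp [M, LinearEquiv.conj_apply]) (hdM ▸ hdet)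
  refine ⟨ρ, hρ, fun g s hg hgd hc => ?_⟩
  obtain ⟨P, hP1, hP2, hP3⟩ := H g s hg (hgd.trans e.finrank_eq.symm) (by rwa [← hdT, hdM])
  let P' : V' ≃ₗ[K] V' := e.symm.trans (P.trans e)
  have he : ∀ v, e ((T * P.conj M) v) = (T' * P'.conj M') (e v) := fun v => by
    simp [LinearEquiv.conj_apply, P', hT, M]
  refine ⟨P', ?_, ?_, fun hgs => (hP3 hgs).map e he⟩
  · rw [← hP1, show (P' : Module.End K V') = e.conj (P : Module.End K V) from rfl,
      LinearEquiv.conj_apply, LinearMap.comp_assoc, LinearMap.det_conj]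
  · have : T' * P'.conj M' = e.conj (T * P.conj M) := LinearMap.ext fun w => by
      obtain ⟨v, rfl⟩ := e.surjective w
      rw [← he]; simp [LinearEquiv.conj_apply]
    rw [this, aeval_conj, hP2, map_zero]

/-- **Two completions of the same polynomial**: the determinant of the conjugating map. -/
theorem exists_conj_det {M N : Module.End K V} {μ : Dual K V} (hM : InvFree M μ) (hN : InvFree N μ)
    {f : K[X]} (hf : f.Monic) (hd : f.natDegree = finrank K V) (hfM : aeval M f = 0)
    (hfN : aeval N f = 0) (u u' : V) (hNM : ∀ z, N z = M z + μ (M z) • u + μ z • u') :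
    ∃ R : V ≃ₗ[K] V, (∀ z, R (M z) = N (R z)) ∧
      LinearMap.det (R : Module.End K V) * (1 + μ u) ^ (finrank K V - 1) = 1 := by
  classical
  set n := finrank K V
  have key : ∀ {A : Module.End K V}, InvFree A μ → aeval A f = 0 →
      ∃ E : V ≃ₗ[K] (Fin n → K), ∀ x i, E x i = μ ((A ^ (i : ℕ)) x) := by
    intro A hA hfA
    let P : V →ₗ[K] (Fin n → K) := LinearMap.pi fun i => μ ∘ₗ (A ^ (i : ℕ) : Module.End K V)
    have hP : Function.Injective P := by
      rw [← LinearMap.ker_eq_bot]
      refine (Submodule.eq_bot_iff _).2 fun z hz => hA.eq_zero_of_lt hf hfA hd fun i hi => ?_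
      exact congrFun (LinearMap.mem_ker.1 hz) ⟨i, hi⟩
    exact ⟨LinearEquiv.ofBijective P ⟨hP,
      (LinearMap.injective_iff_surjective_of_finrank_eq_finrank (by simp [n])).1 hP⟩,
      fun x i => rfl⟩
  obtain ⟨E₁, h₁⟩ := key hM hfM
  obtain ⟨E₂, h₂⟩ := key hN hfN
  let R : V ≃ₗ[K] V := E₁.trans E₂.symm
  have horb : ∀ (z : V) (i : ℕ), μ ((N ^ i) (R z)) = μ ((M ^ i) z) := by
    intro z i
    induction i using Nat.strong_induction_on with
    | h i ih =>
      rcases lt_or_ge i n with hi | hi
      · have := h₂ (R z) ⟨i, hi⟩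
        rw [show E₂ (R z) = E₁ z from E₂.apply_symm_apply _, h₁] at this
        exact this.symm
      · obtain ⟨j, rfl⟩ := Nat.exists_eq_add_of_le hi
        have sol : ∀ (A : Module.End K V) (v : V), aeval A f = 0 →
            μ ((A ^ (n + j)) v) = -∑ k ∈ Finset.range n, f.coeff k * μ ((A ^ (j + k)) v) := by
          intro A v hA
          have e : μ ((A ^ j) (aeval A f v)) = 0 := by rw [hA]; simp
          rw [aeval_eq_sum_range, hd, LinearMap.sum_apply, map_sum, map_sum, Finset.sum_range_succ] at e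
          simp only [LinearMap.smul_apply, map_smul, ← Module.End.mul_apply, ← pow_add, smul_eq_mul] at e
          rw [show f.coeff n = 1 by rw [← hd]; exact hf.coeff_natDegree, one_mul, add_comm j n] at e
          rw [eq_neg_iff_add_eq_zero, add_comm]
          exact e
        rw [sol N _ hfN, sol M _ hfM]
        exact congrArg Neg.neg (Finset.sum_congr rfl fun k hk => by
          rw [ih _ (by have := Finset.mem_range.1 hk; omega)])
  refine ⟨R, fun z => sub_eq_zero.1 (hN _ fun i => ?_), ?_⟩
  · rw [map_sub, map_sub, sub_eq_zero, horb, ← Module.End.mul_apply, ← pow_succ, ← horb,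
      pow_succ, Module.End.mul_apply]
  · set r := 1 + μ u
    let L : Module.End K (Fin n → K) := (E₂ : V →ₗ[K] Fin n → K) ∘ₗ (E₁.symm : (Fin n → K) →ₗ[K] V)
    have hdet : LinearMap.det (R : Module.End K V) * LinearMap.det L = 1 := by
      rw [← LinearMap.det_conj (R : Module.End K V) E₁, ← map_mul,
        show ((E₁ : V →ₗ[K] Fin n → K) ∘ₗ ((R : Module.End K V) ∘ₗ (E₁.symm : (Fin n → K) →ₗ[K] V))) * L =
          1 from LinearMap.ext fun x => by simp [L, R], map_one]
    have hrec : ∀ (i : ℕ) (z : V), (∀ l ≤ i, μ ((M ^ l) z) = 0) →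
        μ ((N ^ (i + 1)) z) = r * μ ((M ^ (i + 1)) z) := by
      intro i
      induction i with
      | zero =>
        intro z hz
        have h0 : μ z = 0 := by simpa using hz 0 le_rfl
        simp only [zero_add, pow_one, hNM, map_add, map_smul, h0, smul_eq_mul, zero_mul, add_zero, r]
        ring
      | succ i ih =>
        intro z hz
        have h0 : μ z = 0 := by simpa using hz 0 (Nat.zero_le _)
        have h1 : μ (M z) = 0 := by simpa using hz 1 (by omega)
        rw [pow_succ, Module.End.mul_apply, hNM, h0, h1, zero_smul, zero_smul, add_zero, add_zero,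
          pow_succ (n := i + 1), Module.End.mul_apply]
        exact ih (M z) fun l hl => by
          rw [← Module.End.mul_apply, ← pow_succ]
          exact hz (l + 1) (by omega)
    have hL : ∀ i j : Fin n, i ≤ j →
        LinearMap.toMatrix' L i j = if i = j then r ^ (if (i : ℕ) = 0 then 0 else 1) else 0 := by
      intro i j hij
      set z := E₁.symm (Pi.single j 1) with hzdef
      have hz : ∀ l : Fin n, μ ((M ^ (l : ℕ)) z) = (Pi.single j 1 : Fin n → K) l := fun l => by
        rw [← h₁, hzdef, LinearEquiv.apply_symm_apply]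
      rw [LinearMap.toMatrix'_apply, show L (Pi.single j 1) = E₂ z by simp [L, hzdef], h₂]
      rcases Nat.eq_zero_or_pos (i : ℕ) with h0 | h0
      · have := hz i
        rw [h0] at this ⊢
        simp only [pow_zero, Module.End.one_apply] at this ⊢
        rw [this, Pi.single_apply]
        simp
      · obtain ⟨k, hk⟩ : ∃ k, (i : ℕ) = k + 1 := ⟨(i : ℕ) - 1, by omega⟩
        rw [hk, hrec k z fun l hl => ?_, ← hk, hz i, Pi.single_apply, if_neg h0.ne']
        · split_ifs <;> simp
        · have hln : l < n := by have := i.isLt; omega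
          rw [hz ⟨l, hln⟩, Pi.single_eq_of_ne (Fin.ne_of_val_ne (show l ≠ (j : ℕ) by omega))]
    have : LinearMap.det L = r ^ (n - 1) := by
      rw [← LinearMap.det_toMatrix', Matrix.det_of_isLowerTriangular _ fun i j (hij : i < j) =>
        (hL i j hij.le).trans (if_neg hij.ne)]
      rcases Nat.eq_zero_or_pos n with h0 | hpos
      · have : IsEmpty (Fin n) := by rw [h0]; infer_instance
        simp [h0]
      · rw [Finset.prod_congr rfl fun i _ => (hL i i le_rfl).trans (if_pos rfl),
          Finset.prod_pow_eq_pow_sum]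
        congr 1
        obtain ⟨m, hm⟩ : ∃ m, n = m + 1 := ⟨n - 1, by omega⟩
        rw [Finset.sum_ite, Finset.sum_const_zero, zero_add, Finset.sum_const, smul_eq_mul, mul_one,
          Finset.filter_not, Finset.card_univ_sdiff, Fintype.card_fin,
          show (Finset.univ.filter fun i : Fin n => (i : ℕ) = 0) = {⟨0, hpos⟩} by
            ext i; simp [Fin.ext_iff], Finset.card_singleton]
    rw [← this]
    exact hdet

/-- **The core construction.** -/
theorem core {W : Type*} [AddCommGroup W] [Module K W] [FiniteDimensional K W]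
    {T : Module.End K (W × K)} (Φ : Module.End K W) (φ : Dual K W)
    (hT : ∀ w, T (w, 0) = (Φ w, φ w)) (hdet : LinearMap.det T ≠ 0) (sft : Module.End K W)
    (α : Dual K W) (hφ : ∀ z, φ (sft z) = 0) (h1 : InvFree sft α) (h2 : InvFree (Φ ∘ₗ sft) α)
    {x₀ : Dual K W} (hx₀ : x₀ ≠ 0) (hx₀Φ : ∀ w, x₀ (Φ w) = 0) (hd1 : 1 ≤ finrank K W) :
    Tool T := by
  intro M₀ f hM₀ hdM₀
  obtain ⟨hfm, hfd, hfM₀, μ₀, hμ₀⟩ := hM₀
  have hfr : finrank K (W × K) = finrank K W + 1 := by
    rw [Module.finrank_prod, Module.finrank_self]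
  set τ := LinearMap.det T * LinearMap.det M₀ with hτdef
  have hτ : τ ≠ 0 := mul_ne_zero hdet hdM₀
  obtain ⟨Ti, hTi⟩ := (LinearMap.isUnit_iff_isUnit_det T).2 (isUnit_iff_ne_zero.2 hdet)
  set Tinv : Module.End K (W × K) := (↑Ti⁻¹ : Module.End K (W × K))
  have hTTi : ∀ z, T (Tinv z) = z := fun z => by
    rw [← Module.End.mul_apply, ← hTi, Units.mul_inv, Module.End.one_apply]
  have hTinj : Function.Injective T := ((Module.End.isUnit_iff T).1 ⟨Ti, hTi⟩).1
  have hTsft : ∀ w, Tinv (Φ (sft w), 0) = (sft w, 0) := fun w => hTinj (by rw [hTTi, hT, hφ])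
  set κ₀ := x₀ ((T (0, 1)).1)
  have hν : ∀ z : W × K, x₀ ((T z).1) = z.2 * κ₀ := fun z => by
    rw [show z = (z.1, (0 : K)) + z.2 • ((0 : W), (1 : K)) by simp, map_add, map_smul, hT]
    simp [hx₀Φ, κ₀]
  have hκ₀ : κ₀ ≠ 0 := fun h0 => hx₀ (LinearMap.ext fun w => by
    rw [show w = (T (Tinv (w, 0))).1 by rw [hTTi], hν, h0, mul_zero, LinearMap.zero_apply])
  -- one factor for each admissible polynomial
  have build : ∀ (h : K[X]) (s : K), h.Monic → h.natDegree = finrank K W →
      τ = (-1) ^ h.natDegree * h.coeff 0 * s →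
      ∃ (M' : Module.End K (W × K)) (d : W), InvFree M' (LinearMap.snd K W K) ∧ aeval M' f = 0 ∧
        (∀ w, M' (w, 0) = (sft w, 0) + α w • Tinv (d, 0)) ∧ x₀ d ≠ 0 ∧
        LinearMap.det (Φ ∘ₗ sft + α.smulRight d) * s = τ ∧
        aeval (T * M') (h * (X - C s)) = 0 ∧ (h.eval s ≠ 0 → Cyc (T * M') (h * (X - C s))) := by
    intro h s hm hdeg hc
    obtain ⟨d, hB, hBfree⟩ := h2.exists_completion hm hdeg
    set B : Module.End K W := Φ ∘ₗ sft + α.smulRight d with hBdef
    have hdB : LinearMap.det B * s = τ := by rw [hBfree.det_eq hm hdeg hB, hc, hdeg]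
    have hs : s ≠ 0 := fun h0 => hτ (by rw [← hdB, h0, mul_zero])
    have hdB0 : LinearMap.det B ≠ 0 := fun h0 => hτ (by rw [← hdB, h0, zero_mul])
    have hBu : Function.Bijective B :=
      (Module.End.isUnit_iff B).1 ((LinearMap.isUnit_iff_isUnit_det B).2 (isUnit_iff_ne_zero.2 hdB0))
    have hd0 : x₀ d ≠ 0 := fun e => hx₀ (LinearMap.ext fun w => by
      obtain ⟨y, rfl⟩ := hBu.2 w
      simp [hBdef, hx₀Φ, e])
    let b₀ : Module.End K (W × K) := LinearMap.prodMap B (s • LinearMap.id)
    let M : Module.End K (W × K) := Tinv * b₀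
    have hM : ∀ w, M (w, 0) = (sft w, 0) + α w • Tinv (d, 0) := fun w => by
      rw [← hTsft, ← map_smul, ← map_add]
      simp [M, b₀, hBdef]
    have hMfree : InvFree M (LinearMap.snd K W K) := by
      refine InvFree.of_submodule fun Z hZ1 hZ2 => ?_
      have key : ∀ w, (w, (0 : K)) ∈ Z → α w = 0 := fun w hw => by
        have h3 : (M (w, 0)).2 = 0 := hZ1 _ (hZ2 _ hw)
        have h4 : (B w : W) = (T (M (w, 0))).1 := by simp [M, b₀, hTTi]
        have h5 : α w * x₀ d = 0 := by
          have := congrArg x₀ h4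
          rw [hν, h3, zero_mul] at this
          simpa [hBdef, hx₀Φ] using this
        exact (mul_eq_zero.1 h5).resolve_right hd0
      have hZ : Z.comap (LinearMap.inl K W K) = ⊥ := h1.submodule_eq_bot _ (fun w hw => key w hw)
        fun w hw => by
          have := hZ2 _ hw
          rw [show LinearMap.inl K W K w = (w, 0) from rfl, hM, key w hw, zero_smul, add_zero] at this
          exact this
      refine (Submodule.eq_bot_iff _).2 fun z hz => ?_
      have hz2 : z.2 = 0 := hZ1 z hz
      refine Prod.ext ((Submodule.eq_bot_iff _).1 hZ _ ?_) hz2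
      show (z.1, (0 : K)) ∈ Z
      rw [← hz2]
      exact hz
    obtain ⟨d', hfM, hM'free⟩ := hMfree.exists_completion hfm hfd
    set M' : Module.End K (W × K) := M + (LinearMap.snd K W K).smulRight d' with hM'
    set b : Module.End K (W × K) := T * M' with hb
    have hb_apply : ∀ z : W × K,
        b z = (B z.1 + z.2 • (T d').1, s * z.2 + z.2 * (T d').2) := fun z => by
      simp [hb, hM', M, b₀, hTTi, Prod.ext_iff]
    have hdM' : LinearMap.det M' = LinearMap.det M₀ := by
      rw [hM'free.det_eq hfm hfd hfM, hμ₀.det_eq hfm hfd hfM₀]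
    -- the last diagonal entry is unchanged
    obtain ⟨u', hu'⟩ := hBu.2 (T d').1
    have hs' : (T d').2 = 0 := by
      have e : b = (LinearMap.prodMap B ((s + (T d').2) • LinearMap.id)) *
          LinearMap.transvection (LinearMap.snd K W K) (u', 0) := LinearMap.ext fun z => by
        rw [hb_apply]
        simp [LinearMap.transvection.apply, hu', Prod.ext_iff]
        ring
      have hdb : LinearMap.det b = LinearMap.det B * s := by rw [hdB, hb, map_mul, hdM']
      rw [e, map_mul, LinearMap.det_prodMap, LinearMap.transvection.det] at hdb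
      simp only [LinearMap.det_smul, LinearMap.det_id, Module.finrank_self, pow_one, mul_one,
        LinearMap.snd_apply, add_zero] at hdb
      simpa using mul_left_cancel₀ hdB0 hdb
    have hbW : ∀ w : W, b (w, 0) = (B w, 0) := fun w => by rw [hb_apply]; simp
    have hbp : ∀ (p : K[X]) (w : W), aeval b p (w, 0) = (aeval B p w, 0) := by
      intro p
      induction p using Polynomial.induction_on with
      | C a => intro w; simp [Module.algebraMap_end_apply]
      | add p q hp hq => intro w; simp [hp, hq]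
      | monomial k a hk =>
        intro w
        simp only [map_mul, map_pow, aeval_X, aeval_C] at hk ⊢
        rw [pow_succ, pow_succ, ← mul_assoc (algebraMap K (Module.End K (W × K)) a),
          ← mul_assoc (algebraMap K (Module.End K W) a),
          show (algebraMap K (Module.End K (W × K)) a * b ^ k * b) (w, 0) =
            (algebraMap K (Module.End K (W × K)) a * b ^ k) (b (w, 0)) from rfl, hbW, hk]
        rfl
    have hbf : aeval b (h * (X - C s)) = 0 := LinearMap.ext fun z => by
      rw [map_mul, Module.End.mul_apply, show aeval b (X - C s) z = (B z.1 + z.2 • (T d').1 - s • z.1, 0) by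
        simp [hb_apply, hs', Module.algebraMap_end_apply, Prod.ext_iff, mul_comm], hbp, hB]
      simp
    refine ⟨M', d, hM'free, hfM, fun w => by simp [hM', hM], hd0, hdB, hbf, fun hhs =>
      ⟨hm.mul (monic_X_sub_C s), ?_, hbf, ?_⟩⟩
    · rw [hm.natDegree_mul (monic_X_sub_C s), hdeg, natDegree_X_sub_C, hfr]
    -- diagonalise
    have hinj : Function.Injective (s • LinearMap.id - B : Module.End K W) := by
      rw [← LinearMap.ker_eq_bot]
      refine (Submodule.eq_bot_iff _).2 fun x hx => by_contra fun hx0 => hhs ?_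
      have hxe : B x = s • x := by
        have h' := LinearMap.mem_ker.1 hx
        rw [LinearMap.sub_apply, LinearMap.smul_apply, LinearMap.id_apply, sub_eq_zero] at h'
        exact h'.symm
      have := Module.End.aeval_apply_of_hasEigenvector (p := h) (f := B) (μ := s)
        ⟨Module.End.mem_eigenspace_iff.2 hxe, hx0⟩
      rw [hB, LinearMap.zero_apply, eq_comm, smul_eq_zero] at this
      exact this.resolve_right hx0
    obtain ⟨w₀, hw₀⟩ := (LinearMap.injective_iff_surjective.1 hinj) (T d').1
    simp only [LinearMap.sub_apply, LinearMap.smul_apply, LinearMap.id_apply] at hw₀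
    have hs1 : aeval (s • LinearMap.id : Module.End K K) (X - C s) = 0 := by
      ext; simp [Module.algebraMap_end_apply]
    have hco : IsCoprime h (X - C s) := ((Polynomial.irreducible_X_sub_C s).coprime_iff_not_dvd.2
      fun hdvd => hhs (dvd_iff_isRoot.1 hdvd)).symm
    have hca : aeval (LinearMap.prodMap B (s • LinearMap.id) : Module.End K (W × K))
        (h * (X - C s)) = 0 := by
      rw [aeval_prodMap, map_mul, map_mul, hB, hs1, zero_mul, mul_zero]
      exact LinearMap.prodMap_zero
    have hc1 : Cyc (LinearMap.prodMap B (s • LinearMap.id)) (h * (X - C s)) :=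
      ⟨hm.mul (monic_X_sub_C s),
        by rw [hm.natDegree_mul (monic_X_sub_C s), hdeg, natDegree_X_sub_C, hfr],
        hca, _, hBfree.prod (invFree_scalar s) hB hs1 hco⟩
    let E : (W × K) ≃ₗ[K] (W × K) := LinearEquiv.ofBijective
      (LinearMap.transvection (LinearMap.snd K W K) (w₀, 0)) ((Module.End.isUnit_iff _).1
        ((LinearMap.isUnit_iff_isUnit_det _).2 (by rw [LinearMap.transvection.det]; simp)))
    exact (hc1.map E fun z => by
      show LinearMap.transvection _ _ _ = b (LinearMap.transvection _ _ z)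
      rw [hb_apply]
      simp only [LinearMap.transvection.apply, LinearMap.snd_apply, LinearMap.prodMap_apply,
        LinearMap.smul_apply, LinearMap.id_apply, Prod.smul_mk, smul_zero, Prod.fst_add,
        Prod.snd_add, add_zero, smul_eq_mul, hs', mul_zero, map_add, map_smul, ← hw₀]
      refine Prod.ext ?_ (by simp)
      simp only [Prod.fst_add]
      module).2.2.2
  -- the reference factor
  set d₀ := finrank K W
  have hc1 : (X ^ d₀ + C ((-1) ^ d₀ * τ) : K[X]).natDegree = d₀ := natDegree_X_pow_add_C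
  obtain ⟨M₁, d₁, hM₁, hfM₁, hM₁w, hx₁, hdB₁, -, -⟩ := build (X ^ d₀ + C ((-1) ^ d₀ * τ)) 1
    (monic_X_pow_add_C _ (by omega)) hc1 (by
      rw [hc1, coeff_add, coeff_X_pow, if_neg (by omega), coeff_C_zero, zero_add, mul_one,
        ← mul_assoc, ← mul_pow]
      simp)
  obtain ⟨P₁, hP₁⟩ := (show Cyc M₀ f from ⟨hfm, hfd, hfM₀, μ₀, hμ₀⟩).exists_conj
    (show Cyc M₁ f from ⟨hfm, hfd, hfM₁, _, hM₁⟩)
  refine ⟨LinearMap.det (P₁ : Module.End K (W × K)), (LinearEquiv.isUnit_det' P₁).ne_zero,
    fun h s hm hdeg hc => ?_⟩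
  have hdeg' : h.natDegree = d₀ := by omega
  obtain ⟨M₂, d₂, hM₂, hfM₂, hM₂w, hx₂, hdB₂, hb1, hb2⟩ := build h s hm hdeg' hc
  rw [mul_one] at hdB₁
  set κ₁ := x₀ d₁ / κ₀
  have hT2 : ∀ d : W, (Tinv (d, 0)).2 = x₀ d / κ₀ := fun d => by
    rw [eq_div_iff hκ₀, ← hν, hTTi]
  have hμ1 : ∀ w, (M₁ (w, 0)).2 = α w * κ₁ := fun w => by simp [hM₁w, hT2, κ₁]
  have hκ₁ : κ₁ ≠ 0 := div_ne_zero hx₁ hκ₀
  let u : W × K := κ₁⁻¹ • Tinv (d₂ - d₁, 0)
  let u' : W × K := M₂ (0, 1) - M₁ (0, 1) - (M₁ (0, 1)).2 • u
  have hNM : ∀ z, M₂ z = M₁ z + (LinearMap.snd K W K) (M₁ z) • u + (LinearMap.snd K W K) z • u' := by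
    intro z
    have e1 : z = (z.1, (0 : K)) + z.2 • ((0 : W), (1 : K)) := by simp
    have e2 : M₂ (z.1, 0) = M₁ (z.1, 0) + (M₁ (z.1, 0)).2 • u := by
      simp only [hμ1, u, smul_smul, mul_assoc, mul_inv_cancel₀ hκ₁, mul_one]
      rw [hM₁w, hM₂w, add_assoc, ← smul_add, ← map_add]
      simp
    conv_lhs => rw [e1, map_add, map_smul, e2]
    conv_rhs => rw [e1, map_add, map_smul]
    simp only [LinearMap.snd_apply, Prod.snd_add, Prod.smul_snd, smul_eq_mul, u']
    module
  obtain ⟨R, hR, hRd⟩ := exists_conj_det hM₁ hM₂ hfm hfd hfM₁ hfM₂ u u' hNM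
  have hr : (1 + (LinearMap.snd K W K) u) * x₀ d₁ = x₀ d₂ := by
    simp only [u, LinearMap.snd_apply, Prod.smul_snd, hT2, smul_eq_mul, κ₁, map_sub]
    field_simp
    ring
  -- ratio of the two leading corrections
  have hrat : x₀ d₂ * s = x₀ d₁ := by
    have hu1 : IsUnit (Φ ∘ₗ sft + α.smulRight d₁) :=
      (LinearMap.isUnit_iff_isUnit_det _).2 (by rw [hdB₁]; exact isUnit_iff_ne_zero.2 hτ)
    obtain ⟨y, hy⟩ := ((Module.End.isUnit_iff _).1 hu1).2 (d₂ - d₁)
    have e : Φ ∘ₗ sft + α.smulRight d₂ =
        (Φ ∘ₗ sft + α.smulRight d₁) * LinearMap.transvection α y := LinearMap.ext fun w => by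
      rw [Module.End.mul_apply, LinearMap.transvection.apply, map_add, map_smul, hy]
      simp only [LinearMap.add_apply, LinearMap.smulRight_apply]
      module
    have hy' : α y * x₀ d₁ = x₀ d₂ - x₀ d₁ := by
      have := congrArg x₀ hy
      simpa [hx₀Φ] using this
    rw [e, map_mul, hdB₁, LinearMap.transvection.det, mul_assoc, mul_eq_left₀ hτ] at hdB₂
    linear_combination (-s) * hy' + x₀ d₁ * hdB₂
  have hr' : (1 + (LinearMap.snd K W K) u) * s = 1 := by
    apply mul_right_cancel₀ hx₁
    linear_combination s * hr + hrat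
  refine ⟨P₁.trans R, ?_, ?_⟩
  · rw [show ((P₁.trans R : (W × K) ≃ₗ[K] (W × K)) : Module.End K (W × K)) =
      (R : Module.End K (W × K)) * P₁ from rfl, map_mul, mul_comm]
    congr 1
    rw [hfr, Nat.add_sub_cancel] at hRd
    rw [hdeg']
    calc LinearMap.det (R : Module.End K (W × K))
        = LinearMap.det (R : Module.End K (W × K)) * ((1 + (LinearMap.snd K W K) u) * s) ^ d₀ := by
          rw [hr', one_pow, mul_one]
      _ = s ^ d₀ := by rw [mul_pow, ← mul_assoc, hRd, one_mul]
  · have e : (P₁.trans R).conj M₀ = M₂ := LinearMap.ext fun z => by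
      obtain ⟨v, rfl⟩ := (P₁.trans R).surjective z
      rw [LinearEquiv.conj_apply, LinearMap.comp_apply, LinearMap.comp_apply, LinearEquiv.coe_coe,
        LinearEquiv.coe_coe, LinearEquiv.symm_apply_apply, LinearEquiv.trans_apply,
        LinearEquiv.trans_apply, hP₁, hR]
    rw [e]
    exact ⟨hb1, hb2⟩

end Cfsg.Agent.CoverNum
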