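import Mathlib
import Cfsg.Agent.CoverNum.Core
import Cfsg.Agent.OreSL.Blocks

/-!
# The tool for every non-scalar automorphism

The hyperplane and shift are found as in the commutator construction of `OreSL`.
-/

set_option linter.unusedSectionVars false

namespace Cfsg.Agent.CoverNum

open Polynomial Module OreSL

universe u v

variable {K : Type u} [Field K]

section

variable {U : Type*} [AddCommGroup U] [Module K U] {W : Type*} [AddCommGroup W] [Module K W]

/-- **The arrangement**: one distinguished block, a segment and a final piece. -/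
theorem tool_layout {e : ℕ} (he : 1 ≤ e) {U R : Type*} [AddCommGroup U] [Module K U]
    [FiniteDimensional K U] [AddCommGroup R] [Module K R] [FiniteDimensional K R]
    {TU : Module.End K U} {TR : Module.End K R} (hU : GoodSeg TU) (hR : GoodEnd TR)
    (hpar : Even e → Subsingleton R)
    {T : Module.End K (((Fin e → K) × U × R) × K)}
    (hT : ∀ x u r, T ((x, u, r), 0) = ((shift e x, TU u, TR r), ext (e - 1) x))
    (hdet : LinearMap.det T ≠ 0) : Tool T := by
  classical
  obtain ⟨S, hS1, hS2⟩ := hU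
  obtain ⟨Q, hQ1, hQ2, hQ0⟩ : ∃ Q : Seg K R, Collapse Q.N Q.o ∧ Collapse (TR ∘ₗ Q.N) Q.o ∧
      (Even e → ∀ z, Q.out z = z.1) := by
    by_cases hev : Even e
    · have := hpar hev
      exact ⟨⟨0, LinearMap.fst K K R, fun _ _ h => Prod.ext h (Subsingleton.elim _ _)⟩,
        fun _ _ _ _ => (Submodule.eq_bot_iff _).2 fun _ _ => Subsingleton.elim _ _,
        fun _ _ _ _ => (Submodule.eq_bot_iff _).2 fun _ _ => Subsingleton.elim _ _, fun _ _ => rfl⟩
    · obtain ⟨Q, h1, h2⟩ := hR
      exact ⟨Q, h1, h2, fun h => absurd h hev⟩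
  let W := (Fin e → K) × U × R
  let θ : K := if Even e then 1 else 0
  let px : W →ₗ[K] (Fin e → K) := LinearMap.fst K _ _
  let pu : W →ₗ[K] U := LinearMap.fst K U R ∘ₗ LinearMap.snd K _ _
  let pr : W →ₗ[K] R := LinearMap.snd K U R ∘ₗ LinearMap.snd K _ _
  let inU : W →ₗ[K] K × U := LinearMap.prod (ext (e - 1) ∘ₗ px) pu
  let L : ℕ → Dual K W := fun i => if i = 0 then S.out ∘ₗ inU
    else ext (i - 1) ∘ₗ px - (if i + 1 = e then θ else 0) • (ext (e - 1) ∘ₗ px)
  let inR : W →ₗ[K] K × R := LinearMap.prod (L (e - 1)) pr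
  let sx : W →ₗ[K] (Fin e → K) :=
    LinearMap.pi fun i => if (i : ℕ) + 1 = e then 0 else L i
  let sft : Module.End K W := LinearMap.prod sx (LinearMap.prod (S.next ∘ₗ inU) (Q.next ∘ₗ inR))
  let α : Dual K W := Q.out ∘ₗ inR
  let Φ : Module.End K W := LinearMap.prodMap (shift e) (LinearMap.prodMap TU TR)
  let φ : Dual K W := ext (e - 1) ∘ₗ px
  have hsx : ∀ (w : W) (i : ℕ) (hi : i < e),
      sx w ⟨i, hi⟩ = if i + 1 = e then 0 else L i w := by
    intro w i hi
    simp only [sx, LinearMap.pi_apply]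
    split_ifs <;> simp
  have hlast : ∀ w : W, ext (e - 1) (sx w) = (0 : K) := fun w => by
    rw [ext_of_lt _ (by omega), hsx, if_pos (by omega)]
  have hT0 : ∀ w : W, T (w, 0) = (Φ w, φ w) := fun w => hT w.1 w.2.1 w.2.2
  have hφ : ∀ w, φ (sft w) = 0 := hlast
  -- from the carries to the coordinates
  have hcoord : ∀ w : W, ext (e - 1) (px w) = 0 → (∀ i, 1 ≤ i → i < e → L i w = 0) → px w = 0 := by
    intro w ha hL
    funext k
    show px w k = 0
    rw [← ext_fin (px w) k]
    rcases Nat.lt_or_ge ((k : ℕ) + 1) e with hk | hk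
    · have := hL (k + 1) (by omega) hk
      simp only [L, Nat.succ_ne_zero, if_false, Nat.add_sub_cancel] at this
      split_ifs at this <;> simpa [ha] using this
    · rw [show (k : ℕ) = e - 1 by omega]; exact ha
  have hinj : ∀ w : W, α w = 0 → sft w = 0 → w = 0 := by
    intro w hα hw
    have hU := congrArg (fun z : W => z.2.1) hw
    have hR' := congrArg (fun z : W => z.2.2) hw
    have hx := congrArg (fun z : W => z.1) hw
    have hQi := Q.inj (inR w) hR' hα
    have hLe : L (e - 1) w = 0 := congrArg Prod.fst hQi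
    have hr : pr w = 0 := congrArg Prod.snd hQi
    have hL : ∀ i, i < e → L i w = 0 := fun i hi => by
      by_cases h : i + 1 = e
      · rwa [show i = e - 1 by omega]
      · have := congrFun hx ⟨i, hi⟩
        rw [show (sft w).1 = sx w from rfl, hsx, if_neg h] at this
        exact this
    have hSi := S.inj (inU w) hU (by simpa [L] using hL 0 (by omega))
    exact Prod.ext (hcoord w (congrArg Prod.fst hSi) fun i _ hi => hL i hi)
      (Prod.ext (congrArg Prod.snd hSi) hr)
  have hTinj : Function.Injective T := ((Module.End.isUnit_iff T).1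
    ((LinearMap.isUnit_iff_isUnit_det T).2 (isUnit_iff_ne_zero.2 hdet))).1
  have hinj2 : ∀ w : W, α w = 0 → (Φ ∘ₗ sft) w = 0 → w = 0 := fun w hα hw => hinj w hα (by
    have : T (sft w, 0) = T 0 := by
      rw [hT0, hφ, map_zero]; exact Prod.ext hw rfl
    exact congrArg Prod.fst (hTinj this))
  -- the two other pieces collapse once their input vanishes
  have hu0 : ∀ (Z : Submodule K W) (A : Module.End K W) (AU : Module.End K U),
      (∀ w : W, (A w).2.1 = AU (S.next (inU w))) → Collapse (AU ∘ₗ S.N) 0 →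
      (∀ z ∈ Z, A z ∈ Z) → (∀ z ∈ Z, ∃ y ∈ Z, A y = z) →
      (∀ z ∈ Z, ext (e - 1) (px z) = (0 : K)) → ∀ z ∈ Z, pu z = 0 ∧ L 0 z = 0 := by
    intro Z A AU hA hc h2 h3 ha
    have e1 : ∀ z ∈ Z, inU z = (0, pu z) := fun z hz => Prod.ext (ha z hz) rfl
    have h : Z.map pu = ⊥ := hc _ (fun _ _ => rfl)
      (by
        rintro _ ⟨z, hz, rfl⟩
        exact ⟨A z, h2 z hz, (hA z).trans (by rw [e1 z hz]; rfl)⟩)
      (by
        rintro _ ⟨z, hz, rfl⟩
        obtain ⟨y, hy, rfl⟩ := h3 z hz
        exact ⟨_, ⟨y, hy, rfl⟩, ((hA y).trans (by rw [e1 y hy]; rfl)).symm⟩)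
    intro z hz
    have hu : pu z = 0 := (Submodule.eq_bot_iff _).1 h _ ⟨z, hz, rfl⟩
    refine ⟨hu, ?_⟩
    show S.out (inU z) = 0
    rw [e1 z hz, hu]
    exact map_zero _
  have hr0 : ∀ (Z : Submodule K W) (A : Module.End K W) (AR : Module.End K R),
      (∀ w : W, (A w).2.2 = AR (Q.next (inR w))) → Collapse (AR ∘ₗ Q.N) Q.o →
      (∀ z ∈ Z, α z = 0) → (∀ z ∈ Z, A z ∈ Z) → (∀ z ∈ Z, ∃ y ∈ Z, A y = z) →
      (∀ z ∈ Z, L (e - 1) z = 0) → ∀ z ∈ Z, pr z = 0 := by
    intro Z A AR hA hc h1 h2 h3 hL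
    have e1 : ∀ z ∈ Z, inR z = (0, pr z) := fun z hz => Prod.ext (hL z hz) rfl
    have h : Z.map pr = ⊥ := hc _
      (by
        rintro _ ⟨z, hz, rfl⟩
        rw [Seg.o_apply, ← e1 z hz]
        exact h1 z hz)
      (by
        rintro _ ⟨z, hz, rfl⟩
        exact ⟨A z, h2 z hz, (hA z).trans (by rw [e1 z hz]; rfl)⟩)
      (by
        rintro _ ⟨z, hz, rfl⟩
        obtain ⟨y, hy, rfl⟩ := h3 z hz
        exact ⟨_, ⟨y, hy, rfl⟩, ((hA y).trans (by rw [e1 y hy]; rfl)).symm⟩)
    exact fun z hz => (Submodule.eq_bot_iff _).1 h _ ⟨z, hz, rfl⟩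
  have hLx : ∀ (z : W) (i : ℕ), 1 ≤ i → ext (e - 1) (px z) = 0 → L i z = ext (i - 1) (px z) := by
    intro z i hi ha
    simp only [L, show i ≠ 0 by omega, if_false]
    split_ifs <;> simp [ha]
  have hC1 : Collapse sft α := by
    intro Z h1 h2 h3
    have ha : ∀ z ∈ Z, ext (e - 1) (px z) = (0 : K) := fun z hz => by
      obtain ⟨y, hy, rfl⟩ := h3 z hz; exact hlast y
    have hu := hu0 Z sft LinearMap.id (fun _ => rfl) hS1 h2 h3 ha
    have hx : ∀ i, i < e → ∀ z ∈ Z, ext i (px z) = (0 : K) := by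
      intro i
      induction i with
      | zero =>
        intro hi z hz
        obtain ⟨y, hy, rfl⟩ := h3 z hz
        rw [ext_of_lt _ hi, show px (sft y) = sx y from rfl, hsx]
        split_ifs
        · rfl
        · exact (hu y hy).2
      | succ i ih =>
        intro hi z hz
        obtain ⟨y, hy, rfl⟩ := h3 z hz
        rw [ext_of_lt _ hi, show px (sft y) = sx y from rfl, hsx]
        split_ifs
        · rfl
        · rw [hLx y _ (by omega) (ha y hy)]
          exact ih (by omega) y hy
    have hL : ∀ z ∈ Z, L (e - 1) z = 0 := fun z hz => by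
      rcases Nat.eq_zero_or_pos (e - 1) with h0 | h0
      · rw [h0]; exact (hu z hz).2
      · rw [hLx z _ h0 (ha z hz)]; exact hx _ (by omega) z hz
    have hr := hr0 Z sft LinearMap.id (fun _ => rfl) hQ1 h1 h2 h3 hL
    exact (Submodule.eq_bot_iff _).2 fun z hz => Prod.ext
      (funext fun k => (ext_fin (px z) k).symm.trans (hx k k.isLt z hz))
      (Prod.ext (hu z hz).1 (hr z hz))
  have hC2 : Collapse (Φ ∘ₗ sft) α := by
    intro Z h1 h2 h3
    have himg : ∀ (w : W) (i : ℕ) (hi : i < e), ((Φ ∘ₗ sft) w).1 ⟨i, hi⟩ =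
        if i = 0 then 0 else if i = 1 then L 0 w else ext (i - 2) (px w) := by
      intro w i hi
      show shift e (sx w) ⟨i, hi⟩ = _
      rw [shift_apply]
      by_cases h0 : i = 0
      · simp [h0]
      · simp only [h0, if_false]
        rw [ext_of_lt _ (by omega), hsx, if_neg (by omega)]
        by_cases h1 : i = 1
        · simp [h1]
        · rw [if_neg h1]
          simp [L, show i - 1 ≠ 0 by omega, show i - 1 + 1 ≠ e by omega,
            show i - 1 - 1 = i - 2 by omega]
    have heven : ∀ j, 2 * j < e → ∀ z ∈ Z, ext (2 * j) (px z) = (0 : K) := by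
      intro j
      induction j with
      | zero =>
        intro hj z hz
        obtain ⟨y, hy, rfl⟩ := h3 z hz
        rw [ext_of_lt _ hj]
        exact (himg y _ hj).trans (if_pos rfl)
      | succ j ih =>
        intro hj z hz
        obtain ⟨y, hy, rfl⟩ := h3 z hz
        rw [ext_of_lt _ hj]
        refine (himg y _ hj).trans ?_
        rw [if_neg (by omega), if_neg (by omega), show 2 * (j + 1) - 2 = 2 * j by omega]
        exact ih (by omega) y hy
    have ha : ∀ z ∈ Z, ext (e - 1) (px z) = (0 : K) := fun z hz => by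
      by_cases hev : Even e
      · have h : L (e - 1) z = 0 := by
          have := h1 z hz
          rwa [show α z = Q.out (inR z) from rfl, hQ0 hev] at this
        have he2 : e % 2 = 0 := Nat.even_iff.1 hev
        simp only [L, show e - 1 ≠ 0 by omega, if_false, show e - 1 + 1 = e by omega, if_true, θ,
          hev, one_smul, LinearMap.sub_apply, LinearMap.comp_apply] at h
        rw [show e - 1 - 1 = 2 * (e / 2 - 1) by omega, heven _ (by omega) z hz, zero_sub,
          neg_eq_zero] at h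
        exact h
      · have he2 : e % 2 = 1 := Nat.odd_iff.1 (Nat.not_even_iff_odd.1 hev)
        rw [show e - 1 = 2 * (e / 2) by omega]
        exact heven _ (by omega) z hz
    have hu := hu0 Z (Φ ∘ₗ sft) TU (fun _ => rfl) hS2 h2 h3 ha
    have hodd : ∀ j, 2 * j + 1 < e → ∀ z ∈ Z, ext (2 * j + 1) (px z) = (0 : K) := by
      intro j
      induction j with
      | zero =>
        intro hj z hz
        obtain ⟨y, hy, rfl⟩ := h3 z hz
        rw [ext_of_lt _ hj]
        refine (himg y _ hj).trans ?_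
        rw [if_neg (by omega), if_pos (by omega)]
        exact (hu y hy).2
      | succ j ih =>
        intro hj z hz
        obtain ⟨y, hy, rfl⟩ := h3 z hz
        rw [ext_of_lt _ hj]
        refine (himg y _ hj).trans ?_
        rw [if_neg (by omega), if_neg (by omega), show 2 * (j + 1) + 1 - 2 = 2 * j + 1 by omega]
        exact ih (by omega) y hy
    have hx : ∀ i, i < e → ∀ z ∈ Z, ext i (px z) = (0 : K) := fun i hi z hz => by
      rcases Nat.even_or_odd' i with ⟨j, rfl | rfl⟩
      · exact heven j hi z hz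
      · exact hodd j hi z hz
    have hL : ∀ z ∈ Z, L (e - 1) z = 0 := fun z hz => by
      rcases Nat.eq_zero_or_pos (e - 1) with h0 | h0
      · rw [h0]; exact (hu z hz).2
      · rw [hLx z _ h0 (ha z hz)]; exact hx _ (by omega) z hz
    have hr := hr0 Z (Φ ∘ₗ sft) TR (fun _ => rfl) hQ2 h1 h2 h3 hL
    exact (Submodule.eq_bot_iff _).2 fun z hz => Prod.ext
      (funext fun k => (ext_fin (px z) k).symm.trans (hx k k.isLt z hz))
      (Prod.ext (hu z hz).1 (hr z hz))
  refine core Φ φ hT0 hdet sft α hφ (hC1.invFree hinj) (hC2.invFree hinj2)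
    (x₀ := ext 0 ∘ₗ px) (fun h => ?_) (fun w => ?_) ?_
  · have := congrArg (fun f : Dual K W => f (Pi.single ⟨0, he⟩ 1, 0, 0)) h
    simp only [px, LinearMap.comp_apply, LinearMap.zero_apply] at this
    rw [ext_of_lt _ he] at this
    have h' : Pi.single (M := fun _ : Fin e => K) ⟨0, he⟩ 1 ⟨0, he⟩ = (0 : K) := this
    rw [Pi.single_eq_same] at h'
    exact one_ne_zero h'
  · show ext 0 (shift e (px w)) = 0
    rw [ext_of_lt _ he, shift_apply, if_pos rfl]
  · rw [Module.finrank_prod, Module.finrank_pi, Fintype.card_fin]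
    omega

end

variable {V : Type v} [AddCommGroup V] [Module K V] [FiniteDimensional K V]

/-- A distinguished block of size at least two, all other blocks arbitrary unless it is odd. -/
theorem tool_of_block {T : Module.End K V} (hdet : LinearMap.det T ≠ 0) {e : ℕ} (he : 1 ≤ e)
    (c : Fin (e + 1) → K) {m : ℕ} (s : Fin m → ℕ) (d : ∀ i, Fin (s i) → K)
    (E : ((Fin (e + 1) → K) × (∀ i, Fin (s i) → K)) ≃ₗ[K] V)
    (hE : ∀ z, T (E z) = E ((comp c).prodMap (dsum s d) z))
    (hpar : Even e → ∀ i, Even (s i) → s i = 0) : Tool T := by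
  have main : ∀ {U : Type u} {R : Type u} [AddCommGroup U] [Module K U] [FiniteDimensional K U]
      [AddCommGroup R] [Module K R] [FiniteDimensional K R] (TU : Module.End K U)
      (TR : Module.End K R), GoodSeg TU → GoodEnd TR → (Even e → Subsingleton R) →
      ∀ G : (U × R) ≃ₗ[K] (∀ i, Fin (s i) → K),
        (∀ z, dsum s d (G z) = G (TU z.1, TR z.2)) → Tool T := by
    intro U R _ _ _ _ _ _ TU TR hU hR hs G hG
    let Ψ : ((((Fin e → K) × U × R) × K)) ≃ₗ[K] V :=
      (LinearEquiv.prodAssoc K _ _ _).trans <|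
        ((LinearEquiv.refl K _).prodCongr (LinearEquiv.prodComm K _ _)).trans <|
          (LinearEquiv.prodAssoc K _ _ _).symm.trans <|
            ((snocEquiv e).prodCongr G).trans E
    have hΨ : ∀ x u r t, Ψ ((x, u, r), t) = E (snocEquiv e (x, t), G (u, r)) := fun _ _ _ _ => rfl
    refine Tool.of_equiv Ψ (T := Ψ.symm.conj T)
      (fun v => by simp [LinearEquiv.conj_apply]) ?_
    refine tool_layout (T := Ψ.symm.conj T) he hU hR hs (fun x u r => ?_) ?_
    · rw [LinearEquiv.conj_apply]
      simp only [LinearEquiv.symm_symm, LinearMap.comp_apply, LinearEquiv.coe_coe]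
      rw [LinearEquiv.symm_apply_eq, hΨ, hΨ, hE, LinearMap.prodMap_apply, comp_snoc he, hG]
    · rwa [LinearEquiv.conj_apply, LinearMap.comp_assoc, LinearMap.det_conj]
  rcases family s d with h | ⟨⟨i, hi2, hi⟩, hend, -⟩
  · refine main (R := Fin 0 → K) (dsum s d) 0 h (goodSeg_zero _).goodEnd (fun _ => inferInstance)
      (LinearEquiv.prodUnique) fun z => ?_
    rfl
  · refine main (U := Fin 0 → K) 0 (dsum s d) (goodSeg_zero _) hend (fun he' => ?_)
      (LinearEquiv.uniqueProd) fun z => ?_
    · have := hpar he' i hi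
      omega
    · rfl

/-- **Every non-scalar automorphism has the tool.** -/
theorem tool_of_nonScalar {T : Module.End K V} (hdet : LinearMap.det T ≠ 0)
    (hT : ∀ a : K, T ≠ a • LinearMap.id) : Tool T := by
  obtain ⟨m, s, c, E, hE⟩ := exists_dsum T
  have of_index : ∀ i₀, 2 ≤ s i₀ → (Odd (s i₀) → ∀ i, Even (s i) → s i = 0) → Tool T := by
    intro i₀ h2 hpar
    obtain ⟨m, rfl⟩ : ∃ k, m = k + 1 := ⟨m - 1, by have := i₀.isLt; omega⟩
    generalize hc : c i₀ = c₀
    have hsplit := fun z => splitAt_dsum s c i₀ z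
    obtain ⟨e, he⟩ : ∃ e, s i₀ = e + 1 := ⟨s i₀ - 1, by omega⟩
    let C : (Fin (e + 1) → K) ≃ₗ[K] (Fin (s i₀) → K) :=
      LinearEquiv.funCongrLeft K K (finCongr he)
    refine tool_of_block hdet (e := e) (by omega) (C.symm c₀)
      (fun j => s (i₀.succAbove j)) (fun j => c (i₀.succAbove j))
      ((C.prodCongr (LinearEquiv.refl K _)).trans ((splitAt s i₀).symm.trans E))
      (fun z => ?_) (fun hev i hi => hpar ?_ _ hi)
    · simp only [LinearEquiv.trans_apply, hE]
      congr 1
      apply (splitAt (K := K) s i₀).injective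
      rw [hsplit, LinearEquiv.apply_symm_apply, LinearEquiv.apply_symm_apply, hc]
      refine Prod.ext ?_ rfl
      show comp c₀ (C z.1) = C (comp (C.symm c₀) z.1)
      funext l
      show comp c₀ (fun j => z.1 (finCongr he j)) l = comp (C.symm c₀) z.1 (finCongr he l)
      simp only [comp_apply]
      have hx : ∀ k, ext k (fun j => z.1 (finCongr he j)) = ext k z.1 := fun k => by
        by_cases hk : k < e + 1
        · rw [ext_of_lt _ (he ▸ hk), ext_of_lt _ hk]; rfl
        · simp [OreSL.ext, hk, he]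
      simp only [hx, C, LinearEquiv.funCongrLeft_symm, LinearEquiv.funCongrLeft_apply]
      simp [he, LinearMap.funLeft_apply]
    · rw [he]; exact Even.add_one hev
  by_cases hEv : ∃ i, 2 ≤ s i ∧ Even (s i)
  · obtain ⟨i, hi, hev⟩ := hEv
    exact of_index i hi fun h => absurd hev (Nat.not_even_iff_odd.2 h)
  push Not at hEv
  have hev0 : ∀ i, Even (s i) → s i = 0 := fun i hi => by
    by_contra h
    exact hEv i (by obtain ⟨k, hk⟩ := hi; omega) hi
  by_cases hbig : ∃ i, 2 ≤ s i
  · obtain ⟨i, hi⟩ := hbig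
    exact of_index i hi fun _ => hev0
  push Not at hbig
  -- only one-dimensional blocks: two different eigenvalues exist
  obtain ⟨i, hi1, j, hj1, hij⟩ : ∃ (i : Fin m) (hi : s i = 1) (j : Fin m) (hj : s j = 1),
      c i ⟨0, by omega⟩ ≠ c j ⟨0, by omega⟩ := by
    by_contra hno
    push Not at hno
    obtain ⟨a, ha⟩ : ∃ a : K, ∀ i, ∀ h : s i = 1, c i ⟨0, by omega⟩ = a := by
      by_cases hex : ∃ i, s i = 1
      · obtain ⟨i, hi⟩ := hex
        exact ⟨c i ⟨0, by omega⟩, fun j hj => hno j hj i hi⟩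
      · exact ⟨0, fun i h => absurd ⟨i, h⟩ hex⟩
    refine hT a (LinearMap.ext fun v => ?_)
    obtain ⟨z, rfl⟩ := E.surjective v
    rw [hE, LinearMap.smul_apply, LinearMap.id_apply, ← map_smul]
    congr 1
    funext i l
    have hl := l.isLt
    have hs : s i = 1 := by have := hbig i; omega
    have hl0 : l = ⟨0, by omega⟩ := Fin.ext (show (l : ℕ) = 0 by omega)
    rw [dsum_apply, comp_apply, if_pos (by omega), zero_add,
      ext_of_lt _ (show s i - 1 < s i by omega), Pi.smul_apply, Pi.smul_apply, smul_eq_mul, hl0]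
    rw [ha i hs]
    congr 2
    exact Fin.ext (show s i - 1 = 0 by omega)
  obtain ⟨m, rfl⟩ : ∃ k, m = k + 1 := ⟨m - 1, by have := i.isLt; omega⟩
  have hji : j ≠ i := by rintro rfl; exact hij rfl
  obtain ⟨j', rfl⟩ := Fin.exists_succAbove_eq hji
  obtain ⟨m, rfl⟩ : ∃ k, m = k + 1 := ⟨m - 1, by have := j'.isLt; omega⟩
  obtain ⟨q, P, hP⟩ := exists_merge hi1 hj1 (c i) (c (i.succAbove j')) hij
  set s' := fun l => s (i.succAbove l)
  let F : ((Fin 2 → K) × (∀ l, Fin (s' (j'.succAbove l)) → K)) ≃ₗ[K] V :=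
    (P.prodCongr (LinearEquiv.refl K _)).trans <|
      (LinearEquiv.prodAssoc K _ _ _).trans <|
        ((LinearEquiv.refl K _).prodCongr (splitAt s' j').symm).trans <|
          (splitAt s i).symm.trans E
  refine tool_of_block hdet (e := 1) le_rfl q (fun l => s' (j'.succAbove l))
    (fun l => c (i.succAbove (j'.succAbove l))) F (fun z => ?_) (fun h => absurd h (by decide))
  simp only [F, LinearEquiv.trans_apply, hE]
  congr 1
  apply (splitAt (K := K) s i).injective
  rw [splitAt_dsum, LinearEquiv.apply_symm_apply, LinearEquiv.apply_symm_apply]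
  refine Prod.ext (congrArg Prod.fst (hP z.1)).symm ?_
  apply (splitAt (K := K) s' j').injective
  show splitAt s' j' (dsum s' (fun l => c (i.succAbove l)) ((splitAt s' j').symm ((P z.1).2, z.2))) =
    splitAt s' j' ((splitAt s' j').symm ((P (comp q z.1)).2, _))
  rw [splitAt_dsum, LinearEquiv.apply_symm_apply, LinearEquiv.apply_symm_apply]
  exact Prod.ext (congrArg Prod.snd (hP z.1)).symm rfl

end Cfsg.Agent.CoverNum
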