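import Mathlib
import Cfsg.Agent.CoverNum.Layout
import Cfsg.Agent.OreSL.Scalar

/-!
# From one cyclic product to every automorphism of determinant one
-/

namespace Cfsg.Agent.CoverNum

open Polynomial Module OreSL

universe u v

variable {K : Type u} [Field K] {V : Type v} [AddCommGroup V] [Module K V]

/-- Cyclic with a simple root `s`. -/
def RootedAt (y : V ≃ₗ[K] V) (s : K) : Prop :=
  ∃ h : K[X], h.eval s ≠ 0 ∧ Cyc (y : Module.End K V) (h * (X - C s))

variable [FiniteDimensional K V]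

/-- Scalars. -/
noncomputable def scal (c : Kˣ) : V ≃ₗ[K] V := LinearEquiv.smulOfUnit c

omit [FiniteDimensional K V] in
theorem scal_apply (c : Kˣ) (v : V) : scal c v = (c : K) • v := rfl

theorem det_scal (c : Kˣ) : (LinearEquiv.det (scal (V := V) c) : K) = (c : K) ^ finrank K V := by
  rw [LinearEquiv.coe_det, show ((scal c : V ≃ₗ[K] V) : Module.End K V) = (c : K) • LinearMap.id from
    LinearMap.ext fun v => rfl, LinearMap.det_smul, LinearMap.det_id, mul_one]

omit [FiniteDimensional K V] in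
theorem scal_comm (c : Kˣ) (y : V ≃ₗ[K] V) : scal c * y = y * scal c :=
  LinearEquiv.ext fun v => by
    show (c : K) • y v = y ((c : K) • v)
    rw [map_smul]

theorem RootedAt.det_eq {y : V ≃ₗ[K] V} {s : K} {h : K[X]}
    (hy : Cyc (y : Module.End K V) (h * (X - C s))) :
    h.Monic ∧ h.natDegree + 1 = finrank K V ∧
      LinearMap.det (y : Module.End K V) = (-1) ^ h.natDegree * h.coeff 0 * s := by
  obtain ⟨hm, hd, hya, μ, hμ⟩ := hy
  have hh : h.Monic := (monic_X_sub_C s).of_mul_monic_right hm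
  have hdeg : h.natDegree + 1 = finrank K V := by
    rw [← hd, hh.natDegree_mul (monic_X_sub_C s), natDegree_X_sub_C]
  refine ⟨hh, hdeg, ?_⟩
  rw [hμ.det_eq hm hd hya, ← hdeg, mul_coeff_zero, coeff_sub, coeff_X_zero, coeff_C_zero, pow_succ]
  ring

theorem RootedAt.ne_zero {y : V ≃ₗ[K] V} {s : K} (hy : RootedAt y s) : s ≠ 0 := by
  obtain ⟨h, -, hc⟩ := hy
  intro h0
  have := (RootedAt.det_eq hc).2.2
  rw [h0, mul_zero] at this
  exact (LinearEquiv.isUnit_det' y).ne_zero this

/-- A simple root gives every determinant in the centraliser. -/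
theorem RootedAt.closed {y : V ≃ₗ[K] V} {s : K} (hy : RootedAt y s) : Closed y := by
  obtain ⟨h, hs, hc⟩ := hy
  obtain ⟨hm, hdeg, -⟩ := RootedAt.det_eq hc
  obtain ⟨A, ν, hν, hA⟩ := exists_model hm rfl
  have hs1 : aeval (s • LinearMap.id : Module.End K K) (X - C s) = 0 := by
    ext; simp [Module.algebraMap_end_apply]
  have hco : IsCoprime h (X - C s) := ((Polynomial.irreducible_X_sub_C s).coprime_iff_not_dvd.2
    fun hdvd => hs (dvd_iff_isRoot.1 hdvd)).symm
  have hc1 : Cyc (LinearMap.prodMap A (s • LinearMap.id : Module.End K K) :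
      Module.End K ((Fin h.natDegree → K) × K)) (h * (X - C s)) := by
    refine ⟨hc.1, ?_, ?_, _, hν.prod (invFree_scalar s) hA hs1 hco⟩
    · rw [hc.2.1, Module.finrank_prod, Module.finrank_self, Module.finrank_fin_fun, hdeg]
    · rw [aeval_prodMap, map_mul, map_mul, hA, hs1, zero_mul, mul_zero]
      exact LinearMap.prodMap_zero
  obtain ⟨P, hP⟩ := hc1.exists_conj hc
  intro u
  let D : ((Fin h.natDegree → K) × K) ≃ₗ[K] ((Fin h.natDegree → K) × K) :=
    (LinearEquiv.refl K _).prodCongr (LinearEquiv.smulOfUnit u)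
  have hD : LinearMap.det (D : Module.End K ((Fin h.natDegree → K) × K)) = u := by
    rw [show (D : Module.End K ((Fin h.natDegree → K) × K)) =
      LinearMap.prodMap LinearMap.id ((u : K) • LinearMap.id) from LinearMap.ext fun z => rfl,
      LinearMap.det_prodMap, LinearMap.det_id, LinearMap.det_smul, LinearMap.det_id]
    simp
  refine ⟨P.symm.trans (D.trans P), Units.ext ?_, LinearEquiv.ext fun v => ?_⟩
  · rw [LinearEquiv.coe_det, show ((P.symm.trans (D.trans P) : V ≃ₗ[K] V) : Module.End K V) =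
      (P : _ →ₗ[K] V) ∘ₗ (D : Module.End K ((Fin h.natDegree → K) × K)) ∘ₗ (P.symm : V →ₗ[K] _) from
        rfl, LinearMap.det_conj, hD]
  · obtain ⟨z, rfl⟩ := P.surjective v
    show P (D (P.symm (y (P z)))) = y (P (D (P.symm (P z))))
    rw [show y (P z) = P (LinearMap.prodMap A (s • LinearMap.id) z) from (hP z).symm,
      P.symm_apply_apply, P.symm_apply_apply, show y (P (D z)) =
        P (LinearMap.prodMap A (s • LinearMap.id) (D z)) from (hP _).symm]
    congr 1
    refine Prod.ext rfl ?_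
    show (u : K) • (s • z.2) = s • ((u : K) • z.2)
    exact smul_comm _ _ _

theorem Cyc.inv {y : V ≃ₗ[K] V} {f : K[X]} (hy : Cyc (y : Module.End K V) f) :
    Cyc ((y⁻¹ : V ≃ₗ[K] V) : Module.End K V)
      (LinearMap.charpoly ((y⁻¹ : V ≃ₗ[K] V) : Module.End K V)) := by
  obtain ⟨-, -, -, μ, hμ⟩ := hy
  refine ⟨LinearMap.charpoly_monic _, LinearMap.charpoly_natDegree _, LinearMap.aeval_self_charpoly _,
    μ, InvFree.of_submodule fun Z h1 h2 => hμ.submodule_eq_bot Z h1 fun z hz => ?_⟩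
  let f : Z →ₗ[K] Z := ((y⁻¹ : V ≃ₗ[K] V) : Module.End K V).restrict h2
  have hf : Function.Injective f := fun a b hab =>
    Subtype.ext ((y⁻¹).injective (congrArg Subtype.val hab))
  obtain ⟨w, hw⟩ := (LinearMap.injective_iff_surjective.1 hf) ⟨z, hz⟩
  have : (y⁻¹ : V ≃ₗ[K] V) (w : V) = z := congrArg Subtype.val hw
  rw [← this]
  show y (y.symm (w : V)) ∈ Z
  rw [y.apply_symm_apply]
  exact w.2

theorem RootedAt.inv {y : V ≃ₗ[K] V} {s : K} (hy : RootedAt y s) : RootedAt y⁻¹ s⁻¹ := by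
  have hs0 := hy.ne_zero
  obtain ⟨h, hs, hc⟩ := hy
  obtain ⟨hm, hdeg, -⟩ := RootedAt.det_eq hc
  obtain ⟨A, ν, hν, hA⟩ := exists_model hm rfl
  have hs1 : aeval (s • LinearMap.id : Module.End K K) (X - C s) = 0 := by
    ext; simp [Module.algebraMap_end_apply]
  have hco : IsCoprime h (X - C s) := ((Polynomial.irreducible_X_sub_C s).coprime_iff_not_dvd.2
    fun hdvd => hs (dvd_iff_isRoot.1 hdvd)).symm
  have hc1 : Cyc (LinearMap.prodMap A (s • LinearMap.id : Module.End K K) :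
      Module.End K ((Fin h.natDegree → K) × K)) (h * (X - C s)) := by
    refine ⟨hc.1, ?_, ?_, _, hν.prod (invFree_scalar s) hA hs1 hco⟩
    · rw [hc.2.1, Module.finrank_prod, Module.finrank_self, Module.finrank_fin_fun, hdeg]
    · rw [aeval_prodMap, map_mul, map_mul, hA, hs1, zero_mul, mul_zero]
      exact LinearMap.prodMap_zero
  obtain ⟨P, hP⟩ := hc1.exists_conj hc
  have hd0 : LinearMap.det A ≠ 0 := by
    intro h0
    have := congrArg LinearMap.det (show (y : Module.End K V) = P.conj (LinearMap.prodMap A (s • LinearMap.id)) from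
      LinearMap.ext fun v => by
        obtain ⟨z, rfl⟩ := P.surjective v
        rw [LinearEquiv.conj_apply, LinearMap.comp_apply, LinearMap.comp_apply, LinearEquiv.coe_coe,
          LinearEquiv.coe_coe]
        simp only [LinearEquiv.coe_coe, P.symm_apply_apply, hP])
    rw [LinearEquiv.conj_apply, LinearMap.comp_assoc, LinearMap.det_conj, LinearMap.det_prodMap, h0,
      zero_mul] at this
    exact (LinearEquiv.isUnit_det' y).ne_zero this
  obtain ⟨Ae, hAe⟩ : ∃ Ae : (Fin h.natDegree → K) ≃ₗ[K] (Fin h.natDegree → K), ∀ v, Ae v = A v := by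
    have := (LinearMap.isUnit_iff_isUnit_det A).2 (isUnit_iff_ne_zero.2 hd0)
    exact ⟨LinearEquiv.ofBijective A ((Module.End.isUnit_iff A).1 this), fun v => rfl⟩
  have hAc : Cyc (Ae : Module.End K (Fin h.natDegree → K)) h := by
    rw [show (Ae : Module.End K (Fin h.natDegree → K)) = A from LinearMap.ext hAe]
    exact ⟨hm, by simp, hA, ν, hν⟩
  obtain ⟨hgm, hgd, hgA, ν', hν'⟩ := hAc.inv
  set g := LinearMap.charpoly ((Ae⁻¹ : (Fin h.natDegree → K) ≃ₗ[K] _) : Module.End K (Fin h.natDegree → K))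
  have hgs : g.eval s⁻¹ ≠ 0 := by
    intro h0
    obtain ⟨v, hv⟩ := (Module.End.hasEigenvalue_iff_isRoot_charpoly
      ((Ae⁻¹ : (Fin h.natDegree → K) ≃ₗ[K] _) : Module.End K (Fin h.natDegree → K)) s⁻¹).2 h0 |>.exists_hasEigenvector
    have hv1 : Ae.symm v = s⁻¹ • v := hv.apply_eq_smul
    have hv2 : A v = s • v := by
      have := congrArg Ae hv1
      rw [Ae.apply_symm_apply, map_smul] at this
      rw [← hAe]
      nth_rw 2 [this]
      rw [smul_smul, mul_inv_cancel₀ hs0, one_smul]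
    have := Module.End.aeval_apply_of_hasEigenvector (p := h) (f := A) (μ := s)
      ⟨Module.End.mem_eigenspace_iff.2 hv2, hv.2⟩
    rw [hA, LinearMap.zero_apply, eq_comm, smul_eq_zero] at this
    exact hv.2 (this.resolve_left hs)
  have hs2 : aeval (s⁻¹ • LinearMap.id : Module.End K K) (X - C s⁻¹) = 0 := by
    ext; simp [Module.algebraMap_end_apply]
  have hco2 : IsCoprime g (X - C s⁻¹) := ((Polynomial.irreducible_X_sub_C s⁻¹).coprime_iff_not_dvd.2
    fun hdvd => hgs (dvd_iff_isRoot.1 hdvd)).symm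
  refine ⟨g, hgs, Cyc.map (y := LinearMap.prodMap
    ((Ae⁻¹ : (Fin h.natDegree → K) ≃ₗ[K] _) : Module.End K (Fin h.natDegree → K)) (s⁻¹ • LinearMap.id : Module.End K K))
    ⟨hgm.mul (monic_X_sub_C _), ?_, ?_, _, hν'.prod (invFree_scalar s⁻¹) hgA hs2 hco2⟩ P fun z => ?_⟩
  · rw [hgm.natDegree_mul (monic_X_sub_C _), hgd, natDegree_X_sub_C, Module.finrank_prod,
      Module.finrank_self]
  · rw [aeval_prodMap, map_mul, map_mul, hgA, hs2, zero_mul, mul_zero]
    exact LinearMap.prodMap_zero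
  · show P _ = y.symm (P z)
    rw [eq_comm, LinearEquiv.symm_apply_eq, show y (P _) = P (LinearMap.prodMap A (s • LinearMap.id) _) from
      (hP _).symm]
    congr 1
    refine Prod.ext ?_ ?_
    · show z.1 = A (Ae.symm z.1)
      rw [← hAe, Ae.apply_symm_apply]
    · show z.2 = s • (s⁻¹ • z.2)
      rw [smul_smul, mul_inv_cancel₀ hs0, one_smul]

/-- Polynomials with given constant coefficient avoiding few roots. -/
theorem exists_poly_avoid [Fintype K] [DecidableEq K] {d : ℕ} (hd : 2 ≤ d) (c : K) (S : Finset K)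
    (h0 : (0 : K) ∉ S) (hS : S.card < Fintype.card K) :
    ∃ h : K[X], h.Monic ∧ h.natDegree = d ∧ h.coeff 0 = c ∧ ∀ s ∈ S, h.eval s ≠ 0 := by
  obtain ⟨a, -, ha⟩ := Finset.exists_mem_notMem_of_card_lt_card
    (s := S.image fun s => -(s ^ d + c) / s) (t := Finset.univ)
    (Finset.card_image_le.trans_lt (by rwa [Finset.card_univ]))
  have hq : (C a * X + C c : K[X]).degree < (d : WithBot ℕ) :=
    lt_of_le_of_lt degree_linear_le (by exact_mod_cast hd)
  refine ⟨X ^ d + (C a * X + C c), monic_X_pow_add hq, natDegree_eq_of_degree_eq_some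
    (by rw [degree_add_eq_left_of_degree_lt] <;> rw [degree_X_pow]; exact hq), ?_, fun s hs h => ha ?_⟩
  · simp [show (0 : ℕ) ≠ d by omega]
  · have hs0 : s ≠ 0 := fun e => h0 (e ▸ hs)
    simp only [eval_add, eval_pow, eval_X, eval_mul, eval_C] at h
    refine Finset.mem_image.2 ⟨s, hs, ?_⟩
    field_simp
    linear_combination -h

/-- A cyclic automorphism with given polynomial. -/
theorem exists_cyc {f : K[X]} (hf : f.Monic) (hd : f.natDegree = finrank K V) (h0 : f.coeff 0 ≠ 0) :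
    ∃ y : V ≃ₗ[K] V, Cyc (y : Module.End K V) f ∧
      LinearMap.det (y : Module.End K V) = (-1) ^ finrank K V * f.coeff 0 := by
  obtain ⟨A, ν, hν, hA⟩ := exists_model hf hd
  let E : (Fin (finrank K V) → K) ≃ₗ[K] V := (Module.finBasis K V).equivFun.symm
  have hc : Cyc (E.conj A) f := Cyc.map (y := A) ⟨hf, hd.trans (by simp), hA, ν, hν⟩ E fun v => by
    simp [LinearEquiv.conj_apply]
  have hdet : LinearMap.det (E.conj A) = (-1) ^ finrank K V * f.coeff 0 := by
    obtain ⟨-, -, ha, μ, hμ⟩ := hc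
    exact hμ.det_eq hf hd ha
  have hu := (LinearMap.isUnit_iff_isUnit_det (E.conj A)).2 (by
    rw [hdet]; exact isUnit_iff_ne_zero.2 (mul_ne_zero (pow_ne_zero _ (by simp)) h0))
  refine ⟨LinearEquiv.ofBijective (E.conj A) ((Module.End.isUnit_iff _).1 hu), ?_, ?_⟩
  · exact hc
  · exact hdet

/-- The tool inside the group. -/
theorem exists_factor {T M : V ≃ₗ[K] V} {f : K[X]} (hT : NonScalar T)
    (hM : Cyc (M : Module.End K V) f) (hdT : LinearEquiv.det T = 1) (hdM : LinearEquiv.det M = 1) :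
    ∃ ρ : Kˣ, ∀ (b : V ≃ₗ[K] V) (s : K), LinearEquiv.det b = 1 → RootedAt b s →
      ∃ P Q : V ≃ₗ[K] V, T * (P * M * P⁻¹) = Q * b * Q⁻¹ ∧
        (LinearEquiv.det P : K) = ρ * s ^ (finrank K V - 1) := by
  obtain ⟨ρ, hρ, H⟩ := tool_of_nonScalar (LinearEquiv.isUnit_det' T).ne_zero hT
    (M : Module.End K V) f hM (LinearEquiv.isUnit_det' M).ne_zero
  refine ⟨Units.mk0 ρ hρ, fun b s hdb hb => ?_⟩
  obtain ⟨h, hs, hc⟩ := hb
  obtain ⟨hm, hdeg, hdet⟩ := RootedAt.det_eq hc
  obtain ⟨P, hP, -, hPc⟩ := H h s hm hdeg (by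
    rw [← hdet, ← LinearEquiv.coe_det, ← LinearEquiv.coe_det, ← LinearEquiv.coe_det, hdT, hdM, hdb]
    simp)
  have e : ((T * (P * M * P⁻¹) : V ≃ₗ[K] V) : Module.End K V) =
      (T : Module.End K V) * P.conj (M : Module.End K V) := rfl
  obtain ⟨Q, hQ⟩ := Cyc.exists_equiv_conj hc (e.symm ▸ hPc hs :
    Cyc ((T * (P * M * P⁻¹) : V ≃ₗ[K] V) : Module.End K V) (h * (X - C s)))
  refine ⟨P, Q, hQ, ?_⟩
  rw [LinearEquiv.coe_det, hP, show finrank K V - 1 = h.natDegree by omega]
  rfl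

/-- A cyclic product gives the rooted classes at one place. -/
theorem mem_succ {x h : V ≃ₗ[K] V} {k : ℕ} {f : K[X]} (hx : LinearEquiv.det x = 1) (hxn : NonScalar x)
    (hh : InProd x k h) (hc : Cyc (h : Module.End K V) f) :
    ∃ ρ : Kˣ, ∀ (u : Kˣ) (b : V ≃ₗ[K] V), LinearEquiv.det b = 1 →
      RootedAt b ((ρ : K) * u ^ finrank K V) → InProd x (1 + k) b := by
  obtain ⟨ρ, H⟩ := exists_factor hxn hc hx (hh.det hx)
  refine ⟨ρ, fun u b hdb hb => ?_⟩
  obtain ⟨P, Q, hPQ, hP⟩ := H b _ hdb hb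
  set n := finrank K V
  set c : Kˣ := (ρ * u ^ (n - 1))⁻¹
  have hn : 1 ≤ n := by
    obtain ⟨g, -, hg⟩ := hb
    have := (RootedAt.det_eq hg).2.1
    omega
  have hP' : LinearEquiv.det (P * scal c) = 1 := Units.ext (by
    rw [map_mul, Units.val_mul, hP, det_scal, Units.val_one]
    simp only [c, Units.val_inv_eq_inv_val, Units.val_mul, Units.val_pow_eq_pow_val, inv_pow, mul_pow]
    have h1 : (ρ : K) ≠ 0 := ρ.ne_zero
    have h2 : (u : K) ≠ 0 := u.ne_zero
    obtain ⟨m, hm⟩ : ∃ m, n = m + 1 := ⟨n - 1, by omega⟩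
    rw [show finrank K V = m + 1 from hm, hm, Nat.add_sub_cancel]
    field_simp
    simp only [← pow_mul, ← pow_succ']
    ring)
  have hM' : InProd x k (P * h * P⁻¹) := by
    have e : P * h * P⁻¹ = P * scal c * h * (P * scal c)⁻¹ := by
      rw [mul_inv_rev, mul_assoc P (scal c) h, scal_comm]; group
    rw [e]
    exact hh.conj hP'
  have hQb : InProd x (1 + k) (Q * b * Q⁻¹) := hPQ ▸ (InProd.self x).mul hM'
  have := InProd.conj_closed (Q := Q⁻¹) (RootedAt.closed hb).conj hQb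
  simpa [mul_assoc] using this

/-- A closed cyclic product gives all rooted classes. -/
theorem mem_succ_closed {x h : V ≃ₗ[K] V} {k : ℕ} {f : K[X]} (hx : LinearEquiv.det x = 1)
    (hxn : NonScalar x) (hh : InProd x k h) (hc : Cyc (h : Module.End K V) f) (hcl : Closed h)
    {b : V ≃ₗ[K] V} (hdb : LinearEquiv.det b = 1) {s : K} (hb : RootedAt b s) :
    InProd x (1 + k) b := by
  obtain ⟨ρ, H⟩ := exists_factor hxn hc hx (hh.det hx)
  obtain ⟨P, Q, hPQ, -⟩ := H b _ hdb hb
  have hQb : InProd x (1 + k) (Q * b * Q⁻¹) :=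
    hPQ ▸ (InProd.self x).mul (InProd.conj_closed hcl hh)
  have := InProd.conj_closed (Q := Q⁻¹) hb.closed.conj hQb
  simpa [mul_assoc] using this

/-- A rooted and a closed cyclic product give every non-scalar automorphism. -/
theorem nonScalar_mem {x b c g : V ≃ₗ[K] V} {j k : ℕ} {f : K[X]} {s : K} (hx : LinearEquiv.det x = 1)
    (hb : InProd x j b) (hbr : RootedAt b s) (hc : InProd x k c) (hcc : Cyc (c : Module.End K V) f)
    (hcl : Closed c) (hg : LinearEquiv.det g = 1) (hgn : NonScalar g) : InProd x (j + k) g := by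
  obtain ⟨ρ, H⟩ := exists_factor hgn hcc.inv hg (by rw [map_inv, hc.det hx, inv_one])
  obtain ⟨P, Q, hPQ, -⟩ := H b s (hb.det hx) hbr
  have e : g = Q * b * Q⁻¹ * (P * c * P⁻¹) := by
    rw [← hPQ]; group
  rw [e]
  exact (InProd.conj_closed hbr.closed hb).mul (InProd.conj_closed hcl hc)

theorem exists_rootedAt [Fintype K] [DecidableEq K] (hn : 3 ≤ finrank K V) (S : Finset K) {s : K}
    (hs : s ≠ 0) (hsS : s ∈ S) (h0 : (0 : K) ∉ S) (hS : S.card < Fintype.card K) :
    ∃ b : V ≃ₗ[K] V, LinearEquiv.det b = 1 ∧ RootedAt b s := by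
  set d := finrank K V - 1 with hd
  obtain ⟨h, hm, hdeg, hc, hS'⟩ := exists_poly_avoid (d := d) (by omega) ((-1) ^ d * s⁻¹) S h0 hS
  have hsgn : ((-1 : K) ^ d) ≠ 0 := pow_ne_zero _ (by simp)
  have hfd : (h * (X - C s)).natDegree = finrank K V := by
    rw [hm.natDegree_mul (monic_X_sub_C s), hdeg, natDegree_X_sub_C]; omega
  have hf0 : (h * (X - C s)).coeff 0 = -((-1) ^ d) := by
    rw [mul_coeff_zero, hc, coeff_sub, coeff_X_zero, coeff_C_zero]
    field_simp
    ring
  obtain ⟨b, hbc, hbd⟩ := exists_cyc (V := V) (hm.mul (monic_X_sub_C s)) hfd (by rw [hf0]; simpa using hsgn)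
  refine ⟨b, Units.ext ?_, h, hS' s hsS, hbc⟩
  rw [LinearEquiv.coe_det, hbd, hf0, Units.val_one, show finrank K V = d + 1 by omega, pow_succ]
  rw [mul_neg_one, neg_mul_neg, ← mul_pow, neg_one_mul, neg_neg, one_pow]

/-- A rooted automorphism of determinant one with two prescribed simple roots. -/
theorem exists_rootedAt_inv [Fintype K] [DecidableEq K] (hq : 4 ≤ Fintype.card K)
    (hn : 4 ≤ finrank K V) {s : K} (hs : s ≠ 0) :
    ∃ b : V ≃ₗ[K] V, LinearEquiv.det b = 1 ∧ RootedAt b s ∧ RootedAt b s⁻¹ := by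
  by_cases h2 : s = s⁻¹
  · obtain ⟨b, hb, hr⟩ := exists_rootedAt (V := V) (by omega) {s} hs (Finset.mem_singleton_self s)
      (by simpa using hs.symm) (by rw [Finset.card_singleton]; omega)
    exact ⟨b, hb, hr, h2 ▸ hr⟩
  set d := finrank K V - 2 with hd
  obtain ⟨h, hm, hdeg, hc, hS'⟩ := exists_poly_avoid (d := d) (by omega) ((-1 : K) ^ d) {s, s⁻¹}
    (by simp [hs.symm, (inv_ne_zero hs).symm]) (Finset.card_le_two.trans_lt (by omega))
  have hm1 : (h * (X - C s⁻¹)).Monic := hm.mul (monic_X_sub_C _)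
  have hfd : (h * (X - C s⁻¹) * (X - C s)).natDegree = finrank K V := by
    rw [hm1.natDegree_mul (monic_X_sub_C s), hm.natDegree_mul (monic_X_sub_C _), hdeg,
      natDegree_X_sub_C, natDegree_X_sub_C]
    omega
  have hf0 : (h * (X - C s⁻¹) * (X - C s)).coeff 0 = (-1) ^ d := by
    simp only [mul_coeff_zero, hc, coeff_sub, coeff_X_zero, coeff_C_zero]
    field_simp
    ring
  obtain ⟨b, hbc, hbd⟩ := exists_cyc (V := V) (hm1.mul (monic_X_sub_C s)) hfd (by rw [hf0]; simp)
  refine ⟨b, Units.ext ?_, ⟨h * (X - C s⁻¹), ?_, hbc⟩, ⟨h * (X - C s), ?_, ?_⟩⟩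
  · rw [LinearEquiv.coe_det, hbd, hf0, Units.val_one, show finrank K V = d + 2 by omega, pow_add]
    rw [mul_right_comm, ← mul_pow]
    norm_num
  · rw [eval_mul, eval_sub, eval_X, eval_C]
    exact mul_ne_zero (hS' s (by simp)) (sub_ne_zero.2 h2)
  · rw [eval_mul, eval_sub, eval_X, eval_C]
    exact mul_ne_zero (hS' _ (by simp)) (sub_ne_zero.2 (Ne.symm h2))
  · rwa [mul_right_comm] at hbc

/-- **Any cyclic product**: twice one more factor reaches everything. -/
theorem cover_of_cyc [Fintype K] (hq : 4 ≤ Fintype.card K) (hn : 4 ≤ finrank K V)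
    {x h : V ≃ₗ[K] V} {k : ℕ} {f : K[X]} (hx : LinearEquiv.det x = 1) (hxn : NonScalar x)
    (hh : InProd x k h) (hc : Cyc (h : Module.End K V) f) {g : V ≃ₗ[K] V}
    (hg : LinearEquiv.det g = 1) (hgn : NonScalar g ∨ g = 1) : InProd x (2 * k + 2) g := by
  classical
  obtain ⟨ρ, H⟩ := mem_succ hx hxn hh hc
  obtain ⟨b, hdb, hb, hb'⟩ := exists_rootedAt_inv (V := V) hq hn ρ.ne_zero
  have hbm : InProd x (1 + k) b := H 1 b hdb (by simpa using hb)
  rw [show 2 * k + 2 = (1 + k) + (1 + k) by ring]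
  rcases hgn with hgn | rfl
  · obtain ⟨-, hcb⟩ : ∃ _h : RootedAt b ρ, Cyc (b : Module.End K V) _ := ⟨hb, hb.choose_spec.2⟩
    exact nonScalar_mem hx hbm hb hbm hcb hb.closed hg hgn
  · have h1 : InProd x (1 + k) b⁻¹ := H 1 b⁻¹ (by rw [map_inv, hdb, inv_one])
      (by simpa using hb'.inv)
    simpa using hbm.mul h1

/-- **The identity**: `x` and `x R` with `R ^ n = (x R) ^ n = 1`. -/
theorem one_mem {x : V ≃ₗ[K] V} (hx : LinearEquiv.det x = 1) (hxn : NonScalar x)
    (hn : 2 ≤ finrank K V) (h : Odd (finrank K V) ∨ Closed x) : InProd x (finrank K V) 1 := by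
  set n := finrank K V with hndef
  have hfm : (X ^ n - C 1 : K[X]).Monic := monic_X_pow_sub_C _ (by omega)
  have hf0 : (X ^ n - C 1 : K[X]).coeff 0 = -1 := by
    rw [coeff_sub, coeff_X_pow, if_neg (by omega), coeff_C_zero]; simp
  obtain ⟨R₀, hR₀c, hR₀d⟩ := exists_cyc (V := V) hfm (by rw [natDegree_X_pow_sub_C]) (by rw [hf0]; simp)
  rw [hf0] at hR₀d
  obtain ⟨ρ, -, H⟩ := tool_of_nonScalar (LinearEquiv.isUnit_det' x).ne_zero hxn
    (R₀ : Module.End K V) _ hR₀c (LinearEquiv.isUnit_det' R₀).ne_zero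
  set g : K[X] := ∑ i ∈ Finset.range n, X ^ i with hg
  have hgm : g.Monic := monic_geom_sum_X (by omega)
  have hgmul : g * (X - C 1) = X ^ n - C 1 := by rw [C_1]; exact geom_sum_mul X n
  have hgd : g.natDegree + 1 = n := by
    have := congrArg natDegree hgmul
    rwa [hgm.natDegree_mul (monic_X_sub_C 1), natDegree_X_sub_C, natDegree_X_pow_sub_C] at this
  have hg0 : g.coeff 0 = 1 := by
    rw [hg, finsetSum_coeff, Finset.sum_eq_single 0]
    · simp
    · intro i _ hi; simp [Ne.symm hi]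
    · intro h0; exact absurd (Finset.mem_range.2 (by omega)) h0
  obtain ⟨P, -, hP, -⟩ := H g 1 hgm hgd (by
    rw [← LinearEquiv.coe_det, hx, Units.val_one, hR₀d, hg0]
    rw [show finrank K V = g.natDegree + 1 by omega, pow_succ]
    ring)
  set R : V ≃ₗ[K] V := P * R₀ * P⁻¹ with hR
  have hpow : ∀ y : V ≃ₗ[K] V, aeval (y : Module.End K V) (X ^ n - C 1 : K[X]) = 0 → y ^ n = 1 := by
    intro y hy
    simp only [map_sub, map_pow, aeval_X, map_one, sub_eq_zero] at hy
    refine LinearEquiv.ext fun v => ?_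
    have hc : ∀ i : ℕ, ((y ^ i : V ≃ₗ[K] V) : Module.End K V) = (y : Module.End K V) ^ i := by
      intro i
      induction i with
      | zero => rfl
      | succ i ih => rw [pow_succ, pow_succ, ← ih]; rfl
    have := congrArg (fun L : Module.End K V => L v) ((hc n).trans hy)
    exact this
  have h1 : (x * R) ^ n = 1 := hpow _ (hgmul ▸ hP)
  have h2 : R ^ n = 1 := by
    rw [hR, _root_.conj_pow, hpow _ hR₀c.2.2.1]; group
  have key : ∀ k : ℕ, InProd x k ((x * R) ^ k * (R ^ k)⁻¹) := by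
    intro k
    induction k with
    | zero => simpa using InProd.zero x
    | succ k ih =>
      have h3 : InProd x 1 (R ^ k * x * (R ^ k)⁻¹) := by
        rcases h with h | h
        · refine InProd.single ?_
          rw [map_pow, hR]
          have : LinearEquiv.det R₀ = 1 := Units.ext (by
            rw [LinearEquiv.coe_det, hR₀d, Units.val_one, h.neg_one_pow]; ring)
          simp [this]
        · exact InProd.conj_closed h (InProd.self x)
      have := ih.mul h3
      convert this using 1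
      rw [pow_succ, pow_succ]
      group
  have := key n
  rwa [h1, h2, inv_one, mul_one] at this

end Cfsg.Agent.CoverNum
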