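import Mathlib
import Cfsg.Agent.CoverNum.Decomp
import Cfsg.Agent.CoverNum.Tools

/-!
# Operations on single blocks
-/

namespace Cfsg.Agent.CoverNum

open Module Polynomial OreSL

universe u v

variable {K : Type u} [Field K] {V : Type v} [AddCommGroup V] [Module K V]

/-- Equal polynomials, equal blocks. -/
theorem cpoly_inj {d : ℕ} {c c' : Fin d → K} (h : cpoly c = cpoly c') : c = c' := funext fun l => by
  have := congrArg (fun p : K[X] => p.coeff l) h
  simpa [cpoly_coeff] using this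

theorem exists_cpoly {d : ℕ} {f : K[X]} (hf : f.Monic) (hd : f.natDegree = d) :
    ∃ r : Fin d → K, cpoly r = f := by
  refine ⟨fun l => -f.coeff l, Polynomial.ext fun k => ?_⟩
  rcases lt_trichotomy k d with hk | rfl | hk
  · exact (cpoly_coeff _ ⟨k, hk⟩).trans (neg_neg _)
  · have h1 := (cpoly_monic (fun l : Fin k => -f.coeff l)).coeff_natDegree
    have h2 := hf.coeff_natDegree
    rw [cpoly_natDegree] at h1
    rw [hd] at h2
    rw [h1, h2]
  · rw [coeff_eq_zero_of_natDegree_lt (by rwa [cpoly_natDegree]),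
      coeff_eq_zero_of_natDegree_lt (by rwa [hd])]

/-- The determinant of a block diagonal map. -/
theorem det_blocks : ∀ {m : ℕ} (s : Fin m → ℕ) (R : ∀ i, Module.End K (Fin (s i) → K)),
    LinearMap.det (LinearMap.pi fun i => R i ∘ₗ LinearMap.proj i) = ∏ i, LinearMap.det (R i) := by
  intro m
  induction m with
  | zero => intro s R; simp [LinearMap.det_eq_one_of_subsingleton]
  | succ m ih =>
    intro s R
    rw [Fin.prod_univ_succAbove _ 0, ← ih (fun j => s ((0 : Fin (m + 1)).succAbove j))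
      (fun j => R ((0 : Fin (m + 1)).succAbove j)), ← LinearMap.det_prodMap,
      ← LinearMap.det_conj _ (splitAt (K := K) s 0)]
    congr 1

variable {y : V ≃ₗ[K] V} {m : ℕ} {s : Fin m → ℕ} {c : ∀ i, Fin (s i) → K}

theorem Blocks.exists_compEquiv (h : Blocks (y : Module.End K V) s c) (i : Fin m) :
    ∃ T : (Fin (s i) → K) ≃ₗ[K] (Fin (s i) → K), ∀ z, T z = comp (c i) z := by
  obtain ⟨-, E, hE⟩ := h
  have hinj : Function.Injective (comp (c i)) := by
    rw [← LinearMap.ker_eq_bot]
    refine (Submodule.eq_bot_iff _).2 fun a ha => ?_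
    have h1 : dsum s c (Pi.single i a) = 0 := by
      funext j
      rw [dsum_apply]
      rcases eq_or_ne j i with rfl | hj
      · simpa using ha
      · simp [Pi.single_eq_of_ne hj]
    have h2 := hE (Pi.single i a)
    rw [h1, map_zero, LinearEquiv.coe_coe, LinearEquiv.map_eq_zero_iff,
      LinearEquiv.map_eq_zero_iff] at h2
    simpa using h2
  exact ⟨LinearEquiv.ofBijective _ ⟨hinj, LinearMap.injective_iff_surjective.1 hinj⟩, fun z => rfl⟩

variable [FiniteDimensional K V]

/-- Centralisers of blocks embed. -/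
theorem Blocks.exists_centraliser (h : Blocks (y : Module.End K V) s c) (i : Fin m)
    (R : (Fin (s i) → K) ≃ₗ[K] (Fin (s i) → K)) (hR : ∀ z, R (comp (c i) z) = comp (c i) (R z)) :
    ∃ Q : V ≃ₗ[K] V, LinearEquiv.det Q = LinearEquiv.det R ∧ Q * y = y * Q := by
  obtain ⟨m, rfl⟩ : ∃ k, m = k + 1 := ⟨m - 1, by have := i.isLt; omega⟩
  obtain ⟨E, hE⟩ := h.extract i
  let D := R.prodCongr (LinearEquiv.refl K (∀ j, Fin (s (i.succAbove j)) → K))
  refine ⟨E.symm.trans (D.trans E), Units.ext ?_, LinearEquiv.ext fun v => ?_⟩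
  · rw [LinearEquiv.coe_det, LinearEquiv.coe_det, show ((E.symm.trans (D.trans E) : V ≃ₗ[K] V) :
      Module.End K V) = (E : ((Fin (s i) → K) × (∀ j, Fin (s (i.succAbove j)) → K)) →ₗ[K] V) ∘ₗ (LinearMap.prodMap (R : Module.End K (Fin (s i) → K))
        LinearMap.id) ∘ₗ (E.symm : V →ₗ[K] ((Fin (s i) → K) × (∀ j, Fin (s (i.succAbove j)) → K))) from
        rfl, LinearMap.det_conj, LinearMap.det_prodMap,
      LinearMap.det_id, mul_one]
  · obtain ⟨z, rfl⟩ := E.surjective v
    show E (D (E.symm (y (E z)))) = (y : Module.End K V) (E (D (E.symm (E z))))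
    rw [E.symm_apply_apply, hE, show y (E z) = _ from hE z, E.symm_apply_apply]
    congr 1
    exact Prod.ext (hR z.1) rfl

/-- A scalar on one block. -/
theorem Blocks.exists_scale (h : Blocks (y : Module.End K V) s c) (i : Fin m) (u : Kˣ) :
    ∃ Q : V ≃ₗ[K] V, LinearEquiv.det Q = u ^ s i ∧ Q * y = y * Q := by
  obtain ⟨Q, hQ, hQy⟩ := h.exists_centraliser i (LinearEquiv.smulOfUnit u) fun z => by
    show (u : K) • comp (c i) z = comp (c i) ((u : K) • z)
    rw [map_smul]
  refine ⟨Q, hQ.trans (Units.ext ?_), hQy⟩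
  rw [Units.val_pow_eq_pow_val]
  exact (det_scal (V := Fin (s i) → K) u).trans (by rw [Module.finrank_fin_fun])

/-- A trivial block makes every determinant occur in the centraliser. -/
theorem Blocks.closed_of_one (h : Blocks (y : Module.End K V) s c) {i : Fin m} (hi : s i = 1) :
    Closed y := fun u => by
  obtain ⟨Q, hQ, hQy⟩ := h.exists_scale i u
  exact ⟨Q, by rw [hQ, hi, pow_one], hQy⟩

/-- Two coprime block sizes do the same. -/
theorem Blocks.closed_of_two_three (h : Blocks (y : Module.End K V) s c) {i j : Fin m} (hi : s i = 2)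
    (hj : s j = 3) : Closed y := fun u => by
  obtain ⟨Q, hQ, hQy⟩ := h.exists_scale i u⁻¹
  obtain ⟨R, hR, hRy⟩ := h.exists_scale j u
  refine ⟨R * Q, ?_, (Commute.mul_left hRy hQy : Commute (R * Q) y)⟩
  rw [map_mul, hQ, hR, hi, hj, inv_pow, pow_succ' u 2, mul_assoc, mul_inv_cancel, mul_one]

/-- A block with a simple root does the same. -/
theorem Blocks.closed_of_root (h : Blocks (y : Module.End K V) s c) {i : Fin m} {g : K[X]} {a : K}
    (hg : cpoly (c i) = g * (X - C a)) (ha : g.eval a ≠ 0) : Closed y := fun u => by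
  obtain ⟨T, hT⟩ := h.exists_compEquiv i
  have hc : Cyc (T : Module.End K (Fin (s i) → K)) (g * (X - C a)) := by
    rw [show (T : Module.End K (Fin (s i) → K)) = comp (c i) from LinearMap.ext hT, ← hg]
    exact cyc_comp (h.1 i) _
  obtain ⟨R, hR, hRT⟩ := RootedAt.closed (y := T) ⟨g, ha, hc⟩ u
  obtain ⟨Q, hQ, hQy⟩ := h.exists_centraliser i R fun z => by
    rw [← hT, ← hT]
    exact LinearEquiv.congr_fun hRT z
  exact ⟨Q, hQ.trans hR, hQy⟩

/-- Over a finite field an irreducible block does the same. -/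
theorem Blocks.closed_of_irreducible [Finite K] (h : Blocks (y : Module.End K V) s c) {i : Fin m}
    (hg : Irreducible (cpoly (c i))) : Closed y := fun u => by
  set g := cpoly (c i) with hgdef
  have := Fact.mk hg
  have hm : g.Monic := cpoly_monic _
  have : Module.Finite K (AdjoinRoot g) := hm.finite_adjoinRoot
  have : Finite (AdjoinRoot g) := Module.finite_of_finite K
  obtain ⟨r, hr⟩ := FiniteField.norm_surjective K (AdjoinRoot g) (u : K)
  set pb := AdjoinRoot.powerBasis hm.ne_zero with hpb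
  have hdim : pb.dim = s i := by rw [hpb, AdjoinRoot.powerBasis_dim, hgdef, cpoly_natDegree]
  set A : Module.End K (AdjoinRoot g) := Algebra.lmul K _ (AdjoinRoot.root g) with hA
  set μ := pb.basis.coord ⟨0, hdim ▸ h.1 i⟩ with hμ
  have hμ1 : μ 1 = 1 := by
    have e : pb.basis ⟨0, hdim ▸ h.1 i⟩ = 1 := by rw [PowerBasis.basis_eq_pow]; simp
    rw [hμ, ← e, Basis.coord_apply, Basis.repr_self, Finsupp.single_eq_same]
  have hcA : Cyc A g := by
    refine ⟨hm, ?_, ?_, μ, fun z hz => ?_⟩
    · rw [pb.finrank, hdim, hgdef, cpoly_natDegree]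
    · rw [hA, Polynomial.aeval_algHom_apply, AdjoinRoot.aeval_eq, AdjoinRoot.mk_self, map_zero]
    · by_contra hz0
      have h0 : μ ∘ₗ LinearMap.mulRight K z = 0 := pb.basis.ext fun k => by
        rw [LinearMap.comp_apply, LinearMap.mulRight_apply, LinearMap.zero_apply,
          PowerBasis.basis_eq_pow, show pb.gen = AdjoinRoot.root g from AdjoinRoot.powerBasis_gen _]
        have := hz k
        rwa [hA, ← map_pow, Algebra.coe_lmul_eq_mul, LinearMap.mul_apply'] at this
      have := LinearMap.congr_fun h0 z⁻¹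
      simp [inv_mul_cancel₀ hz0, hμ1] at this
  obtain ⟨P, hP⟩ := hcA.exists_conj (cyc_comp (h.1 i) (c i))
  have hr0 : r ≠ 0 := fun e => u.ne_zero (by rw [← hr, e, Algebra.norm_zero])
  let M : AdjoinRoot g ≃ₗ[K] AdjoinRoot g :=
    LinearEquiv.ofLinearMap (LinearMap.mulLeft K r) (LinearMap.mulLeft K r⁻¹)
      (LinearMap.ext fun a => by simp [hr0]) (LinearMap.ext fun a => by simp [hr0])
  let R : (Fin (s i) → K) ≃ₗ[K] (Fin (s i) → K) := P.symm.trans (M.trans P)
  obtain ⟨Q, hQ, hQy⟩ := h.exists_centraliser i R fun z => by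
    obtain ⟨a, rfl⟩ := P.surjective z
    simp only [R, LinearEquiv.trans_apply, LinearEquiv.symm_apply_apply, ← hP]
    congr 1
    show r * (AdjoinRoot.root g * a) = AdjoinRoot.root g * (r * a)
    ring
  refine ⟨Q, hQ.trans (Units.ext ?_), hQy⟩
  rw [LinearEquiv.coe_det, ← hr, Algebra.norm_apply, show (R : Module.End K (Fin (s i) → K)) =
    (P : AdjoinRoot g →ₗ[K] _) ∘ₗ LinearMap.mulLeft K r ∘ₗ (P.symm : _ →ₗ[K] AdjoinRoot g) from rfl,
    LinearMap.det_conj]
  rfl

/-- Conjugating block by block: the product is again made of blocks. -/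
theorem Blocks.exists_product (h : Blocks (y : Module.End K V) s c)
    (R : ∀ i, (Fin (s i) → K) ≃ₗ[K] (Fin (s i) → K)) (f : Fin m → K[X])
    (hf : ∀ i, Cyc (comp (c i) * (R i).conj (comp (c i))) (f i)) :
    ∃ (Q : V ≃ₗ[K] V) (c' : ∀ i, Fin (s i) → K),
      LinearEquiv.det Q = ∏ i, LinearEquiv.det (R i) ∧
      Blocks ((y * (Q * y * Q⁻¹) : V ≃ₗ[K] V) : Module.End K V) s c' ∧ ∀ i, cpoly (c' i) = f i := by
  obtain ⟨hs, E, hE⟩ := h
  choose c' hc' using fun i => exists_cpoly (hf i).1 ((hf i).2.1.trans (Module.finrank_fin_fun K))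
  choose S hS using fun i => (cyc_comp (hs i) (c' i)).exists_conj (hc' i ▸ hf i)
  let Q : V ≃ₗ[K] V := E.symm.trans ((LinearEquiv.piCongrRight R).trans E)
  refine ⟨Q, c', Units.ext ?_, ⟨hs, (LinearEquiv.piCongrRight S).trans E, fun z => ?_⟩, hc'⟩
  · rw [LinearEquiv.coe_det, show (Q : Module.End K V) = (E : _ →ₗ[K] V) ∘ₗ
      (LinearMap.pi fun i => (R i : Module.End K (Fin (s i) → K)) ∘ₗ LinearMap.proj i) ∘ₗ
        (E.symm : V →ₗ[K] _) from rfl, LinearMap.det_conj, det_blocks, Units.coe_prod]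
    simp only [LinearEquiv.coe_det]
  · have hy : ∀ w, y (E w) = E (dsum s c w) := hE
    show y (Q (y (Q.symm (E (LinearEquiv.piCongrRight S z))))) = E (LinearEquiv.piCongrRight S _)
    simp only [Q, LinearEquiv.trans_apply, LinearEquiv.trans_symm, LinearEquiv.symm_symm,
      LinearEquiv.symm_apply_apply, hy]
    congr 1
    funext i
    simp only [LinearEquiv.piCongrRight_symm, LinearEquiv.piCongrRight_apply, dsum_apply]
    have := hS i (z i)
    rw [this, Module.End.mul_apply, LinearEquiv.conj_apply]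
    rfl

omit [FiniteDimensional K V] in
/-- Pairwise coprime blocks make a cyclic automorphism. -/
theorem cyc_dsum : ∀ {m : ℕ} (s : Fin m → ℕ) (c : ∀ i, Fin (s i) → K), (∀ i, 1 ≤ s i) →
    Pairwise (fun i j => IsCoprime (cpoly (c i)) (cpoly (c j))) →
    Cyc (dsum s c) (∏ i, cpoly (c i)) := by
  intro m
  induction m with
  | zero =>
    intro s c _ _
    refine ⟨by simp [monic_one], by simp [Module.finrank_zero_of_subsingleton], Subsingleton.elim _ _, 0, fun z _ => Subsingleton.elim _ _⟩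
  | succ m ih =>
    intro s c hs hco
    set σ := (0 : Fin (m + 1)).succAbove
    obtain ⟨hm', hd', hA', μ', hμ'⟩ := ih (fun j => s (σ j)) (fun j => c (σ j)) (fun j => hs _)
      fun i j hij => hco (fun e => hij (Fin.succAbove_right_injective e))
    obtain ⟨hm, hd, hA, μ, hμ⟩ := cyc_comp (hs 0) (c 0)
    have hco' : IsCoprime (cpoly (c 0)) (∏ j, cpoly (c (σ j))) :=
      IsCoprime.prod_right fun j _ => hco (Fin.succAbove_ne 0 j).symm
    refine Cyc.map (y := (comp (c 0)).prodMap (dsum _ fun j => c (σ j))) ⟨?_, ?_, ?_, _,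
      hμ.prod hμ' hA hA' hco'⟩ (splitAt s 0).symm fun z => ?_
    · rw [Fin.prod_univ_succAbove _ 0]; exact hm.mul hm'
    · rw [Fin.prod_univ_succAbove _ 0, hm.natDegree_mul hm', Module.finrank_prod, hd, hd']
    · rw [Fin.prod_univ_succAbove _ 0, aeval_prodMap, map_mul, map_mul, hA, hA', zero_mul, mul_zero]
      exact LinearMap.prodMap_zero
    · apply (splitAt (K := K) s 0).injective
      rw [LinearEquiv.apply_symm_apply, splitAt_dsum, LinearEquiv.apply_symm_apply]

omit [FiniteDimensional K V] in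
theorem Blocks.cyc {y : Module.End K V} (h : Blocks y s c)
    (hco : Pairwise (fun i j => IsCoprime (cpoly (c i)) (cpoly (c j)))) :
    Cyc y (∏ i, cpoly (c i)) := by
  obtain ⟨hs, E, hE⟩ := h
  exact (cyc_dsum s c hs hco).map E fun z => (hE z).symm

omit [FiniteDimensional K V] in
theorem Blocks.cyc_one {y : Module.End K V} (h : Blocks y s c) (hm : m ≤ 1) :
    Cyc y (∏ i, cpoly (c i)) :=
  h.cyc fun i j hij => absurd (Fin.ext (by have := i.isLt; have := j.isLt; omega)) hij

/-- One index. -/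
def piOne (t : Fin 1 → ℕ) : (∀ j, Fin (t j) → K) ≃ₗ[K] (Fin (t 0) → K) where
  toFun z := z 0
  invFun w := Fin.cons (α := fun j => Fin (t j) → K) w fun j => j.elim0
  map_add' _ _ := rfl
  map_smul' _ _ := rfl
  left_inv z := by funext j; fin_cases j; rfl
  right_inv w := rfl

omit [FiniteDimensional K V] in
theorem piOne_dsum (t : Fin 1 → ℕ) (g : ∀ j, Fin (t j) → K) (z : ∀ j, Fin (t j) → K) :
    piOne t (dsum t g z) = comp (g 0) (piOne t z) := rfl

omit [FiniteDimensional K V] in
/-- Two blocks as a product. -/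
theorem Blocks.pair {y : Module.End K V} {s : Fin 2 → ℕ} {c : ∀ i, Fin (s i) → K}
    (h : Blocks y s c) (i : Fin 2) : ∃ E : ((Fin (s i) → K) × (Fin (s (i.succAbove 0)) → K)) ≃ₗ[K] V,
      ∀ z, y (E z) = E ((comp (c i)).prodMap (comp (c (i.succAbove 0))) z) := by
  obtain ⟨E, hE⟩ := h.extract i
  refine ⟨((LinearEquiv.refl K _).prodCongr (piOne fun j => s (i.succAbove j)).symm).trans E,
    fun z => ?_⟩
  rw [LinearEquiv.trans_apply, hE, LinearEquiv.trans_apply]
  congr 1
  refine Prod.ext rfl ((piOne (K := K) fun j => s (i.succAbove j)).injective ?_)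
  rfl

omit [FiniteDimensional K V] in
/-- A product of two blocks as a decomposition. -/
theorem Blocks.of_pair {y : Module.End K V} {a b : ℕ} (ha : 1 ≤ a) (hb : 1 ≤ b) (g : Fin a → K)
    (g' : Fin b → K) (E : ((Fin a → K) × (Fin b → K)) ≃ₗ[K] V)
    (hE : ∀ z, y (E z) = E ((comp g).prodMap (comp g') z)) :
    ∃ c : ∀ i, Fin ((Fin.cons a fun _ => b : Fin 2 → ℕ) i) → K,
      Blocks y (Fin.cons a fun _ => b : Fin 2 → ℕ) c :=
  Blocks.insert (s := fun _ : Fin 1 => b) ha (fun _ => hb) g (fun _ => g')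
    (((LinearEquiv.refl K _).prodCongr (piOne (K := K) fun _ : Fin 1 => b)).trans E) fun z => by
      rw [LinearEquiv.trans_apply, hE]
      rfl

omit [FiniteDimensional K V] in
/-- Two blocks of size two with different polynomials can be redistributed as three and one. -/
theorem Blocks.exchange {y : Module.End K V} {s : Fin 2 → ℕ} {c : ∀ i, Fin (s i) → K}
    (h : Blocks y s c) (i : Fin 2) {a b : K} (hg : cpoly (c i) = (X - C a) * (X - C b))
    (hab : a ≠ b) (hb : (cpoly (c (i.succAbove 0))).eval b ≠ 0) :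
    ∃ (s' : Fin 2 → ℕ) (c' : ∀ i, Fin (s' i) → K), Blocks y s' c' ∧ 1 ≤ ones s' := by
  obtain ⟨E, hE⟩ := h.pair i
  have h2 : s i = 1 + 1 := by
    have := congrArg natDegree hg
    rwa [cpoly_natDegree, natDegree_mul (X_sub_C_ne_zero a) (X_sub_C_ne_zero b), natDegree_X_sub_C,
      natDegree_X_sub_C] at this
  generalize c i = ci at hg hE
  generalize s i = d at h2 ci E hE hg
  subst h2
  let la : Fin 1 → K := fun _ => a
  let lb : Fin 1 → K := fun _ => b
  have ha' : cpoly la = X - C a := by simp [cpoly, la]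
  have hb' : cpoly lb = X - C b := by simp [cpoly, lb]
  obtain ⟨r, P, hr, hP⟩ := exists_merge_coprime le_rfl le_rfl la lb (by
    rw [ha', hb']; exact Polynomial.isCoprime_X_sub_C_of_isUnit_sub (sub_ne_zero.2 hab).isUnit)
  obtain rfl : r = ci := cpoly_inj (by rw [hr, ha', hb', hg])
  have hs2 := h.1 (i.succAbove 0)
  obtain ⟨r', P', -, hP'⟩ := exists_merge_coprime le_rfl hs2 lb (c (i.succAbove 0)) (by
    refine IsCoprime.symm (cpoly_coprime_of_root _ lb ?_)
    exact hb)
  let F : ((Fin 1 → K) × (Fin (1 + s (i.succAbove 0)) → K)) ≃ₗ[K] V :=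
    ((LinearEquiv.refl K _).prodCongr P').trans <|
      (LinearEquiv.prodAssoc K _ _ _).symm.trans <| (P.symm.prodCongr (LinearEquiv.refl K _)).trans E
  obtain ⟨c', hc'⟩ := Blocks.of_pair (y := y) le_rfl (by omega) la r' F fun z => by
    simp only [F, LinearEquiv.trans_apply, hE]
    congr 1
    refine Prod.ext ?_ (congrArg Prod.snd (hP' z.2)).symm
    apply P.injective
    show P (comp r (P.symm (z.1, (P' z.2).1))) = P (P.symm (comp la z.1, (P' (comp r' z.2)).1))
    rw [hP, P.apply_symm_apply, P.apply_symm_apply, hP']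
    rfl
  exact ⟨_, c', hc', Finset.card_pos.2 ⟨0, by simp⟩⟩

end Cfsg.Agent.CoverNum
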