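import Mathlib
import Cfsg.Agent.CoverNum.Cells

/-!
# A product of two block companion classes is one block
-/

namespace Cfsg.Agent.CoverNum

open Module List OreSL Polynomial

variable {K : Type*} [Field K] {V : Type*} [AddCommGroup V] [Module K V] {n : ℕ}

/-- Arrangements moved to the nodes of a frame, a chosen node going last. -/
theorem exists_placed {N : ℕ} (hN : 1 ≤ N) (hNn : N ≤ n) {LA LB : List ℕ} (h : Arr N LA LB) :
    ∃ A B : List (List (Fin n)), A.map List.length = LA ∧ B.map List.length = LB ∧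
      A.flatten.Nodup ∧ B.flatten.Nodup ∧ (∀ v ∈ A.flatten, (v : ℕ) < N) ∧
      (∀ v ∈ B.flatten, (v : ℕ) < N) ∧
      (∀ v : Fin n, (v : ℕ) < N → (cprod B v : ℕ) < N) ∧
      (∀ v : Fin n, (v : ℕ) + 1 < N → (cprod A (cprod B v) : ℕ) = v + 1) ∧
      (∀ v : Fin n, (v : ℕ) < N → (cprod A (cprod B v) : ℕ) < N) ∧
      ∀ c R, A = c :: R → c ≠ [] → ∃ w ∈ c, (w : ℕ) + 1 = N := by
  obtain ⟨A₀, B₀, G, hA, hB, hAn, hBn, hAl, hBl, hG, hAB⟩ := h
  obtain ⟨A, hAp, hA'⟩ := exists_ordered List.length hA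
  obtain ⟨B, hBp, hB'⟩ := exists_ordered List.length hB
  have hAn' : A.flatten.Nodup := hAp.flatten.nodup_iff.2 hAn
  have hBn' : B.flatten.Nodup := hBp.flatten.nodup_iff.2 hBn
  have hAl' : ∀ v ∈ A.flatten, v < N := fun v hv => hAl v (hAp.flatten.subset hv)
  have hBl' : ∀ v ∈ B.flatten, v < N := fun v hv => hBl v (hBp.flatten.subset hv)
  rw [← cprod_perm hAp hAn', ← cprod_perm hBp hBn'] at hAB
  have hGn : G.Nodup := hG.nodup_iff.2 List.nodup_range
  -- the node to be last
  obtain ⟨w, hw, hwA⟩ : ∃ w < N, ∀ c R, A = c :: R → c ≠ [] → w ∈ c := by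
    by_cases hc : ∃ c R, A = c :: R ∧ c ≠ []
    · obtain ⟨c, R, hcR, hc⟩ := hc
      refine ⟨c.head hc, hAl' _ (by rw [hcR]; simp), fun c' R' h' _ => ?_⟩
      rw [hcR] at h'
      obtain ⟨rfl, -⟩ := List.cons.inj h'
      exact List.head_mem hc
    · exact ⟨0, hN, fun c R h' hne => absurd ⟨c, R, h', hne⟩ hc⟩
  obtain ⟨r, hr⟩ := rot_to (G := G) (hG.symm.subset (List.mem_range.2 hw))
  have hG' : G ~r (r ++ [w]) := hr.trans (List.isRotated_concat w r).symm
  set G' := r ++ [w] with hG'def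
  have hp : G'.Perm (List.range N) := hG'.perm.symm.trans hG
  have hn' : G'.Nodup := hG'.nodup_iff.1 hGn
  have hlen : G'.length = N := by rw [hp.length_eq, List.length_range]
  rw [formPerm_eq_of_isRotated hGn hG'] at hAB
  let g : ℕ → Fin n := fun x => if hx : x ∈ G' then
    ⟨G'.idxOf x, lt_of_lt_of_le (hlen ▸ List.idxOf_lt_length_of_mem hx) hNn⟩ else ⟨0, by omega⟩
  have hg : ∀ x ∈ G', (g x : ℕ) = G'.idxOf x := fun x hx => by simp [g, hx]
  have hgN : ∀ x ∈ G', (g x : ℕ) < N := fun x hx => by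
    rw [hg x hx, ← hlen]; exact List.idxOf_lt_length_of_mem hx
  have hinj : ∀ x ∈ G', ∀ x' ∈ G', g x = g x' → x = x' := fun x hx x' hx' he => by
    have := congrArg Fin.val he
    rw [hg x hx, hg x' hx'] at this
    exact (List.idxOf_inj hx).1 this
  have hmem : ∀ {x}, x < N → x ∈ G' := fun hx => hp.symm.subset (List.mem_range.2 hx)
  have hsurj : ∀ v : Fin n, (v : ℕ) < N → ∃ x ∈ G', g x = v := fun v hv =>
    ⟨G'[(v : ℕ)]'(by omega), List.getElem_mem _, Fin.ext (by
      rw [hg _ (List.getElem_mem _), hn'.idxOf_getElem])⟩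
  have hflat : ∀ C : List (List ℕ), (C.map (List.map g)).flatten = C.flatten.map g := fun C =>
    (List.map_flatten (f := g) (L := C)).symm
  have hnd : ∀ C : List (List ℕ), C.flatten.Nodup → (∀ v ∈ C.flatten, v < N) →
      (C.map (List.map g)).flatten.Nodup := fun C hC hCl => by
    rw [hflat]
    exact hC.map_on fun x hx x' hx' he => hinj x (hmem (hCl x hx)) x' (hmem (hCl x' hx')) he
  have happ : ∀ C : List (List ℕ), C.flatten.Nodup → (∀ v ∈ C.flatten, v < N) →
      ∀ x ∈ G', cprod (C.map (List.map g)) (g x) = g (cprod C x) ∧ cprod C x ∈ G' := by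
    intro C hC hCl x hx
    by_cases hxC : x ∈ C.flatten
    · obtain ⟨c, hc, hxc⟩ := List.mem_flatten.1 hxC
      have hcG : ∀ y ∈ c, y ∈ G' := fun y hy => hmem (hCl y (List.mem_flatten.2 ⟨c, hc, hy⟩))
      rw [cprod_of_mem (hnd C hC hCl) (List.mem_map_of_mem hc) (List.mem_map_of_mem hxc),
        cprod_of_mem hC hc hxc]
      refine ⟨formPerm_map_of_injOn g fun y hy y' hy' he => ?_, hcG _ (formPerm_apply_mem_of_mem hxc)⟩
      simp only [Set.mem_ofPred_eq, List.mem_cons] at hy hy'
      exact hinj y (hy.elim (fun e => e ▸ hx) (hcG y)) y' (hy'.elim (fun e => e ▸ hx) (hcG y')) he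
    · rw [cprod_of_notMem hxC, cprod_of_notMem]
      · exact ⟨rfl, hx⟩
      · rw [hflat, List.mem_map]
        rintro ⟨y, hy, he⟩
        exact hxC (hinj y (hmem (hCl y hy)) x hx he ▸ hy)
  refine ⟨A.map (List.map g), B.map (List.map g), ?_, ?_, hnd A hAn' hAl', hnd B hBn' hBl', ?_, ?_, ?_,
    ?_, ?_, ?_⟩
  · rw [← hA']; simp [List.map_map, Function.comp_def]
  · rw [← hB']; simp [List.map_map, Function.comp_def]
  · intro v hv
    rw [hflat, List.mem_map] at hv
    obtain ⟨x, hx, rfl⟩ := hv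
    exact hgN x (hmem (hAl' x hx))
  · intro v hv
    rw [hflat, List.mem_map] at hv
    obtain ⟨x, hx, rfl⟩ := hv
    exact hgN x (hmem (hBl' x hx))
  · intro v hv
    obtain ⟨x, hx, rfl⟩ := hsurj v hv
    obtain ⟨h1, h2⟩ := happ B hBn' hBl' x hx
    rw [h1]; exact hgN _ h2
  · intro v hv
    obtain ⟨x, hx, rfl⟩ := hsurj v (by omega)
    obtain ⟨h1, h2⟩ := happ B hBn' hBl' x hx
    obtain ⟨h3, -⟩ := happ A hAn' hAl' _ h2
    rw [h1, h3, ← Equiv.Perm.mul_apply, hAB]
    have hi : G'.idxOf x < G'.length := List.idxOf_lt_length_of_mem hx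
    rw [hg x hx] at hv ⊢
    have : G'.formPerm x = G'[G'.idxOf x + 1]'(by omega) := by
      conv_lhs => rw [← List.getElem_idxOf hi]
      exact formPerm_apply_lt_getElem G' hn' _ (by omega)
    rw [this, hg _ (List.getElem_mem _), hn'.idxOf_getElem]
  · intro v hv
    obtain ⟨x, hx, rfl⟩ := hsurj v hv
    obtain ⟨h1, h2⟩ := happ B hBn' hBl' x hx
    obtain ⟨h3, h4⟩ := happ A hAn' hAl' _ h2
    rw [h1, h3]; exact hgN _ h4
  · intro c R hc hne
    obtain ⟨c₀, R₀, hAe, rfl, rfl⟩ : ∃ c₀ R₀, A = c₀ :: R₀ ∧ c₀.map g = c ∧ R₀.map (List.map g) = R :=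
      List.map_eq_cons_iff.1 hc
    have hw0 : w ∈ c₀ := hwA c₀ R₀ hAe (by intro h0; exact hne (by simp [h0]))
    refine ⟨g w, List.mem_map_of_mem hw0, ?_⟩
    have hlast : G'.idxOf w = r.length := by
      rw [hG'def, List.idxOf_append, if_neg]
      · simp
      · intro hwr
        rw [hG'def, List.nodup_append'] at hn'
        exact hn'.2.2 hwr (List.mem_singleton_self w)
    rw [hg w (by simp [hG'def]), hlast]
    have := hlen
    rw [hG'def, List.length_append, List.length_singleton] at this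
    omega

/-- **The product of two block companion classes.** -/
theorem product_hess {e : Basis (Fin n) K V} {y z : V ≃ₗ[K] V} {LA LB : List ℕ} {μ ν : K} {N : ℕ}
    (hy : HasForm e LA μ y) (hz : HasForm e LB ν z) (hμ : μ ≠ 0) (hν : ν ≠ 0) (hN : 1 ≤ N)
    (hNn : N ≤ n) (h : Arr N LA LB) :
    ∃ P Q : V ≃ₗ[K] V, LinearEquiv.det P = 1 ∧ LinearEquiv.det Q = 1 ∧
      Hess e N (μ * ν) (P * y * P⁻¹ * (Q * z * Q⁻¹)) := by
  obtain ⟨A, B, hA, hB, hAn, hBn, hAl, hBl, hπ, hγ, hγN, -⟩ := exists_placed hN hNn h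
  obtain ⟨P, hP, hl⟩ := hy.left hA hAn hAl hμ (by omega)
  obtain ⟨Q, hQ, hr⟩ := hz.right hB hBn hBl hν (by omega)
  exact ⟨P, Q, hP, hQ, cell_mul hl hr hπ hγ hγN⟩

/-- The same with two linked blocks in the first factor. -/
theorem product_hess₂ {e : Basis (Fin n) K V} {y z : V ≃ₗ[K] V} {p q : ℕ} {LA LB : List ℕ}
    {μ ν : K} {N : ℕ} (hy : HasForm₂ e p q LA μ y) (hz : HasForm e LB ν z) (hμ : μ ≠ 0) (hν : ν ≠ 0)
    (hp : 1 ≤ p) (hN : 1 ≤ N) (hNn : N ≤ n) (h : Arr N (p :: q :: LA) LB) :
    ∃ P Q : V ≃ₗ[K] V, LinearEquiv.det P = 1 ∧ LinearEquiv.det Q = 1 ∧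
      Hess e N (μ * ν) (P * y * P⁻¹ * (Q * z * Q⁻¹)) := by
  obtain ⟨A, B, hA, hB, hAn, hBn, hAl, hBl, hπ, hγ, hγN, hlast⟩ := exists_placed hN hNn h
  obtain ⟨c, R, rfl, hc, hR⟩ := List.map_eq_cons_iff.1 hA
  obtain ⟨d, S, rfl, hd, hS⟩ := List.map_eq_cons_iff.1 hR
  obtain ⟨w, hwc, hw⟩ := hlast c _ rfl (by intro h0; rw [h0] at hc; simp at hc; omega)
  obtain ⟨P, hP, hl⟩ := hy.left hc hd hS hAn hAl hμ (by omega) hwc hw
  obtain ⟨Q, hQ, hr⟩ := hz.right hB hBn hBl hν (by omega)
  exact ⟨P, Q, hP, hQ, cell_mul hl hr hπ hγ hγN⟩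

theorem Hess.step {e : Basis (Fin n) K V} {N : ℕ} {μ : K} {y : V ≃ₗ[K] V} (h : Hess e N μ y) {k : ℕ}
    (hk : k < N) (hNn : N ≤ n) {v : V} (hv : v ∈ Submodule.span K (e '' {x | (x : ℕ) < k})) :
    y v ∈ Submodule.span K (e '' {x | (x : ℕ) ≤ k}) := by
  refine map_mem_span e (y : V →ₗ[K] V) (fun x hx => ?_) hv
  have hx' : (x : ℕ) < k := hx
  have hxn : (x : ℕ) + 1 < n := by omega
  obtain ⟨a, -, ha⟩ := h.1 x ⟨x + 1, hxn⟩ (by omega) rfl
  have h1 := Submodule.span_mono (Set.image_mono (f := e) (t := {z : Fin n | (z : ℕ) ≤ k})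
    fun z (hz : z < (⟨x + 1, hxn⟩ : Fin n)) => by
      have : (z : ℕ) < x + 1 := hz
      show (z : ℕ) ≤ k
      omega) ha
  have h2 : a • e ⟨x + 1, hxn⟩ ∈ Submodule.span K (e '' {z : Fin n | (z : ℕ) ≤ k}) :=
    Submodule.smul_mem _ _ (Submodule.subset_span ⟨_, show ((x : ℕ) + 1) ≤ k by omega, rfl⟩)
  simpa using add_mem h2 h1

/-- Hessenberg is one block. -/
theorem Hess.hasForm [FiniteDimensional K V] {e : Basis (Fin n) K V} {N : ℕ} {μ : K} {y : V ≃ₗ[K] V}
    (h : Hess e N μ y) (hN : 1 ≤ N) (hNn : N ≤ n) : HasForm e [N] μ y := by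
  classical
  set e0 := e ⟨0, by omega⟩
  -- the orbit of the first node
  have horb : ∀ k (hk : k < N), ∃ a : K, a ≠ 0 ∧
      ((y : Module.End K V) ^ k) e0 - a • e ⟨k, by omega⟩ ∈ Submodule.span K (e '' {x | (x : ℕ) < k}) := by
    intro k
    induction k with
    | zero => intro _; exact ⟨1, one_ne_zero, by simp [e0]⟩
    | succ k ih =>
      intro hk
      obtain ⟨a, ha, hm⟩ := ih (by omega)
      obtain ⟨b, hb, hm'⟩ := h.1 ⟨k, by omega⟩ ⟨k + 1, by omega⟩ (by simp only; omega) rfl
      refine ⟨a * b, mul_ne_zero ha hb, ?_⟩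
      have h1 := Submodule.span_mono (Set.image_mono (f := e) (t := {z : Fin n | (z : ℕ) < k + 1})
        fun z (hz : (z : ℕ) ≤ k) => Nat.lt_succ_of_le hz) (h.step (by omega) hNn hm)
      have h2 : a • (y (e ⟨k, by omega⟩) - b • e ⟨k + 1, by omega⟩) ∈
          Submodule.span K (e '' {z : Fin n | (z : ℕ) < k + 1}) :=
        Submodule.smul_mem _ _ (Submodule.span_mono (Set.image_mono (f := e)
          fun z (hz : z < (⟨k + 1, by omega⟩ : Fin n)) => (show (z : ℕ) < k + 1 from hz)) hm')
      have := add_mem h1 h2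
      rw [pow_succ', Module.End.mul_apply, LinearEquiv.coe_coe]
      convert this using 1
      rw [map_sub, map_smul, smul_sub, smul_smul]
      abel
  let u : Fin n → V := fun k => if (k : ℕ) < N then ((y : Module.End K V) ^ (k : ℕ)) e0 else e k
  let L : Module.End K V := e.constr K u
  have hL : ∀ k, L (e k) = u k := fun k => e.constr_basis K u k
  have hu : ∀ k : Fin n, ∃ a : K, a ≠ 0 ∧ u k - a • e k ∈ Submodule.span K (e '' {x | x < k}) := by
    intro k
    by_cases hk : (k : ℕ) < N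
    · simp only [u, hk, if_true]
      exact horb k hk
    · simp only [u, hk, if_false]
      exact ⟨1, one_ne_zero, by simp⟩
  -- triangular, hence invertible
  have hLu : IsUnit L := by
    refine (LinearMap.isUnit_iff_isUnit_det L).2 (isUnit_iff_ne_zero.2 ?_)
    rw [← LinearMap.det_toMatrix e, Matrix.det_of_isUpperTriangular]
    · refine Finset.prod_ne_zero_iff.2 fun k _ => ?_
      obtain ⟨a, ha, hm⟩ := hu k
      rw [LinearMap.toMatrix_apply, hL]
      have h0 : e.repr (u k - a • e k) k = 0 := Finsupp.notMem_support_iff.1 fun hs =>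
        lt_irrefl k (e.mem_span_image.1 hm (Finset.mem_coe.2 hs))
      rw [map_sub, map_smul, e.repr_self] at h0
      simp [sub_eq_zero] at h0
      rwa [h0]
    · intro i j (hij : j < i)
      obtain ⟨a, -, hm⟩ := hu j
      rw [LinearMap.toMatrix_apply, hL]
      have h0 : e.repr (u j - a • e j) i = 0 := Finsupp.notMem_support_iff.1 fun hs =>
        lt_asymm hij (e.mem_span_image.1 hm (Finset.mem_coe.2 hs))
      rw [map_sub, map_smul, e.repr_self] at h0
      simpa [hij.ne'] using h0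
  let Le : V ≃ₗ[K] V := LinearEquiv.ofBijective L ((Module.End.isUnit_iff L).1 hLu)
  have hLe : ∀ k, Le (e k) = u k := hL
  set y' := Le⁻¹ * y * Le⁻¹⁻¹ with hy'
  have hy'a : ∀ v, y' v = Le.symm (y (Le v)) := fun v => rfl
  have hshift : ∀ k : ℕ, (hk : k + 1 < N) → y' (e ⟨k, by omega⟩) = e ⟨k + 1, by omega⟩ := fun k hk => by
    rw [hy'a, LinearEquiv.symm_apply_eq, hLe, hLe]
    simp only [u, if_pos (show k < N by omega), if_pos hk, pow_succ', Module.End.mul_apply,
      LinearEquiv.coe_coe]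
  set last : Fin n := ⟨N - 1, by omega⟩
  -- the first `N` nodes span a space invariant under the change of frame
  set W := Submodule.span K (e '' {x | (x : ℕ) < N}) with hW
  have hyW : ∀ v ∈ W, y v ∈ W := fun v hv => by
    refine map_mem_span e (y : V →ₗ[K] V) (fun x hx => ?_) hv
    have hx' : (x : ℕ) < N := hx
    rcases Nat.lt_or_ge ((x : ℕ) + 1) N with hx1 | hx1
    · refine Submodule.span_mono (Set.image_mono (f := e)
        fun z (hz : (z : ℕ) ≤ x + 1) => show (z : ℕ) < N by omega)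
        (h.step (k := x + 1) hx1 hNn (Submodule.subset_span ⟨x, Nat.lt_succ_self _, rfl⟩))
    · exact h.2.1 x (by omega)
  have hLW : ∀ v ∈ W, Le v ∈ W := fun v hv => by
    refine map_mem_span e (Le : V →ₗ[K] V) (fun x hx => ?_) hv
    show Le (e x) ∈ W
    rw [hLe]
    simp only [u, if_pos (show (x : ℕ) < N from hx)]
    have : ∀ i : ℕ, ((y : Module.End K V) ^ i) e0 ∈ W := by
      intro i
      induction i with
      | zero => exact Submodule.subset_span ⟨_, by show (0 : ℕ) < N; omega, rfl⟩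
      | succ i ih => rw [pow_succ', Module.End.mul_apply]; exact hyW _ ih
    exact this x
  have hLW' : ∀ v ∈ W, Le.symm v ∈ W := fun v hv => by
    have hinj : Function.Injective ((Le : V →ₗ[K] V).restrict hLW) := by
      intro a b hab
      exact Subtype.ext (Le.injective (congrArg Subtype.val hab :))
    obtain ⟨w, hw⟩ := LinearMap.injective_iff_surjective.1 hinj ⟨v, hv⟩
    have hw' : Le (w : V) = v := congrArg Subtype.val hw
    rw [← hw', LinearEquiv.symm_apply_apply]
    exact w.2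
  have hmem : y' (e last) ∈ W := by
    rw [hy'a]
    exact hLW' _ (hyW _ (hLW _ (Submodule.subset_span ⟨last, by show N - 1 < N; omega, rfl⟩)))
  set a := e.repr (y' (e last)) ⟨0, by omega⟩
  have hrest : y' (e last) - a • e ⟨0, by omega⟩ ∈
      Submodule.span K (e '' {x : Fin n | 0 < (x : ℕ) ∧ (x : ℕ) < N}) := by
    refine e.mem_span_image.2 fun x hx => ?_
    have hx' := Finsupp.mem_support_iff.1 (Finset.mem_coe.1 hx)
    rw [map_sub, map_smul, e.repr_self, Finsupp.sub_apply, Finsupp.smul_apply, Finsupp.single_apply] at hx'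
    by_cases h0 : (⟨0, by omega⟩ : Fin n) = x
    · subst h0; simp [a] at hx'
    · rw [if_neg h0, smul_zero, sub_zero] at hx'
      refine ⟨Nat.pos_of_ne_zero fun e0 => h0 (Fin.ext e0.symm), ?_⟩
      exact e.mem_span_image.1 hmem (Finset.mem_coe.2 (Finsupp.mem_support_iff.2 hx'))
  have ha : a ≠ 0 := by
    intro ha0
    rw [ha0, zero_smul, sub_zero] at hrest
    have hle : Submodule.span K (e '' {x : Fin n | 0 < (x : ℕ) ∧ (x : ℕ) < N}) ≤
        (Submodule.span K (e '' {x : Fin n | (x : ℕ) + 1 < N})).map (y' : V →ₗ[K] V) := by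
      refine Submodule.span_le.2 ?_
      rintro _ ⟨x, ⟨hx0, hxN⟩, rfl⟩
      refine ⟨e ⟨(x : ℕ) - 1, by omega⟩, Submodule.subset_span ⟨_, by show (x : ℕ) - 1 + 1 < N; omega, rfl⟩, ?_⟩
      show y' _ = _
      rw [hshift _ (by omega)]
      congr 1
      exact Fin.ext (by simp only; omega)
    obtain ⟨w, hw, hwe⟩ := hle hrest
    rw [LinearEquiv.coe_coe, y'.injective.eq_iff] at hwe
    subst hwe
    have := e.mem_span_image.1 hw (Finset.mem_coe.2 (Finsupp.mem_support_iff.2
      (show e.repr (e last) last ≠ 0 by simp)))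
    have : N - 1 + 1 < N := this
    omega
  refine ⟨Le⁻¹, [((List.range N).pmap (fun i hi => (⟨i, hi⟩ : Fin n))
    fun i hi => lt_of_lt_of_le (List.mem_range.1 hi) hNn)], by simp, ?_, ?_⟩
  · rw [List.flatten_singleton]
    exact List.nodup_range.pmap fun _ _ _ _ h => congrArg Fin.val h
  set cl := (List.range N).pmap (fun i hi => (⟨i, hi⟩ : Fin n))
    fun i hi => lt_of_lt_of_le (List.mem_range.1 hi) hNn with hc
  have hcl : cl.length = N := by simp [hc]
  have hcn : cl.Nodup := List.nodup_range.pmap fun _ _ _ _ h => congrArg Fin.val h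
  have hcget : ∀ i (hi : i < cl.length), cl[i] = ⟨i, by omega⟩ := fun i hi => by simp [hc]
  have hcm : ∀ v : Fin n, v ∈ cl ↔ (v : ℕ) < N := fun v => by
    simp only [hc, List.mem_pmap, List.mem_range]
    exact ⟨fun ⟨i, hi, h'⟩ => h' ▸ hi, fun hv => ⟨v, hv, rfl⟩⟩
  constructor
  · intro v hv
    rw [pure'_fst, List.flatten_singleton, hcm, not_lt] at hv
    show y' (e v) = _
    have hLv : Le (e v) = e v := by rw [hLe]; simp only [u, if_neg (not_lt.2 hv)]
    rw [hy'a, hLv, h.2.2 v hv, map_smul,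
      show Le.symm (e v) = e v from Le.injective (by rw [LinearEquiv.apply_symm_apply, hLv])]
  · intro p hp h0 t ht w hw
    simp only [pure', List.map_cons, List.map_nil, List.mem_singleton] at hp
    subst hp
    simp only at ht hw ⊢
    have hw' := (hcm w).1 hw
    have hh0 : h0 = (⟨0, by omega⟩ : Fin n) := by
      have h1 := List.getElem?_eq_getElem (l := cl) (i := 0) (by omega)
      rw [congrArg (fun l : List (Fin n) => l[0]?) ht, List.getElem?_cons_zero, hcget] at h1
      exact Option.some_injective _ h1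
    have hlastw : cl.formPerm w = if hw1 : (w : ℕ) + 1 < N then ⟨(w : ℕ) + 1, by omega⟩ else ⟨0, by omega⟩ := by
      have e1 : cl[(w : ℕ)]'(by omega) = w := by rw [hcget]
      conv_lhs => rw [← e1]
      rw [formPerm_apply_getElem cl hcn]
      split_ifs with hw1
      · rw [hcget]; exact Fin.ext (by simp only; rw [hcl, Nat.mod_eq_of_lt hw1])
      · rw [hcget]; exact Fin.ext (by simp only; rw [hcl, show (w : ℕ) + 1 = N by omega, Nat.mod_self])
    constructor
    · intro hne
      rw [hlastw] at hne ⊢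
      split_ifs at hne ⊢ with hw1
      · exact hshift w hw1
      · exact absurd hh0.symm hne
    · intro heq
      rw [hlastw] at heq
      split_ifs at heq with hw1
      · rw [hh0] at heq; simp at heq
      · have hwl : w = last := Fin.ext (by simp only [last]; omega)
        refine ⟨a, ha, ?_⟩
        rw [hh0, hwl]
        refine Submodule.span_mono (Set.image_mono ?_) hrest
        rintro x ⟨hx0, hxN⟩
        left
        have := (hcm x).2 hxN
        rw [ht, List.mem_cons] at this
        exact this.resolve_left fun e1 => by rw [e1, hh0] at hx0; simp at hx0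

/-- A full Hessenberg automorphism is cyclic. -/
theorem Hess.cyc [FiniteDimensional K V] {e : Basis (Fin n) K V} {μ : K} {y : V ≃ₗ[K] V}
    (h : Hess e n μ y) (hn : 1 ≤ n) :
    Cyc (y : Module.End K V) (LinearMap.charpoly (y : Module.End K V)) := by
  refine ⟨LinearMap.charpoly_monic _, LinearMap.charpoly_natDegree _, LinearMap.aeval_self_charpoly _,
    e.coord ⟨n - 1, by omega⟩, InvFree.of_submodule fun Z h1 h2 => (Submodule.eq_bot_iff _).2 ?_⟩
  have key : ∀ j : ℕ, j ≤ n → ∀ z ∈ Z, z ∈ Submodule.span K (e '' {x | (x : ℕ) < n - j}) := by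
    intro j
    induction j with
    | zero =>
      intro _ z _
      refine e.mem_span_image.2 fun x _ => ?_
      show (x : ℕ) < n - 0
      have := x.isLt
      omega
    | succ j ih =>
      intro hj z hz
      refine e.mem_span_image.2 fun x hx => ?_
      have hx' := Finsupp.mem_support_iff.1 (Finset.mem_coe.1 hx)
      have hlt : (x : ℕ) < n - j := e.mem_span_image.1 (ih (by omega) z hz) hx
      by_contra hcon
      have hxe : (x : ℕ) = n - j - 1 := by
        have : ¬ (x : ℕ) < n - (j + 1) := hcon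
        omega
      rcases Nat.eq_zero_or_pos j with hj0 | hj0
      · refine hx' ?_
        rw [show x = (⟨n - 1, by omega⟩ : Fin n) from Fin.ext (by simp only; omega)]
        exact h1 z hz
      · set x' : Fin n := ⟨(x : ℕ) + 1, by omega⟩ with hx'def
        obtain ⟨a, ha, hm⟩ := h.1 x x' (by omega) rfl
        have hyz : y z ∈ Z := h2 z hz
        have h3 : e.repr (y z) x' = 0 := Finsupp.notMem_support_iff.1 fun hs => by
          have : ((x' : Fin n) : ℕ) < n - j := e.mem_span_image.1 (ih (by omega) _ hyz) (Finset.mem_coe.2 hs)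
          simp only [hx'def] at this
          omega
        have hz' : z - e.repr z x • e x ∈ Submodule.span K (e '' {w : Fin n | (w : ℕ) < x}) := by
          refine e.mem_span_image.2 fun w hw => ?_
          have hw' := Finsupp.mem_support_iff.1 (Finset.mem_coe.1 hw)
          rw [map_sub, map_smul, e.repr_self, Finsupp.sub_apply, Finsupp.smul_apply,
            Finsupp.single_apply] at hw'
          by_cases hwx : x = w
          · subst hwx; simp at hw'
          · rw [if_neg hwx, smul_zero, sub_zero] at hw'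
            have : (w : ℕ) < n - j := e.mem_span_image.1 (ih (by omega) z hz)
              (Finset.mem_coe.2 (Finsupp.mem_support_iff.2 hw'))
            have hne : (w : ℕ) ≠ x := fun e1 => hwx (Fin.ext e1.symm)
            show (w : ℕ) < x
            omega
        have h4 : e.repr (y (z - e.repr z x • e x)) x' = 0 := Finsupp.notMem_support_iff.1 fun hs => by
          have : (x' : ℕ) ≤ (x : ℕ) := e.mem_span_image.1 (h.step (by omega) le_rfl hz') (Finset.mem_coe.2 hs)
          simp only [hx'def] at this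
          omega
        have h5 : e.repr (y (e x) - a • e x') x' = 0 := Finsupp.notMem_support_iff.1 fun hs =>
          lt_irrefl x' (e.mem_span_image.1 hm (Finset.mem_coe.2 hs))
        simp only [map_sub, map_smul, Finsupp.sub_apply, Finsupp.smul_apply, e.repr_self,
          Finsupp.single_eq_same, smul_eq_mul, mul_one] at h4 h5
        rw [h3, zero_sub, neg_eq_zero, sub_eq_zero.1 h5] at h4
        exact hx' ((mul_eq_zero.1 h4).resolve_right ha)
  intro z hz
  have := key n le_rfl z hz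
  simpa using this

end Cfsg.Agent.CoverNum
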