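import Mathlib
import Cfsg.Agent.CoverNum.Blocks
import Cfsg.Agent.CoverNum.Product

/-!
# Growth of one companion block in powers of a class
-/

namespace Cfsg.Agent.CoverNum

open Module Polynomial OreSL

universe u v

variable {K : Type u} [Field K] {V : Type v} [AddCommGroup V] [Module K V]

theorem two_le_of_mem_bigSizes {m : ℕ} {s : Fin m → ℕ} {d : ℕ} (h : d ∈ bigSizes s) : 2 ≤ d := by
  obtain ⟨i, hi, rfl⟩ := List.mem_map.1 h
  exact (Finset.mem_filter.1 (Finset.mem_toList.1 hi)).2

theorem exc_bigSizes {m : ℕ} {s : Fin m → ℕ} (hs : ∀ i, 1 ≤ s i) :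
    exc (bigSizes s) = ∑ i, (s i - 1) := by
  simp only [exc, bigSizes, List.map_map, Finset.sum_map_toList]
  refine Finset.sum_subset (Finset.subset_univ _) fun i _ hi => ?_
  simp only [Finset.mem_filter, Finset.mem_univ, true_and, not_le] at hi
  simp only [Function.comp_apply]
  have := hs i
  omega

theorem length_bigSizes {m : ℕ} {s : Fin m → ℕ} (hs : ∀ i, 1 ≤ s i) :
    (bigSizes s).length + ones s = m := by
  simp only [bigSizes, ones, List.length_map, Finset.length_toList]
  rw [show (Finset.univ.filter fun i => s i = 1) = Finset.univ.filter fun i => ¬2 ≤ s i from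
    Finset.filter_congr fun i _ => by have := hs i; omega]
  rw [Finset.card_filter_add_card_filter_not]
  simp

/-- The excess of the blocks is the codimension of their number. -/
theorem Blocks.exc_add {y : Module.End K V} [FiniteDimensional K V] {m : ℕ} {s : Fin m → ℕ}
    {c : ∀ i, Fin (s i) → K} (h : Blocks y s c) : exc (bigSizes s) + m = finrank K V := by
  rw [exc_bigSizes h.1, ← h.finrank_eq]
  conv_rhs => rw [show (∑ i, s i) = ∑ i, ((s i - 1) + 1) from
    Finset.sum_congr rfl fun i _ => (Nat.sub_add_cancel (h.1 i)).symm, Finset.sum_add_distrib]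
  simp

theorem evens_le_length (L : List ℕ) : evens L ≤ L.length := List.length_filter_le _ _

theorem evens_lt_of_odd {L : List ℕ} (h : Odd L.sum) : evens L < L.length := by
  refine lt_of_le_of_ne (evens_le_length L) fun e => ?_
  have hall : ∀ d ∈ L, Even d := fun d hd => by
    have := List.length_filter_eq_length_iff.1 e d hd
    simpa using this
  exact (Nat.not_even_iff_odd.2 h) (even_iff_two_dvd.2 (List.dvd_sum fun d hd => (hall d hd).two_dvd))

/-- A reducible block. -/
def Refinable {m : ℕ} {s : Fin m → ℕ} (c : ∀ i, Fin (s i) → K) : Prop :=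
  ∃ (i : Fin m) (g₁ g₂ : K[X]), 2 ≤ s i ∧ g₁.Monic ∧ g₂.Monic ∧ 1 ≤ g₁.natDegree ∧
    1 ≤ g₂.natDegree ∧ cpoly (c i) = g₁ * g₂

theorem refinable_of_root {m : ℕ} {s : Fin m → ℕ} (c : ∀ i, Fin (s i) → K) {i : Fin m}
    (hi : 2 ≤ s i) {a : K} (ha : (cpoly (c i)).eval a = 0) : Refinable c := by
  obtain ⟨q, hq⟩ := dvd_iff_isRoot.2 ha
  have hqm : q.Monic := (monic_X_sub_C a).of_mul_monic_left (hq ▸ cpoly_monic _)
  have hd : s i = 1 + q.natDegree := by
    have := congrArg natDegree hq
    rwa [cpoly_natDegree, (monic_X_sub_C a).natDegree_mul hqm, natDegree_X_sub_C] at this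
  exact ⟨i, q, X - C a, hi, hqm, monic_X_sub_C a, by omega, by rw [natDegree_X_sub_C],
    by rw [hq, mul_comm]⟩

variable [FiniteDimensional K V] {x : V ≃ₗ[K] V} {m : ℕ} {s : Fin m → ℕ}
  {c : ∀ i, Fin (s i) → K}

/-- The product of `x` and one block. -/
theorem exists_step (h : Blocks (x : Module.End K V) s c) (e : Basis (Fin (finrank K V)) K V) {μ ν : K}
    (hone : ∀ i (hi : s i = 1), c i ⟨0, by omega⟩ = μ) (hμ : μ ≠ 0) (hν : ν ≠ 0)
    {j : ℕ} {y : V ≃ₗ[K] V} (hy : InProd x j y) {LB : List ℕ} (hyf : HasForm e LB ν y)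
    (hLB : ∀ d ∈ LB, 1 ≤ d) (hB : LB.sum ≤ finrank K V) (hn : 1 ≤ finrank K V) :
    (exc (bigSizes s) + exc LB + 1 ≤ finrank K V →
      (bigSizes s).sum ≤ exc (bigSizes s) + exc LB + 1 → LB.sum ≤ exc (bigSizes s) + exc LB + 1 →
      evens LB ≤ exc LB →
      ∃ z, InProd x (1 + j) z ∧ Hess e (exc (bigSizes s) + exc LB + 1) (μ * ν) z) ∧
    (∀ k, exc (bigSizes s) + exc LB + 1 = finrank K V + 2 * k →
      exc (bigSizes s) + evens LB + 1 ≤ finrank K V →
      ∃ z, InProd x (1 + j) z ∧ Hess e (finrank K V) (μ * ν) z) ∧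
    (∀ k, exc (bigSizes s) + exc LB = finrank K V + 2 * k → Refinable c →
      exc (bigSizes s) + evens LB ≤ finrank K V →
      ∃ z, InProd x (1 + j) z ∧ Hess e (finrank K V) (μ * ν) z) := by
  have hA1 : ∀ d ∈ bigSizes s, 1 ≤ d := fun d hd => le_trans (by norm_num) (two_le_of_mem_bigSizes hd)
  have hx1 := InProd.self x
  have hsum : (bigSizes s).sum ≤ finrank K V := by
    rw [sum_eq_exc_add_length hA1, ← h.exc_add]
    have := length_bigSizes h.1
    omega
  have hform := h.hasForm e hone
  refine ⟨fun hle h1 h2 h3 => ?_, fun k hk hev => ?_, fun k hk hred hev => ?_⟩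
  · obtain ⟨P, Q, hP, hQ, hH⟩ := product_hess hform hyf hμ hν (by omega) hle
      (exists_arr 0 _ _ _ hA1 hLB (by omega) h1 h2 (by omega))
    exact ⟨_, (hx1.conj hP).mul (hy.conj hQ), hH⟩
  · obtain ⟨P, Q, hP, hQ, hH⟩ := product_hess hform hyf hμ hν hn le_rfl
      (exists_arr k _ _ _ hA1 hLB hk hsum hB hev)
    exact ⟨_, (hx1.conj hP).mul (hy.conj hQ), hH⟩
  · obtain ⟨i, g₁, g₂, hi, hm₁, hm₂, hd₁, hd₂, hg⟩ := hred
    obtain ⟨L, hperm, hpq, hf⟩ := h.hasForm₂ e hone hi hm₁ hm₂ hd₁ hd₂ hg
    have e1 := exc_perm hperm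
    have e2 := hperm.sum_eq
    rw [exc_cons] at e1
    rw [List.sum_cons] at e2
    have hL : ∀ d ∈ g₂.natDegree :: g₁.natDegree :: L, 1 ≤ d := fun d hd => by
      rcases List.mem_cons.1 hd with rfl | hd
      · exact hd₂
      rcases List.mem_cons.1 hd with rfl | hd
      · exact hd₁
      exact hA1 d (hperm.mem_iff.2 (List.mem_cons_of_mem _ hd))
    obtain ⟨P, Q, hP, hQ, hH⟩ := product_hess₂ hf hyf hμ hν hd₂ hn le_rfl
      (exists_arr k _ _ _ hL hLB (by simp only [exc_cons]; omega)
        (by simp only [List.sum_cons]; omega) hB (by simp only [exc_cons]; omega))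
    exact ⟨_, (hx1.conj hP).mul (hy.conj hQ), hH⟩

/-- Two factors. -/
theorem exists_square (h : Blocks (x : Module.End K V) s c) (e : Basis (Fin (finrank K V)) K V) {μ : K}
    (hone : ∀ i (hi : s i = 1), c i ⟨0, by omega⟩ = μ) (hμ : μ ≠ 0) (he : 1 ≤ exc (bigSizes s))
    (hpar : 2 * exc (bigSizes s) + 1 ≤ finrank K V ∨ Odd (finrank K V) ∨ Refinable c) :
    ∃ z, InProd x 2 z ∧ Hess e (min (finrank K V) (2 * exc (bigSizes s) + 1)) (μ ^ 2) z := by
  set E := exc (bigSizes s) with hE
  have hA1 : ∀ d ∈ bigSizes s, 1 ≤ d := fun d hd => le_trans (by norm_num) (two_le_of_mem_bigSizes hd)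
  have hsum := sum_eq_exc_add_length hA1
  have hlen := length_bigSizes h.1
  have hexc := h.exc_add
  have hl := length_le_exc (L := bigSizes s) fun d hd => two_le_of_mem_bigSizes hd
  have hev := evens_le_length (bigSizes s)
  rw [pow_two]
  obtain ⟨hA, hB, hC⟩ := exists_step h e hone hμ hμ (InProd.self x) (h.hasForm e hone) hA1
    (by omega) (by omega)
  rcases le_or_gt (2 * E + 1) (finrank K V) with hle | hgt
  · rw [min_eq_right hle, show 2 * E + 1 = E + E + 1 by omega]
    exact hA (by omega) (by omega) (by omega) (by omega)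
  · rw [min_eq_left hgt.le]
    rcases Nat.even_or_odd (finrank K V) with ⟨a, ha⟩ | ⟨a, ha⟩
    · have hred : Refinable c := by
        rcases hpar with h' | h' | h'
        · omega
        · exact absurd ⟨a, ha⟩ (Nat.not_even_iff_odd.2 h')
        · exact h'
      exact hC (E - a) (by omega) hred (by omega)
    · have : (bigSizes s).sum = (finrank K V) → evens (bigSizes s) < (bigSizes s).length := fun hs =>
        evens_lt_of_odd (hs ▸ ⟨a, ha⟩)
      exact hB (E - a) (by omega) (by omega)

/-- **Growth**: `j` factors reach a block of size `j e + 1`, as far as there is room. -/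
theorem exists_power (h : Blocks (x : Module.End K V) s c) (e : Basis (Fin (finrank K V)) K V) {μ : K}
    (hone : ∀ i (hi : s i = 1), c i ⟨0, by omega⟩ = μ) (hμ : μ ≠ 0) (he : 1 ≤ exc (bigSizes s))
    (hred : Refinable c) : ∀ j, 2 ≤ j → (j = 2 ∨ (j - 1) * exc (bigSizes s) + 1 < finrank K V) →
      ∃ z, InProd x j z ∧ Hess e (min (finrank K V) (j * exc (bigSizes s) + 1)) (μ ^ j) z := by
  intro j hj
  induction j, hj using Nat.le_induction with
  | base => exact fun _ => exists_square h e hone hμ he (.inr (.inr hred))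
  | succ j hj ih =>
    intro hlt
    set E := exc (bigSizes s) with hE
    replace hlt : j * E + 1 < (finrank K V) := by
      rcases hlt with h' | h'
      · omega
      · simpa using h'
    obtain ⟨y, hy, hH⟩ := ih (.inr (lt_of_le_of_lt
      (Nat.add_le_add_right (Nat.mul_le_mul_right E (Nat.sub_le j 1)) 1) hlt))
    rw [min_eq_right hlt.le] at hH
    set D := j * E + 1 with hD
    have h2E : 2 * E + 1 ≤ D := Nat.add_le_add_right (Nat.mul_le_mul_right E hj) 1
    have hl : (bigSizes s).sum ≤ 2 * E := by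
      rw [sum_eq_exc_add_length fun d hd => le_trans (by norm_num) (two_le_of_mem_bigSizes hd)]
      have := length_le_exc (L := bigSizes s) fun d hd => two_le_of_mem_bigSizes hd
      omega
    have hev : evens [D] ≤ 1 := evens_le_length [D]
    have hex : exc [D] = D - 1 := by simp [exc]
    have hsum : [D].sum = D := by simp
    obtain ⟨hA, hB, hC⟩ := exists_step h e hone hμ (pow_ne_zero j hμ) hy
      (hH.hasForm (by omega) hlt.le) (LB := [D]) (by simp [hD]) (by omega) (by omega)
    rw [Nat.add_comm 1 j] at hA hB hC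
    rw [pow_succ', Nat.succ_mul, show j * E + E + 1 = D + E by omega]
    rcases le_or_gt (D + E) (finrank K V) with hle | hgt
    · rw [min_eq_right hle, show D + E = E + exc [D] + 1 by omega]
      exact hA (by omega) (by omega) (by omega) (by omega)
    · rw [min_eq_left hgt.le]
      rcases Nat.even_or_odd (D + E - (finrank K V)) with ⟨a, ha⟩ | ⟨a, ha⟩
      · exact hB a (by omega) (by omega)
      · exact hC a (by omega) hred (by omega)

/-- A cyclic power. -/
theorem exists_cyc_power (h : Blocks (x : Module.End K V) s c) {μ : K}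
    (hone : ∀ i (hi : s i = 1), c i ⟨0, by omega⟩ = μ) (hμ : μ ≠ 0) (he : 1 ≤ exc (bigSizes s))
    (hred : Refinable c) {j : ℕ} (hj : 2 ≤ j)
    (hlt : j = 2 ∨ (j - 1) * exc (bigSizes s) + 1 < finrank K V)
    (hge : finrank K V ≤ j * exc (bigSizes s) + 1) :
    ∃ z : V ≃ₗ[K] V, InProd x j z ∧
      Cyc (z : Module.End K V) (LinearMap.charpoly (z : Module.End K V)) := by
  obtain ⟨z, hz, hH⟩ := exists_power h (Module.finBasis K V) hone hμ he hred j hj hlt
  rw [min_eq_left hge] at hH
  exact ⟨z, hz, hH.cyc (by have := h.exc_add; omega)⟩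

end Cfsg.Agent.CoverNum
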