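import Mathlib
import Cfsg.Agent.CoverNum.Tools

/-!
# When the centraliser of `x` has every determinant
-/

namespace Cfsg.Agent.CoverNum

open Polynomial Module OreSL

universe u v

variable {K : Type u} [Field K] {V : Type v} [AddCommGroup V] [Module K V]

/-- Then products of conjugates of `x` are invariant under every automorphism. -/
theorem InProd.conj_x {x y : V ≃ₗ[K] V} {k : ℕ} (hx : Closed x) (h : InProd x k y) (Q : V ≃ₗ[K] V) :
    InProd x k (Q * y * Q⁻¹) := by
  obtain ⟨P, -, rfl⟩ := h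
  choose R hR hRx using fun i => hx (LinearEquiv.det (Q * P i))⁻¹
  refine ⟨fun i => Q * P i * R i, fun i => by rw [map_mul, hR, mul_inv_cancel], ?_⟩
  rw [← MulAut.conj_apply, map_list_prod, List.map_ofFn]
  congr 2
  funext i
  show Q * P i * R i * x * (Q * P i * R i)⁻¹ = Q * (P i * x * (P i)⁻¹) * Q⁻¹
  rw [mul_assoc (Q * P i) (R i) x, hRx]
  group

/-- Conjugates of `x` under all automorphisms. -/
theorem InProd.single_x {x : V ≃ₗ[K] V} (hx : Closed x) (Q : V ≃ₗ[K] V) :
    InProd x 1 (Q * x * Q⁻¹) :=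
  (InProd.self x).conj_x hx Q

theorem InProd.of_conj {x y Q : V ≃ₗ[K] V} {k : ℕ} (hx : Closed x) (h : InProd x k (Q * y * Q⁻¹)) :
    InProd x k y := by
  simpa [mul_assoc] using h.conj_x hx Q⁻¹

theorem InProd.ofFn {x : V ≃ₗ[K] V} {k : ℕ} {f : Fin k → (V ≃ₗ[K] V)}
    (h : ∀ i, InProd x 1 (f i)) : InProd x k (List.ofFn f).prod := by
  induction k with
  | zero => simpa using InProd.zero x
  | succ k ih =>
    have := (h 0).mul (ih (f := fun i => f i.succ) fun i => h _)
    rw [add_comm 1 k] at this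
    simpa [List.ofFn_succ] using this

variable [FiniteDimensional K V]

/-- A cyclic product gives all rooted classes one step later. -/
theorem rooted_mem_x {x h b : V ≃ₗ[K] V} {k : ℕ} {f : K[X]} {s : K} (hx : LinearEquiv.det x = 1)
    (hxn : NonScalar x) (hcl : Closed x) (hh : InProd x k h) (hc : Cyc (h : Module.End K V) f)
    (hdb : LinearEquiv.det b = 1) (hb : RootedAt b s) : InProd x (1 + k) b := by
  obtain ⟨ρ, H⟩ := exists_factor hxn hc hx (hh.det hx)
  obtain ⟨P, Q, hPQ, -⟩ := H b s hdb hb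
  exact InProd.of_conj hcl (hPQ ▸ (InProd.self x).mul (hh.conj_x hcl P))

/-- A rooted and a cyclic product give every non-scalar automorphism. -/
theorem nonScalar_mem_x {x b c g : V ≃ₗ[K] V} {j k : ℕ} {f : K[X]} {s : K}
    (hx : LinearEquiv.det x = 1) (hcl : Closed x) (hb : InProd x j b) (hbr : RootedAt b s)
    (hc : InProd x k c) (hcc : Cyc (c : Module.End K V) f)
    (hg : LinearEquiv.det g = 1) (hgn : NonScalar g) : InProd x (j + k) g := by
  obtain ⟨ρ, H⟩ := exists_factor hgn hcc.inv hg (by rw [map_inv, hc.det hx, inv_one])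
  obtain ⟨P, Q, hPQ, -⟩ := H b s (hb.det hx) hbr
  rw [show g = Q * b * Q⁻¹ * (P * c * P⁻¹) by rw [← hPQ]; group]
  exact (hb.conj_x hcl Q).mul (hc.conj_x hcl P)

/-- A cyclic product of `k` reaches every non-scalar automorphism in `2k + 1`. -/
theorem cover_closed [Fintype K] (hq : 4 ≤ Fintype.card K) (hn : 3 ≤ finrank K V)
    {x h g : V ≃ₗ[K] V} {k : ℕ} {f : K[X]} (hx : LinearEquiv.det x = 1) (hxn : NonScalar x)
    (hcl : Closed x) (hh : InProd x k h) (hc : Cyc (h : Module.End K V) f)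
    (hg : LinearEquiv.det g = 1) (hgn : NonScalar g) : InProd x (2 * k + 1) g := by
  classical
  obtain ⟨b, hdb, hb⟩ := exists_rootedAt (V := V) hn {(1 : K)} one_ne_zero
    (Finset.mem_singleton_self 1) (by simp) (by rw [Finset.card_singleton]; omega)
  have := nonScalar_mem_x hx hcl (rooted_mem_x hx hxn hcl hh hc hdb hb) hb hh hc hg hgn
  rwa [show 1 + k + k = 2 * k + 1 by omega] at this

/-- Covering: the non-scalar automorphisms of determinant one in `j` steps, and, unless there is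
room left, a scalar in exactly `n` steps. -/
def Covers (x : V ≃ₗ[K] V) : Prop :=
  ∃ j ≤ finrank K V, (∀ g, LinearEquiv.det g = 1 → NonScalar g → InProd x j g) ∧
    (j < finrank K V ∨ ∃ z : Kˣ, InProd x (finrank K V) (scal z))

omit [FiniteDimensional K V] in
theorem scal_one : scal (V := V) (1 : Kˣ) = 1 := LinearEquiv.ext fun v => by simp [scal_apply]

theorem Covers.of_closed [Fintype K] (hq : 4 ≤ Fintype.card K) (hn : 3 ≤ finrank K V)
    {x h : V ≃ₗ[K] V} {k : ℕ} {f : K[X]} (hx : LinearEquiv.det x = 1) (hxn : NonScalar x)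
    (hcl : Closed x) (hh : InProd x k h) (hc : Cyc (h : Module.End K V) f)
    (hk : 2 * k + 1 ≤ finrank K V) : Covers x :=
  ⟨_, hk, fun _ hg hgn => cover_closed hq hn hx hxn hcl hh hc hg hgn,
    .inr ⟨1, scal_one (K := K) (V := V) ▸ one_mem hx hxn (by omega) (.inr hcl)⟩⟩

theorem Covers.of_cyc [Fintype K] (hq : 4 ≤ Fintype.card K) (hn : 4 ≤ finrank K V)
    {x h : V ≃ₗ[K] V} {k : ℕ} {f : K[X]} (hx : LinearEquiv.det x = 1) (hxn : NonScalar x)
    (hh : InProd x k h) (hc : Cyc (h : Module.End K V) f)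
    (hk : 2 * k + 2 ≤ finrank K V) : Covers x := by
  refine ⟨_, hk, fun g hg hgn => cover_of_cyc hq hn hx hxn hh hc hg (.inl hgn), ?_⟩
  rcases hk.lt_or_eq with h' | h'
  · exact .inl h'
  · exact .inr ⟨1, by rw [scal_one, ← h']; exact cover_of_cyc hq hn hx hxn hh hc (map_one _) (.inr rfl)⟩

end Cfsg.Agent.CoverNum
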