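import Mathlib
import Cfsg.Agent.CoverNum.Blocks
import Cfsg.Agent.CoverNum.Closed
import Cfsg.Agent.CoverNum.Layout

/-!
# Small blocks: three dimensions, and products inside blocks of size two
-/

namespace Cfsg.Agent.CoverNum

open Module Polynomial OreSL

universe u v

variable {K : Type u} [Field K] {V : Type v} [AddCommGroup V] [Module K V] [FiniteDimensional K V]

/-- Adjusting a conjugator by a scalar. -/
theorem InProd.single_scal {x P : V ≃ₗ[K] V} {c : Kˣ}
    (h : (LinearEquiv.det P : K) = (c : K) ^ finrank K V) : InProd x 1 (P * x * P⁻¹) := by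
  have e : P * x * P⁻¹ = P * scal c⁻¹ * x * (P * scal c⁻¹)⁻¹ := by
    rw [mul_inv_rev, mul_assoc P (scal c⁻¹) x, scal_comm]; group
  rw [e]
  refine InProd.single (Units.ext ?_)
  rw [map_mul, Units.val_mul, h, det_scal, Units.val_one, ← mul_pow, ← Units.val_mul,
    mul_inv_cancel, Units.val_one, one_pow]

/-- **Dimension three, cyclic**: three factors. -/
theorem covers_cyc_three [Fintype K] (hq : 4 ≤ Fintype.card K) (h3 : finrank K V = 3)
    {x : V ≃ₗ[K] V} {f : K[X]} (hx : LinearEquiv.det x = 1) (hxn : NonScalar x)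
    (hc : Cyc (x : Module.End K V) f) : Covers x := by
  classical
  refine ⟨3, h3.ge, fun g hg hgn => ?_, .inr ⟨1, scal_one (K := K) (V := V) ▸
    one_mem hx hxn (by omega) (.inl (by rw [h3]; decide))⟩⟩
  obtain ⟨ρ, H⟩ := mem_succ hx hxn (InProd.self x) hc
  obtain ⟨ρ', H'⟩ := exists_factor hgn hc.inv hg (by rw [map_inv, hx, inv_one])
  obtain ⟨b, r, r', u, v, hdb, hbr, hbr', hr, hr'⟩ :
      ∃ (b : V ≃ₗ[K] V) (r r' : K) (u v : Kˣ), LinearEquiv.det b = 1 ∧ RootedAt b r ∧ RootedAt b r' ∧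
        r = (ρ : K) * (u : K) ^ 3 ∧ r' = (ρ' : K) * (v : K) ^ 3 := by
    by_cases hcube : ∃ v : Kˣ, ρ = ρ' * v ^ 3
    · obtain ⟨v, hv⟩ := hcube
      obtain ⟨b, hdb, hb⟩ := exists_rootedAt (V := V) h3.ge {(ρ : K)} ρ.ne_zero
        (Finset.mem_singleton_self _) (by simpa using ρ.ne_zero.symm)
        (by rw [Finset.card_singleton]; omega)
      exact ⟨b, ρ, ρ, 1, v, hdb, hb, hb, by simp, by rw [hv]; simp⟩
    -- otherwise three different roots
    have h12 : ρ ≠ ρ' := fun e => hcube ⟨1, by simp [e]⟩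
    set σ := (ρ * ρ')⁻¹ with hσ
    have h13 : ρ ≠ σ := fun e => hcube ⟨ρ, by
      have : ρ * (ρ * ρ') = 1 := mul_eq_one_iff_eq_inv.2 (e.trans hσ)
      calc ρ = ρ * (ρ * (ρ * ρ')) := by rw [this, mul_one]
        _ = ρ' * ρ ^ 3 := by rw [pow_succ, pow_succ, pow_one]; ac_rfl⟩
    have h23 : ρ' ≠ σ := fun e => hcube ⟨ρ'⁻¹, by
      have : ρ' * (ρ * ρ') = 1 := mul_eq_one_iff_eq_inv.2 (e.trans hσ)
      calc ρ = (ρ' * ρ'⁻¹) * (ρ' * ρ'⁻¹) * ρ := by simp
        _ = (ρ' * (ρ * ρ')) * (ρ'⁻¹ * ρ'⁻¹) := by ac_rfl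
        _ = (ρ' * ρ'⁻¹) * (ρ'⁻¹ * ρ'⁻¹) := by rw [this, mul_inv_cancel]
        _ = ρ' * ρ'⁻¹ ^ 3 := by rw [pow_succ, pow_succ, pow_one]; ac_rfl⟩
    have hf : ((X - C (ρ : K)) * (X - C (ρ' : K)) * (X - C (σ : K))).Monic :=
      ((monic_X_sub_C _).mul (monic_X_sub_C _)).mul (monic_X_sub_C _)
    have h0 : ((X - C (ρ : K)) * (X - C (ρ' : K)) * (X - C (σ : K))).coeff 0 = -1 := by
      simp only [mul_coeff_zero, coeff_sub, coeff_X_zero, coeff_C_zero, zero_sub]
      have h1 : (ρ : K) * (ρ' : K) * (σ : K) = 1 := by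
        rw [hσ, ← Units.val_mul, ← Units.val_mul, mul_inv_cancel, Units.val_one]
      linear_combination -h1
    obtain ⟨b, hbc, hbd⟩ := exists_cyc (V := V) hf (by
      rw [((monic_X_sub_C _).mul (monic_X_sub_C _)).natDegree_mul (monic_X_sub_C _),
        (monic_X_sub_C _).natDegree_mul (monic_X_sub_C _), natDegree_X_sub_C, natDegree_X_sub_C,
        natDegree_X_sub_C, h3]) (by rw [h0]; simp)
    have ne : ∀ {a b : Kˣ}, a ≠ b → (a : K) - (b : K) ≠ 0 := fun h =>
      sub_ne_zero.2 fun e => h (Units.ext e)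
    refine ⟨b, ρ, ρ', 1, 1, Units.ext ?_, ⟨(X - C (ρ' : K)) * (X - C (σ : K)), ?_, ?_⟩,
      ⟨(X - C (ρ : K)) * (X - C (σ : K)), ?_, ?_⟩, by simp, by simp⟩
    · rw [LinearEquiv.coe_det, hbd, h0, h3, Units.val_one]; ring
    · simp only [eval_mul, eval_sub, eval_X, eval_C]
      exact mul_ne_zero (ne h12) (ne h13)
    · convert hbc using 1; ring
    · simp only [eval_mul, eval_sub, eval_X, eval_C]
      exact mul_ne_zero (ne h12.symm) (ne h23)
    · convert hbc using 1; ring
  have hb2 : InProd x 2 b := H u b hdb (by rw [h3, ← hr]; exact hbr)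
  obtain ⟨P, Q, hPQ, hP⟩ := H' b r' hdb hbr'
  have hx3 : InProd x 1 (P * x * P⁻¹) := InProd.single_scal (c := ρ' * v ^ 2) (by
    rw [hP, h3, hr', Units.val_mul, Units.val_pow_eq_pow_val]
    ring)
  rw [show g = Q * b * Q⁻¹ * (P * x * P⁻¹) by rw [← hPQ]; group]
  exact (hb2.conj_closed hbr.closed).mul hx3

/-- Values of an anisotropic binary form. -/
theorem exists_form [Fintype K] {τ δ : K} (hD : 4 * δ - τ ^ 2 ≠ 0) (r : K) :
    ∃ p q : K, p ^ 2 + τ * p * q + δ * q ^ 2 = r := by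
  by_cases h2 : (2 : K) = 0
  · obtain ⟨p, hp⟩ := FiniteField.isSquare_of_char_two
      (CharP.ringChar_of_prime_eq_zero Nat.prime_two (by exact_mod_cast h2)) r
    exact ⟨p, 0, by rw [hp]; ring⟩
  · have h4 : (4 : K) ≠ 0 := by
      intro e; exact mul_ne_zero h2 h2 (by linear_combination e)
    obtain ⟨p, q, h⟩ := FiniteField.exists_root_sum_quadratic (f := X ^ 2 - C r)
      (g := C (δ - τ ^ 2 / 4) * X ^ 2) (degree_X_pow_sub_C two_pos r)
      (degree_C_mul_X_pow 2 (by
        intro e; apply hD; field_simp at e; linear_combination e))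
      (FiniteField.odd_card_of_char_ne_two fun e => h2 (by
        have := ringChar.Nat.cast_ringChar (R := K)
        rw [e] at this
        exact_mod_cast this))
    simp at h
    refine ⟨p - τ * q / 2, q, ?_⟩
    field_simp at h ⊢
    linear_combination h

/-- The trace of a product of two conjugate matrices of size two. -/
def trVal (τ δ u w : K) : K := -δ * w + (u * (τ - u) - δ) / w + τ * (τ - u)

/-- Every trace occurs. -/
theorem exists_trace [Fintype K] (hq : 4 ≤ Fintype.card K) {τ δ : K} (hδ : δ ≠ 0)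
    (hD : 4 * δ - τ ^ 2 ≠ 0) (T : K) : ∃ u w : K, w ≠ 0 ∧ trVal τ δ u w = T := by
  classical
  suffices h : ∃ u w : K, w ≠ 0 ∧ δ * w ^ 2 + (τ * u + T - τ ^ 2) * w + u ^ 2 - τ * u + δ = 0 by
    obtain ⟨u, w, hw, h⟩ := h
    refine ⟨u, w, hw, ?_⟩
    rw [trVal]
    field_simp
    linear_combination -h
  by_cases hroot : ∃ a : K, a ^ 2 - τ * a + δ = 0
  · obtain ⟨a, ha⟩ := hroot
    by_cases h1 : τ * a + T - τ ^ 2 ≠ 0
    · refine ⟨a, -(τ * a + T - τ ^ 2) / δ, div_ne_zero (neg_ne_zero.2 h1) hδ, ?_⟩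
      field_simp
      linear_combination δ * ha
    by_cases h2 : τ * (τ - a) + T - τ ^ 2 ≠ 0
    · refine ⟨τ - a, -(τ * (τ - a) + T - τ ^ 2) / δ, div_ne_zero (neg_ne_zero.2 h2) hδ, ?_⟩
      field_simp
      linear_combination δ * ha
    push Not at h1 h2
    have hτ : τ * (2 * a - τ) = 0 := by linear_combination h1 - h2
    have hab : 2 * a - τ ≠ 0 := fun e => hD (by linear_combination 4 * ha - e * (2 * a - τ))
    have hτ0 : τ = 0 := (mul_eq_zero.1 hτ).resolve_right hab
    subst hτ0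
    have h2a : (2 : K) ≠ 0 := fun e => hab (by linear_combination a * e)
    have hT : T = 0 := by linear_combination h1
    obtain ⟨t, -, ht⟩ := Finset.exists_mem_notMem_of_card_lt_card (s := ({0, 1, -1} : Finset K))
      (t := Finset.univ) (Finset.card_le_three.trans_lt (by rw [Finset.card_univ]; omega))
    simp only [Finset.mem_insert, Finset.mem_singleton, not_or] at ht
    refine ⟨a * (t + t⁻¹) / 2, (t - t⁻¹) / 2, div_ne_zero (fun e => ?_) h2a, ?_⟩
    · have h0 := ht.1
      field_simp at e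
      rcases mul_eq_zero.1 (show (t - 1) * (t + 1) = 0 by linear_combination e) with e' | e'
      · exact ht.2.1 (sub_eq_zero.1 e')
      · exact ht.2.2 (eq_neg_of_add_eq_zero_left e')
    · subst hT
      rw [show δ = -a ^ 2 by linear_combination ha]
      have h0 := ht.1
      field_simp
      ring
  · push Not at hroot
    set β := T - τ ^ 2
    set D := 4 * δ - τ ^ 2
    set u₀ := (2 * τ * δ + τ * β) / D
    set w₀ := (-2 * β - τ ^ 2) / D
    obtain ⟨p, q, hpq⟩ := exists_form hD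
      (-(δ * w₀ ^ 2 + (τ * u₀ + β) * w₀ + u₀ ^ 2 - τ * u₀ + δ))
    have e1 : 2 * u₀ + τ * w₀ - τ = 0 := by
      simp only [u₀, w₀]; field_simp; simp only [D]; ring
    have e2 : τ * u₀ + 2 * δ * w₀ + β = 0 := by
      simp only [u₀, w₀]; field_simp; simp only [D]; ring
    have key : δ * (w₀ + q) ^ 2 + (τ * (u₀ + p) + T - τ ^ 2) * (w₀ + q) + (u₀ + p) ^ 2 -
        τ * (u₀ + p) + δ = 0 := by
      simp only [β] at hpq e2 ⊢
      linear_combination hpq + p * e1 + q * e2
    refine ⟨u₀ + p, w₀ + q, fun e => hroot (u₀ + p) ?_, key⟩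
    rw [e] at key
    linear_combination key

theorem comp_two (c : Fin 2 → K) (z : Fin 2 → K) :
    comp c z = ![c 0 * z 1, z 0 + c 1 * z 1] := by
  funext j
  fin_cases j <;> simp [comp_apply, ext_of_lt]

theorem cpoly_two (c : Fin 2 → K) : cpoly c = X ^ 2 - C (c 1) * X - C (c 0) := by
  simp [cpoly, Fin.sum_univ_two]
  ring

/-- The product inside a block of size two. -/
theorem trace_block (c : Fin 2 → K) (hc : c 0 ≠ 0) {u w : K} (hw : w ≠ 0) :
    ∃ R : (Fin 2 → K) ≃ₗ[K] (Fin 2 → K), (LinearEquiv.det R : K) = w ∧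
      (u = c 1 → w = -1 → ∀ z, (comp c * R.conj (comp c)) z = (-c 0) • z) ∧
      ((trVal (c 1) (-c 0) u w ^ 2 ≠ 4 * c 0 ^ 2 ∨ u ≠ c 1) →
        Cyc (comp c * R.conj (comp c))
          (X ^ 2 - C (trVal (c 1) (-c 0) u w) * X + C (c 0 ^ 2))) := by
  let R : (Fin 2 → K) ≃ₗ[K] (Fin 2 → K) :=
    { toFun := fun z => ![z 0 + u * z 1, w * z 1]
      invFun := fun z => ![z 0 - u / w * z 1, z 1 / w]
      map_add' := fun a b => by funext j; fin_cases j <;> simp <;> ring
      map_smul' := fun a b => by funext j; fin_cases j <;> simp <;> ring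
      left_inv := fun z => by funext j; fin_cases j <;> simp [hw] <;> field_simp <;> ring
      right_inv := fun z => by funext j; fin_cases j <;> simp [hw] <;> field_simp <;> ring }
  set τ := c 1 with hτ
  set v := (u * (τ - u) + c 0) / w with hv
  set A := comp c * R.conj (comp c) with hAdef
  have hA : ∀ z, A z = ![c 0 * (w * z 0 + (τ - u) * z 1),
      (u + τ * w) * z 0 + (v + τ * (τ - u)) * z 1] := fun z => by
    rw [hAdef, Module.End.mul_apply, LinearEquiv.conj_apply]
    simp only [LinearMap.comp_apply, LinearEquiv.coe_coe, comp_two]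
    funext j
    fin_cases j <;> simp [R, hv, hτ] <;> field_simp <;> ring_nf <;> simp
  refine ⟨R, ?_, ?_, fun hcond => ?_⟩
  · rw [LinearEquiv.coe_det, ← LinearMap.det_toMatrix (Pi.basisFun K (Fin 2)), Matrix.det_fin_two]
    simp [R, LinearMap.toMatrix_apply]
  · intro hu hw' z
    rw [hA]
    funext j
    subst hw'
    fin_cases j <;> simp [hv, hu] <;> ring_nf <;> simp
  set T := trVal τ (-c 0) u w with hT
  have hTA : T = c 0 * w + (v + τ * (τ - u)) := by rw [hT, trVal, hv]; ring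
  have hm : (X ^ 2 - C T * X + C (c 0 ^ 2)).Monic := by monicity!
  have hd : (X ^ 2 - C T * X + C (c 0 ^ 2)).natDegree = finrank K (Fin 2 → K) := by
    rw [Module.finrank_fin_fun]; compute_degree!
  have hAA : aeval A (X ^ 2 - C T * X + C (c 0 ^ 2)) = 0 := by
    refine LinearMap.ext fun z => ?_
    simp only [map_add, map_sub, map_mul, map_pow, aeval_X, aeval_C, LinearMap.add_apply,
      LinearMap.sub_apply, Module.End.mul_apply, Module.algebraMap_end_apply, pow_two,
      LinearMap.zero_apply]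
    funext j
    fin_cases j <;> simp [hA, hTA, hv] <;> field_simp <;> ring
  refine ⟨hm, hd, hAA, ?_⟩
  have h2 : ∀ μ : Dual K (Fin 2 → K), (∀ z, μ z = 0 → μ (A z) = 0 → z = 0) →
      ∃ μ, InvFree A μ := fun μ h => ⟨μ, fun z hz => h z (by simpa using hz 0) (by simpa using hz 1)⟩
  by_cases h01 : τ - u ≠ 0
  · refine h2 (LinearMap.proj 0) fun z h0 h1 => ?_
    simp only [LinearMap.proj_apply, hA, Matrix.cons_val_zero] at h0 h1
    rw [h0, mul_zero, zero_add] at h1
    funext j
    fin_cases j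
    · exact h0
    · exact (mul_eq_zero.1 ((mul_eq_zero.1 h1).resolve_left hc)).resolve_left h01
  by_cases h10 : u + τ * w ≠ 0
  · refine h2 (LinearMap.proj 1) fun z h0 h1 => ?_
    simp only [LinearMap.proj_apply, hA, Matrix.cons_val_one, Matrix.cons_val_zero] at h0 h1
    rw [h0, mul_zero, add_zero] at h1
    funext j
    fin_cases j
    · exact (mul_eq_zero.1 h1).resolve_left h10
    · exact h0
  push Not at h01 h10
  have hu : u = τ := (sub_eq_zero.1 h01).symm
  have hne : c 0 * w - (v + τ * (τ - u)) ≠ 0 := by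
    intro e
    refine (hcond.resolve_right (not_not.2 hu)) ?_
    have h3 : v + τ * (τ - u) = c 0 * w := (sub_eq_zero.1 e).symm
    have h4 : v * w = c 0 := by rw [hv, h01]; field_simp; ring
    rw [hTA]
    linear_combination (v + τ * (τ - u) + 3 * c 0 * w) * h3 + 4 * c 0 * h4 -
      4 * c 0 * w * (h3 - τ * h01)
  refine h2 (LinearMap.proj (R := K) (φ := fun _ : Fin 2 => K) 0 + LinearMap.proj 1) fun z h0 h1 => ?_
  simp only [LinearMap.add_apply, LinearMap.proj_apply, hA, Matrix.cons_val_one,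
    Matrix.cons_val_zero, h01, h10, zero_mul, add_zero, zero_add] at h0 h1
  have hz : z 1 = -z 0 := eq_neg_of_add_eq_zero_right h0
  have hz0 : z 0 = 0 := by
    have : (c 0 * w - (v + τ * (τ - u))) * z 0 = 0 := by
      rw [hz] at h1
      simp only [h01, mul_zero, add_zero] at h1 ⊢
      linear_combination h1
    exact (mul_eq_zero.1 this).resolve_left hne
  funext j
  fin_cases j
  · exact hz0
  · simpa [hz0] using hz

end Cfsg.Agent.CoverNum
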