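import Mathlib
import Cfsg.Agent.CoverNum.Small
import Cfsg.Agent.CoverNum.Grow

/-!
# All blocks non-trivial: four and six dimensions, and equal irreducible blocks
-/

namespace Cfsg.Agent.CoverNum

open Module Polynomial OreSL

universe u v

variable {K : Type u} [Field K] {V : Type v} [AddCommGroup V] [Module K V] [FiniteDimensional K V]
  {x : V ≃ₗ[K] V} {m : ℕ} {s : Fin m → ℕ} {c : ∀ i, Fin (s i) → K}

/-- The inside of a product of `x` with a block conjugate. -/
theorem inProd_product (hcl : Closed x) (Q : V ≃ₗ[K] V) : InProd x 2 (x * (Q * x * Q⁻¹)) :=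
  (InProd.self x).mul (InProd.single_x hcl Q)

theorem quad_coprime {T T' d : K} (hd : d ≠ 0) (hne : T ≠ T') :
    IsCoprime (X ^ 2 - C T * X + C d) (X ^ 2 - C T' * X + C d) := by
  refine ⟨C (-((d * (T' - T))⁻¹)) * (X - C T') , C ((d * (T' - T))⁻¹) * (X - C T), ?_⟩
  have h : C ((d * (T' - T))⁻¹) * (C d * (C T' - C T)) = 1 := by
    rw [← map_sub, ← map_mul, ← map_mul, inv_mul_cancel₀ (mul_ne_zero hd (sub_ne_zero.2 hne.symm)), map_one]
  rw [map_neg]
  linear_combination h

/-- Every block product at the scalar. -/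
theorem Blocks.exists_scalar_product (h : Blocks (x : Module.End K V) s c)
    (R : ∀ i, (Fin (s i) → K) ≃ₗ[K] (Fin (s i) → K)) (a : Kˣ)
    (hR : ∀ i z, (comp (c i) * (R i).conj (comp (c i))) z = (a : K) • z) :
    ∃ Q : V ≃ₗ[K] V, LinearEquiv.det Q = ∏ i, LinearEquiv.det (R i) ∧
      x * (Q * x * Q⁻¹) = scal a := by
  obtain ⟨hs, E, hE⟩ := h
  let Q : V ≃ₗ[K] V := E.symm.trans ((LinearEquiv.piCongrRight R).trans E)
  refine ⟨Q, Units.ext ?_, LinearEquiv.ext fun v => ?_⟩
  · rw [LinearEquiv.coe_det, show (Q : Module.End K V) = (E : _ →ₗ[K] V) ∘ₗ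
      (LinearMap.pi fun i => (R i : Module.End K (Fin (s i) → K)) ∘ₗ LinearMap.proj i) ∘ₗ
        (E.symm : V →ₗ[K] _) from rfl, LinearMap.det_conj, det_blocks, Units.coe_prod]
    simp only [LinearEquiv.coe_det]
  · obtain ⟨z, rfl⟩ := E.surjective v
    have hy : ∀ w, x (E w) = E (dsum s c w) := hE
    show x (Q (x (Q.symm (E z)))) = (a : K) • E z
    simp only [Q, LinearEquiv.trans_apply, LinearEquiv.trans_symm, LinearEquiv.symm_symm,
      LinearEquiv.symm_apply_apply, hy, ← map_smul]
    congr 1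
    funext i
    simp only [LinearEquiv.piCongrRight_symm, LinearEquiv.piCongrRight_apply, dsum_apply, Pi.smul_apply]
    rw [← hR i (z i), Module.End.mul_apply, LinearEquiv.conj_apply]
    rfl

/-- **Two equal blocks of size two.** -/
theorem covers_two_two [Fintype K] (hq : 4 ≤ Fintype.card K) {c : ∀ _i : Fin 2, Fin 2 → K}
    (hx : LinearEquiv.det x = 1) (hxn : NonScalar x)
    (h : Blocks (x : Module.End K V) (fun _ : Fin 2 => 2) c) (heq : c 0 = c 1) : Covers x := by
  classical
  have hn : finrank K V = 4 := by rw [← h.finrank_eq]; rfl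
  have hc0 : c 0 0 ≠ 0 := h.coeff_ne_zero 0 (by norm_num)
  have hcs : ∀ i : Fin 2, c i = c 0 := fun i => by fin_cases i <;> simp [heq]
  set τ := c 0 1 with hτ
  set δ := -c 0 0 with hδ
  have hδ0 : δ ≠ 0 := neg_ne_zero.2 hc0
  have hd2 : c 0 0 ^ 2 = δ ^ 2 := by rw [hδ]; ring
  -- from rooted blocks to the covering
  have finish : ∀ (Q : V ≃ₗ[K] V) (c' : ∀ _i : Fin 2, Fin 2 → K) (T₁ T₂ r : K), r ≠ 0 →
      T₁ = r + δ ^ 2 / r → r * r ≠ δ ^ 2 → T₂ ≠ T₁ → InProd x 2 (x * (Q * x * Q⁻¹)) →
      Blocks ((x * (Q * x * Q⁻¹) : V ≃ₗ[K] V) : Module.End K V) (fun _ : Fin 2 => 2) c' →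
      cpoly (c' 0) = X ^ 2 - C T₁ * X + C (δ ^ 2) → cpoly (c' 1) = X ^ 2 - C T₂ * X + C (δ ^ 2) →
      ∀ g, LinearEquiv.det g = 1 → NonScalar g → InProd x 4 g := by
    intro Q c' T₁ T₂ r hr hT₁ hrr hT₂ hmem hb h₀ h₁ g hg hgn
    have hco := quad_coprime (pow_ne_zero 2 hδ0) hT₂.symm
    have hcyc := hb.cyc fun i j hij => by
      fin_cases i <;> fin_cases j <;> simp_all [isCoprime_comm]
    rw [Fin.prod_univ_two, h₀, h₁] at hcyc
    have hsplit : X ^ 2 - C T₁ * X + C (δ ^ 2) = (X - C (δ ^ 2 / r)) * (X - C r) := by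
      have e : C (δ ^ 2) = C (δ ^ 2 / r) * C r := by rw [← map_mul, div_mul_cancel₀ _ hr]
      rw [hT₁, map_add, e]; ring
    have hroot : RootedAt (x * (Q * x * Q⁻¹)) r := by
      refine ⟨(X - C (δ ^ 2 / r)) * (X ^ 2 - C T₂ * X + C (δ ^ 2)), ?_, ?_⟩
      · simp only [eval_mul, eval_sub, eval_add, eval_pow, eval_X, eval_C]
        refine mul_ne_zero (sub_ne_zero.2 fun e => hrr ?_) fun e => hT₂ ?_
        · field_simp at e; linear_combination e
        · rw [hT₁]; field_simp at e ⊢; linear_combination -e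
      · rw [hsplit] at hcyc
        convert hcyc using 1
        ring
    exact nonScalar_mem hx hmem hroot hmem hcyc hroot.closed hg hgn
  by_cases hD : 4 * δ - τ ^ 2 ≠ 0
  · -- distinct roots
    have hcl : Closed x := by
      by_cases hirr : Irreducible (cpoly (c 0))
      · exact h.closed_of_irreducible hirr
      · rw [(cpoly_monic (c 0)).irreducible_iff_roots_eq_zero_of_degree_le_three
          (by rw [cpoly_natDegree]) (by rw [cpoly_natDegree]; norm_num)] at hirr
        obtain ⟨a, ha⟩ := Multiset.exists_mem_of_ne_zero hirr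
        rw [mem_roots (cpoly_monic _).ne_zero, IsRoot.def, cpoly_two] at ha
        simp only [eval_sub, eval_pow, eval_X, eval_mul, eval_C] at ha
        refine h.closed_of_root (i := 0) (g := X - C (τ - a)) (a := a) ?_ ?_
        · rw [cpoly_two]
          have e : C (c 0 0) = C a * C a - C τ * C a := by
            rw [← map_mul, ← map_mul, ← map_sub]; congr 1; rw [hτ]; linear_combination -ha
          rw [e, map_sub]; ring
        · simp only [eval_sub, eval_X, eval_C]
          refine fun e => hD ?_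
          rw [hδ]; linear_combination (2 * a - τ) * e * (-1) + 4 * ha
    have hone := one_mem hx hxn (by omega) (.inr hcl)
    refine ⟨4, hn.ge, ?_, .inr ⟨1, by rw [scal_one]; exact hone⟩⟩
    obtain ⟨r, -, hr⟩ := Finset.exists_mem_notMem_of_card_lt_card (s := ({0, δ, -δ} : Finset K))
      (t := Finset.univ) (Finset.card_le_three.trans_lt (by rw [Finset.card_univ]; omega))
    simp only [Finset.mem_insert, Finset.mem_singleton, not_or] at hr
    set T₁ := r + δ ^ 2 / r with hT₁
    obtain ⟨T₂, -, hT₂⟩ := Finset.exists_mem_notMem_of_card_lt_card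
      (s := ({T₁, 2 * δ, -(2 * δ)} : Finset K))
      (t := Finset.univ) (Finset.card_le_three.trans_lt (by rw [Finset.card_univ]; omega))
    simp only [Finset.mem_insert, Finset.mem_singleton, not_or] at hT₂
    have hrr : r * r ≠ δ ^ 2 := fun e => by
      rcases mul_eq_zero.1 (show (r - δ) * (r + δ) = 0 by linear_combination e) with e' | e'
      · exact hr.2.1 (sub_eq_zero.1 e')
      · exact hr.2.2 (eq_neg_of_add_eq_zero_left e')
    obtain ⟨u₁, w₁, hw₁, ht₁⟩ := exists_trace hq hδ0 hD T₁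
    obtain ⟨u₂, w₂, hw₂, ht₂⟩ := exists_trace hq hδ0 hD T₂
    obtain ⟨R₁, -, -, hR₁⟩ := trace_block (c 0) hc0 (u := u₁) hw₁
    obtain ⟨R₂, -, -, hR₂⟩ := trace_block (c 0) hc0 (u := u₂) hw₂
    rw [ht₁, hd2] at hR₁
    rw [ht₂, hd2] at hR₂
    replace hR₁ := hR₁ (.inl fun e => hrr (by
      have h0 := hr.1
      rw [hT₁] at e; field_simp at e
      have : (r * r - δ ^ 2) ^ 2 = 0 := by linear_combination e
      exact sub_eq_zero.1 (pow_eq_zero_iff (by norm_num) |>.1 this)))
    replace hR₂ := hR₂ (.inl fun e => by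
      rcases mul_eq_zero.1 (show (T₂ - 2 * δ) * (T₂ + 2 * δ) = 0 by linear_combination e) with e' | e'
      · exact hT₂.2.1 (sub_eq_zero.1 e')
      · exact hT₂.2.2 (eq_neg_of_add_eq_zero_left e'))
    obtain ⟨Q, c', -, hb, hcp⟩ := h.exists_product ![R₁, R₂]
      ![X ^ 2 - C T₁ * X + C (δ ^ 2), X ^ 2 - C T₂ * X + C (δ ^ 2)] fun i => by
        fin_cases i
        · simpa using hR₁
        · simpa [← heq] using hR₂
    exact finish Q c' T₁ T₂ r hr.1 hT₁ hrr hT₂.1 (inProd_product hcl Q) hb (by simpa using hcp 0)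
      (by simpa using hcp 1)
  · -- a double root
    push Not at hD
    obtain ⟨a, hτa, hδa⟩ : ∃ a, τ = 2 * a ∧ δ = a ^ 2 := by
      by_cases h2 : (2 : K) = 0
      · obtain ⟨a, ha⟩ := FiniteField.isSquare_of_char_two
          (CharP.ringChar_of_prime_eq_zero Nat.prime_two (by exact_mod_cast h2)) δ
        refine ⟨a, ?_, by rw [ha]; ring⟩
        rw [h2, zero_mul]
        exact (pow_eq_zero_iff (n := 2) (by norm_num)).1 (by linear_combination (2 * δ) * h2 - hD)
      · refine ⟨τ / 2, by field_simp, ?_⟩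
        field_simp
        linear_combination hD
    have ha : a ≠ 0 := fun e => hδ0 (by rw [hδa, e]; ring)
    obtain ⟨r, -, hr⟩ := Finset.exists_mem_notMem_of_card_lt_card (s := ({0, 1, -1} : Finset K))
      (t := Finset.univ) (Finset.card_le_three.trans_lt (by rw [Finset.card_univ]; omega))
    simp only [Finset.mem_insert, Finset.mem_singleton, not_or] at hr
    set w₁ := 2 - r - r⁻¹ with hw₁def
    have hw₁ : w₁ ≠ 0 := fun e => hr.2.1 (by
      have h0 := hr.1
      rw [hw₁def] at e; field_simp at e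
      exact sub_eq_zero.1 (pow_eq_zero_iff (n := 2) (by norm_num) |>.1 (by linear_combination -e)))
    set w₂ := r ^ 2 * w₁ with hw₂def
    have hw₂ : w₂ ≠ 0 := mul_ne_zero (pow_ne_zero 2 hr.1) hw₁
    have hne : w₂ ≠ w₁ := fun e => by
      rcases mul_eq_zero.1 (show (r - 1) * (r + 1) = 0 from mul_right_cancel₀ hw₁
        (by rw [hw₂def] at e; linear_combination e)) with e' | e'
      · exact hr.2.1 (sub_eq_zero.1 e')
      · exact hr.2.2 (eq_neg_of_add_eq_zero_left e')
    have hT : ∀ w : K, w ≠ 0 → trVal τ δ a w = δ * (2 - w) := fun w hw => by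
      rw [trVal, hτa, hδa]; field_simp; ring
    have hcond : a ≠ τ := fun e => ha (by rw [hτa] at e; linear_combination -e)
    obtain ⟨R₁, hd₁, -, hR₁⟩ := trace_block (c 0) hc0 (u := a) hw₁
    obtain ⟨R₂, hd₂, -, hR₂⟩ := trace_block (c 0) hc0 (u := a) hw₂
    replace hR₁ := hR₁ (.inr hcond)
    replace hR₂ := hR₂ (.inr hcond)
    rw [hT w₁ hw₁, hd2] at hR₁
    rw [hT w₂ hw₂, hd2] at hR₂
    obtain ⟨Q, c', hdQ, hb, hcp⟩ := h.exists_product ![R₁, R₂]
      ![X ^ 2 - C (δ * (2 - w₁)) * X + C (δ ^ 2), X ^ 2 - C (δ * (2 - w₂)) * X + C (δ ^ 2)] fun i => by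
        fin_cases i
        · simpa using hR₁
        · simpa [← heq] using hR₂
    obtain ⟨S, hS, hSx⟩ := h.exists_scale 0 (Units.mk0 (r * w₁) (mul_ne_zero hr.1 hw₁))⁻¹
    have hmem : InProd x 2 (x * (Q * x * Q⁻¹)) := by
      have e : Q * x * Q⁻¹ = Q * S * x * (Q * S)⁻¹ := by
        rw [mul_inv_rev, mul_assoc Q S x, hSx]; group
      rw [e]
      refine (InProd.self x).mul (InProd.single (Units.ext ?_))
      rw [map_mul, hS, hdQ, Fin.prod_univ_two]
      simp only [Matrix.cons_val_zero, Matrix.cons_val_one, Units.val_mul, Units.val_pow_eq_pow_val,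
        Units.val_inv_eq_inv_val, Units.val_mk0, Units.val_one, hd₁, hd₂]
      rw [hw₂def]
      have h0 := hr.1
      field_simp
    have hrest := finish Q c' (δ * (2 - w₁)) (δ * (2 - w₂)) (δ * r) (mul_ne_zero hδ0 hr.1)
      (by rw [hw₁def]; have h0 := hr.1; field_simp; ring)
      (fun e => by
        rcases mul_eq_zero.1 (show (r - 1) * (r + 1) = 0 from mul_left_cancel₀ (pow_ne_zero 2 hδ0)
          (by linear_combination e)) with e' | e'
        · exact hr.2.1 (sub_eq_zero.1 e')
        · exact hr.2.2 (eq_neg_of_add_eq_zero_left e'))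
      (fun e => hne (by linear_combination -1 * mul_left_cancel₀ hδ0 e))
      hmem hb (by simpa using hcp 0) (by simpa using hcp 1)
    -- a scalar in four steps
    obtain ⟨R₃, hd₃, hR₃, -⟩ := trace_block (c 0) hc0 (u := c 0 1) (neg_ne_zero.2 (one_ne_zero (α := K)))
    obtain ⟨Q', hdQ', hQ'⟩ := h.exists_scalar_product (fun _ => R₃) (Units.mk0 δ hδ0) fun i z => by
      rw [hcs i]; exact hR₃ rfl rfl z
    refine ⟨4, hn.ge, hrest, .inr ⟨Units.mk0 δ hδ0 * Units.mk0 δ hδ0, ?_⟩⟩
    have h2 : InProd x 2 (scal (V := V) (Units.mk0 δ hδ0)) := by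
      rw [← hQ']
      refine (InProd.self x).mul (InProd.single (Units.ext ?_))
      rw [hdQ', Fin.prod_univ_two, Units.val_mul, hd₃, Units.val_one, neg_mul_neg, one_mul]
    rw [hn, show scal (V := V) (Units.mk0 δ hδ0 * Units.mk0 δ hδ0) =
      scal (Units.mk0 δ hδ0) * scal (Units.mk0 δ hδ0) from
        LinearEquiv.ext fun v => mul_smul (δ : K) δ v]
    exact h2.mul h2

/-- **Three blocks of size two without roots.** -/
theorem covers_two_three_times [Fintype K] (hq : 4 ≤ Fintype.card K) {c : ∀ _i : Fin 3, Fin 2 → K}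
    (hx : LinearEquiv.det x = 1) (hxn : NonScalar x)
    (h : Blocks (x : Module.End K V) (fun _ : Fin 3 => 2) c) (heq : ∀ i, c i = c 0)
    (hirr : Irreducible (cpoly (c 0))) : Covers x := by
  classical
  have hn : finrank K V = 6 := by rw [← h.finrank_eq]; rfl
  have hcl := h.closed_of_irreducible hirr
  have hc0 : c 0 0 ≠ 0 := h.coeff_ne_zero 0 (by norm_num)
  set δ := -c 0 0 with hδ
  set τ := c 0 1 with hτ
  have hδ0 : δ ≠ 0 := neg_ne_zero.2 hc0
  have hD : 4 * δ - τ ^ 2 ≠ 0 := by
    intro e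
    rw [(cpoly_monic (c 0)).irreducible_iff_roots_eq_zero_of_degree_le_three
      (by rw [cpoly_natDegree]) (by rw [cpoly_natDegree]; norm_num)] at hirr
    obtain ⟨a, ha⟩ : ∃ a, a ^ 2 - τ * a + δ = 0 := by
      by_cases h2 : (2 : K) = 0
      · obtain ⟨a, ha⟩ := FiniteField.isSquare_of_char_two
          (CharP.ringChar_of_prime_eq_zero Nat.prime_two (by exact_mod_cast h2)) δ
        have hτ0 : τ = 0 := pow_eq_zero_iff (n := 2) (by norm_num) |>.1
          (by linear_combination (2 * δ) * h2 - e)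
        exact ⟨a, by rw [hτ0, ha]; linear_combination (a * a) * h2⟩
      · refine ⟨τ / 2, ?_⟩
        field_simp
        linear_combination e
    have : a ∈ (cpoly (c 0)).roots := by
      rw [mem_roots (cpoly_monic _).ne_zero, IsRoot.def, cpoly_two]
      simp only [eval_sub, eval_pow, eval_X, eval_mul, eval_C]
      linear_combination ha + hδ
    rw [hirr] at this
    exact Multiset.notMem_zero _ this
  obtain ⟨T, hT, hTd⟩ : ∃ T : Fin 3 → K, Function.Injective T ∧ ∀ i, T i ^ 2 ≠ 4 * c 0 0 ^ 2 := by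
    have hcard : 3 ≤ (Finset.univ \ ({2 * δ, -(2 * δ)} : Finset K)).card := by
      rw [Finset.card_univ_diff]
      by_cases h2 : (2 : K) = 0
      · simp only [h2, zero_mul, neg_zero, Finset.pair_eq_singleton, Finset.card_singleton]
        omega
      · have := FiniteField.odd_card_of_char_ne_two (F := K) fun e => h2 (by
          have := ringChar.Nat.cast_ringChar (R := K)
          rw [e] at this
          exact_mod_cast this)
        have := Finset.card_le_two (a := 2 * δ) (b := -(2 * δ))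
        omega
    obtain ⟨S, hS, hS3⟩ := Finset.exists_subset_card_eq hcard
    refine ⟨fun i => (S.equivFinOfCardEq hS3).symm i,
      fun i j e => (S.equivFinOfCardEq hS3).symm.injective (Subtype.ext e), fun i e => ?_⟩
    have hmem := Finset.mem_sdiff.1 (hS ((S.equivFinOfCardEq hS3).symm i).2)
    simp only [Finset.mem_insert, Finset.mem_singleton, not_or] at hmem
    set t : K := ((S.equivFinOfCardEq hS3).symm i : K)
    rcases mul_eq_zero.1 (show (t - 2 * δ) * (t + 2 * δ) = 0 by rw [hδ]; linear_combination e) with e' | e'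
    · exact hmem.2.1 (sub_eq_zero.1 e')
    · exact hmem.2.2 (eq_neg_of_add_eq_zero_left e')
  choose u w hw ht using fun i => exists_trace hq hδ0 hD (T i)
  choose R hR₀ hR₁ hR using fun i => trace_block (c 0) hc0 (u := u i) (hw i)
  obtain ⟨Q, c', -, hb, hcp⟩ := h.exists_product R (fun i => X ^ 2 - C (T i) * X + C (c 0 0 ^ 2))
    fun i => by
      have := hR i (.inl (by rw [ht i]; exact hTd i))
      rw [ht i] at this
      rw [heq i]; exact this
  have hcyc := hb.cyc fun i j hij => by
    show IsCoprime (cpoly (c' i)) (cpoly (c' j))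
    rw [hcp, hcp]
    exact quad_coprime (pow_ne_zero 2 hc0) fun e => hij (hT e)
  exact Covers.of_closed hq (by omega) hx hxn hcl (inProd_product hcl Q) hcyc (by omega)

/-- A rooted product inside one block. -/
theorem rooted_block {d : ℕ} (hd : 2 ≤ d) (c : Fin d → K) (T : (Fin d → K) ≃ₗ[K] (Fin d → K))
    (hT : ∀ z, T z = comp c z) {h : K[X]} {s : K} (hm : h.Monic) (hdeg : h.natDegree + 1 = d)
    (hs : h.eval s ≠ 0)
    (hdet : LinearMap.det (comp c) ^ 2 = (-1) ^ h.natDegree * h.coeff 0 * s) :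
    ∃ R : (Fin d → K) ≃ₗ[K] (Fin d → K), Cyc (comp c * R.conj (comp c)) (h * (X - C s)) := by
  have e : (T : Module.End K (Fin d → K)) = comp c := LinearMap.ext hT
  have hd0 : LinearMap.det (comp c) ≠ 0 := e ▸ (LinearEquiv.isUnit_det' T).ne_zero
  have hns : ∀ a : K, comp c ≠ a • LinearMap.id := fun a ha => by
    have := congrFun (LinearMap.congr_fun ha (Pi.single ⟨0, by omega⟩ 1)) ⟨1, by omega⟩
    rw [comp_single, dif_pos (show 0 + 1 < d by omega)] at this
    simp at this
  obtain ⟨ρ, -, H⟩ := tool_of_nonScalar hd0 hns (comp c) _ (cyc_comp (by omega) c) hd0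
  obtain ⟨R, -, -, hR⟩ := H h s hm (by rw [Module.finrank_fin_fun, hdeg]) (by rw [← pow_two, hdet])
  exact ⟨R, hR hs⟩

theorem det_comp {d : ℕ} (hd : 1 ≤ d) (c : Fin d → K) :
    LinearMap.det (comp c) = (-1) ^ d * (cpoly c).coeff 0 := by
  obtain ⟨hm, hdeg, hA, μ, hμ⟩ := cyc_comp hd c
  rw [hμ.det_eq hm hdeg hA, Module.finrank_fin_fun]

/-- **Two blocks of size three without roots.** -/
theorem covers_three_three [Fintype K] (hq : 4 ≤ Fintype.card K) {c : ∀ _i : Fin 2, Fin 3 → K}
    (hx : LinearEquiv.det x = 1) (hxn : NonScalar x)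
    (h : Blocks (x : Module.End K V) (fun _ : Fin 2 => 3) c) (heq : ∀ i, c i = c 0)
    (hirr : Irreducible (cpoly (c 0))) : Covers x := by
  classical
  have hn : finrank K V = 6 := by rw [← h.finrank_eq]; rfl
  have hcl := h.closed_of_irreducible hirr
  obtain ⟨T, hT⟩ := h.exists_compEquiv 0
  set D := LinearMap.det (comp (c 0)) with hDdef
  have hD : D ≠ 0 := by
    rw [hDdef, ← show (T : Module.End K (Fin 3 → K)) = comp (c 0) from LinearMap.ext hT]
    exact (LinearEquiv.isUnit_det' T).ne_zero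
  have key : ∀ s : K, s ≠ 0 → ∃ (p : K[X]) (R : (Fin 3 → K) ≃ₗ[K] (Fin 3 → K)),
      Irreducible p ∧ p.Monic ∧ p.natDegree = 2 ∧ p.coeff 0 = D ^ 2 / s ∧
        Cyc (comp (c 0) * R.conj (comp (c 0))) (p * (X - C s)) := by
    intro s hs
    obtain ⟨a, -, ha⟩ := Finset.exists_mem_notMem_of_card_lt_card
      (s := (Finset.univ.erase (0 : K)).image fun r => -(r + D ^ 2 / s / r)) (t := Finset.univ)
      (Finset.card_image_le.trans_lt (Finset.card_erase_lt_of_mem (Finset.mem_univ _)))
    set p : K[X] := X ^ 2 + C a * X + C (D ^ 2 / s) with hp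
    have hpm : p.Monic := by rw [hp]; monicity!
    have hpd : p.natDegree = 2 := by rw [hp]; compute_degree!
    have hp0 : p.coeff 0 = D ^ 2 / s := by simp [hp]
    have hroot : ∀ r, p.eval r ≠ 0 := fun r hr => by
      simp only [hp, eval_add, eval_pow, eval_X, eval_mul, eval_C] at hr
      rcases eq_or_ne r 0 with rfl | hr0
      · simp [hD, hs] at hr
      · refine ha (Finset.mem_image.2 ⟨r, Finset.mem_erase.2 ⟨hr0, Finset.mem_univ _⟩, ?_⟩)
        field_simp at hr ⊢
        linear_combination -hr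
    obtain ⟨R, hR⟩ := rooted_block (by norm_num) (c 0) T hT hpm (by omega) (hroot s) (by
      rw [hpd, hp0, ← hDdef]; field_simp)
    refine ⟨p, R, ?_, hpm, hpd, hp0, hR⟩
    rw [hpm.irreducible_iff_roots_eq_zero_of_degree_le_three (by omega) (by omega),
      Multiset.eq_zero_iff_forall_notMem]
    exact fun r hr => hroot r ((mem_roots hpm.ne_zero).1 hr)
  obtain ⟨s, -, hs⟩ := Finset.exists_mem_notMem_of_card_lt_card (s := ({0, 1} : Finset K))
    (t := Finset.univ) (Finset.card_le_two.trans_lt (by rw [Finset.card_univ]; omega))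
  simp only [Finset.mem_insert, Finset.mem_singleton, not_or] at hs
  obtain ⟨p, R, hpi, hpm, hpd, hp0, hR⟩ := key 1 one_ne_zero
  obtain ⟨p', R', hpi', hpm', hpd', hp0', hR'⟩ := key s hs.1
  obtain ⟨Q, c', -, hb, hcp⟩ := h.exists_product ![R, R'] ![p * (X - C 1), p' * (X - C s)] fun i => by
    fin_cases i
    · simpa using hR
    · simpa [heq 1] using hR'
  have hne : ∀ {q q' : K[X]}, Irreducible q → q.Monic → q'.Monic → q.natDegree = q'.natDegree →
      q ≠ q' → IsCoprime q q' := fun {q q'} hi hm hm' hd hne =>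
    hi.coprime_iff_not_dvd.2 fun hdvd => hne (eq_of_monic_of_dvd_of_natDegree_le hm hm' hdvd hd.ge).symm
  have hlin : ∀ {q : K[X]} (r : K), Irreducible q → q.natDegree = 2 → IsCoprime q (X - C r) :=
    fun {q} r hi hd => hi.coprime_iff_not_dvd.2 fun hdvd => by
      have := natDegree_le_of_dvd hdvd (X_sub_C_ne_zero r)
      rw [natDegree_X_sub_C] at this; omega
  have hco : IsCoprime (p * (X - C 1)) (p' * (X - C s)) :=
    IsCoprime.mul_left
      (IsCoprime.mul_right (hne hpi hpm hpm' (hpd.trans hpd'.symm) fun e => by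
        rw [e, hp0', div_one, div_eq_iff hs.1] at hp0
        exact hs.2 (mul_left_cancel₀ (pow_ne_zero 2 hD) (by linear_combination -hp0))) (hlin s hpi hpd))
      (IsCoprime.mul_right (hlin 1 hpi' hpd').symm
        (Polynomial.isCoprime_X_sub_C_of_isUnit_sub (sub_ne_zero.2 (Ne.symm hs.2)).isUnit))
  have hcyc := hb.cyc fun i j hij => by
    show IsCoprime (cpoly (c' i)) (cpoly (c' j))
    rw [hcp, hcp]
    fin_cases i <;> fin_cases j
    · exact absurd rfl hij
    · simpa using hco
    · simpa using hco.symm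
    · exact absurd rfl hij
  exact Covers.of_closed hq (by omega) hx hxn hcl (inProd_product hcl Q) hcyc (by omega)

/-- **Irreducible blocks in many dimensions**: one rooted product, then a cycle. -/
theorem covers_irreducible_large [Fintype K] (hq : 4 ≤ Fintype.card K) (hx : LinearEquiv.det x = 1)
    (hxn : NonScalar x) (h : Blocks (x : Module.End K V) s c) (hs : ∀ i, 2 ≤ s i)
    (hirr : ∀ i, Irreducible (cpoly (c i))) (hev : Even (finrank K V)) (h8 : 8 ≤ finrank K V) :
    Covers x := by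
  classical
  set n := finrank K V with hn
  have hm : 0 < m := Nat.pos_of_ne_zero fun e => by
    subst e
    have := h.finrank_eq
    simp at this
    omega
  have hcl := h.closed_of_irreducible (hirr ⟨0, hm⟩)
  have key : ∀ i, ∃ (R : (Fin (s i) → K) ≃ₗ[K] (Fin (s i) → K)) (p : K[X]) (r : K), p.Monic ∧
      1 ≤ p.natDegree ∧ Cyc (comp (c i) * R.conj (comp (c i))) (p * (X - C r)) := by
    intro i
    obtain ⟨T, hT⟩ := h.exists_compEquiv i
    set D := LinearMap.det (comp (c i)) with hDdef
    have hD : D ≠ 0 := by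
      rw [hDdef, ← show (T : Module.End K (Fin (s i) → K)) = comp (c i) from LinearMap.ext hT]
      exact (LinearEquiv.isUnit_det' T).ne_zero
    rcases (hs i).lt_or_eq with h3 | h2
    · obtain ⟨p, hpm, hpd, hp0, hp⟩ := exists_poly_avoid (d := s i - 1) (by omega)
        ((-1) ^ (s i - 1) * D ^ 2) {(1 : K)} (by simp) (by rw [Finset.card_singleton]; omega)
      obtain ⟨R, hR⟩ := rooted_block (hs i) (c i) T hT hpm (by omega) (hp 1 (Finset.mem_singleton_self _))
        (by rw [hpd, hp0, ← hDdef, ← mul_assoc, ← mul_pow]; simp)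
      exact ⟨R, p, 1, hpm, by omega, hR⟩
    · obtain ⟨r, -, hr⟩ := Finset.exists_mem_notMem_of_card_lt_card (s := ({0, D, -D} : Finset K))
        (t := Finset.univ) (Finset.card_le_three.trans_lt (by rw [Finset.card_univ]; omega))
      simp only [Finset.mem_insert, Finset.mem_singleton, not_or] at hr
      obtain ⟨R, hR⟩ := rooted_block (hs i) (c i) T hT (monic_X_sub_C (D ^ 2 / r)) (s := r)
        (by rw [natDegree_X_sub_C]; omega) (by
          simp only [eval_sub, eval_X, eval_C]
          refine sub_ne_zero.2 fun e => ?_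
          have h0 := hr.1
          field_simp at e
          rcases mul_eq_zero.1 (show (r - D) * (r + D) = 0 by linear_combination e) with e' | e'
          · exact hr.2.1 (sub_eq_zero.1 e')
          · exact hr.2.2 (eq_neg_of_add_eq_zero_left e'))
        (by
          have h0 := hr.1
          simp [← hDdef]
          field_simp)
      exact ⟨R, X - C (D ^ 2 / r), r, monic_X_sub_C _, by rw [natDegree_X_sub_C], hR⟩
  choose R p r hpm hpd hR using key
  obtain ⟨Q, c', -, hb, hcp⟩ := h.exists_product R _ hR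
  have hy := inProd_product hcl Q
  have hone : ∀ i (hi : s i = 1), c i ⟨0, by omega⟩ = (1 : K) := fun i hi => by have := hs i; omega
  have hone' : ∀ i (hi : s i = 1), c' i ⟨0, by omega⟩ = (1 : K) := fun i hi => by have := hs i; omega
  let e := Module.finBasis K V
  obtain ⟨L, hperm, hpq, hf⟩ := hb.hasForm₂ e hone' (hs ⟨0, hm⟩) (hpm _) (monic_X_sub_C _) (hpd _)
    (by rw [natDegree_X_sub_C]) (hcp ⟨0, hm⟩)
  have hA1 : ∀ d ∈ bigSizes s, 1 ≤ d := fun d hd => le_trans (by norm_num) (two_le_of_mem_bigSizes hd)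
  have hones : ones s = 0 := Finset.card_eq_zero.2 (Finset.filter_eq_empty_iff.2 fun i _ => by
    have := hs i; omega)
  have hexc := h.exc_add
  have hlen := length_bigSizes h.1
  have hsum := sum_eq_exc_add_length hA1
  have hle := length_le_exc (L := bigSizes s) fun d hd => two_le_of_mem_bigSizes hd
  have hevs := evens_le_length (bigSizes s)
  have e1 := exc_perm hperm
  have e2 := hperm.sum_eq
  rw [exc_cons] at e1
  rw [List.sum_cons] at e2
  have hL : ∀ d ∈ (X - C (r ⟨0, hm⟩)).natDegree :: (p ⟨0, hm⟩).natDegree :: L, 1 ≤ d := fun d hd => by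
    rcases List.mem_cons.1 hd with rfl | hd
    · rw [natDegree_X_sub_C]
    rcases List.mem_cons.1 hd with rfl | hd
    · exact hpd _
    exact hA1 d (hperm.mem_iff.2 (List.mem_cons_of_mem _ hd))
  obtain ⟨a, ha⟩ := hev
  have hp1 := hpd ⟨0, hm⟩
  obtain ⟨P, S, hP, hS, hH⟩ := product_hess₂ hf (h.hasForm e hone) one_ne_zero one_ne_zero
    (by rw [natDegree_X_sub_C]) (by omega) le_rfl
    (exists_arr (exc (bigSizes s) - a) n _ _ hL hA1
      (by simp only [exc_cons, natDegree_X_sub_C] at hpq ⊢; omega)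
      (by simp only [List.sum_cons]; omega) (by omega)
      (by simp only [exc_cons, natDegree_X_sub_C] at hpq ⊢; omega))
  exact Covers.of_closed hq (by omega) hx hxn hcl ((hy.conj hP).mul ((InProd.self x).conj hS))
    (hH.cyc (by omega)) (by omega)

end Cfsg.Agent.CoverNum
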