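import Mathlib
import Cfsg.Agent.CoverNum.Closed

/-!
# Products of `n` pseudo-reflections with a common determinant
-/

namespace Cfsg.Agent.CoverNum

open Module

universe u v

variable {K : Type u} [Field K] {V : Type v} [AddCommGroup V] [Module K V]

/-- The product of the rank one perturbations of a list. -/
def prodR : List (V × Dual K V) → Module.End K V
  | [] => 1
  | p :: L => LinearMap.transvection p.2 p.1 * prodR L

/-- The span reached by the columns. -/
def sweep : List (V × Dual K V) → Submodule K V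
  | [] => ⊥
  | p :: L => Submodule.span K {p.1} ⊔ (sweep L).map (LinearMap.transvection p.2 p.1)

theorem prodR_append (L L' : List (V × Dual K V)) : prodR (L ++ L') = prodR L * prodR L' := by
  induction L with
  | nil => simp [prodR]
  | cons p L ih => simp [prodR, ih, mul_assoc]

theorem sweep_append (L L' : List (V × Dual K V)) :
    sweep (L ++ L') = sweep L ⊔ (sweep L').map (prodR L) := by
  induction L with
  | nil => simp [prodR, sweep, Module.End.one_eq_id]
  | cons p L ih =>
    simp only [List.cons_append, sweep, ih, Submodule.map_sup, prodR, sup_assoc]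
    rw [← Submodule.map_comp]
    rfl

/-- Lifting from a hyperplane with any last column. -/
theorem exists_lift (f : Dual K V) (u : V) (hu : f u = 1) (δ : K) :
    ∀ L : List (LinearMap.ker f × Dual K (LinearMap.ker f)), (∀ p ∈ L, p.1 ≠ 0 ∧ p.2 p.1 = δ - 1) →
    ∀ w ∈ sweep L, ∃ L' : List (V × Dual K V), L'.length = L.length ∧
      (∀ p ∈ L', p.1 ≠ 0 ∧ p.2 p.1 = δ - 1) ∧
      (∀ h : LinearMap.ker f, prodR L' h = prodR L h) ∧ prodR L' u = u + w ∧
      (sweep L).map (LinearMap.ker f).subtype ≤ sweep L' := by
  intro L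
  induction L with
  | nil =>
    intro _ w hw
    simp only [sweep, Submodule.mem_bot] at hw
    exact ⟨[], rfl, by simp, fun h => rfl, by simp [prodR, hw], by simp [sweep]⟩
  | cons p L ih =>
    intro hp w hw
    simp only [sweep, Submodule.mem_sup, Submodule.mem_span_singleton, Submodule.mem_map] at hw
    obtain ⟨_, ⟨b, rfl⟩, _, ⟨w', hw', rfl⟩, rfl⟩ := hw
    obtain ⟨L', hlen, hL', hH, hu', hsw⟩ := ih (fun q hq => hp q (List.mem_cons_of_mem _ hq)) w' hw'
    let π : V →ₗ[K] LinearMap.ker f := LinearMap.codRestrict _ (LinearMap.id - f.smulRight u)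
      fun z => by simp [hu]
    let φ : Dual K V := p.2 ∘ₗ π + b • f
    have hπ : ∀ h : LinearMap.ker f, π h = h := fun h => Subtype.ext (by
      show (h : V) - f h • u = h
      simp)
    have hπu : π u = 0 := Subtype.ext (by
      show u - f u • u = 0
      simp [hu])
    have hφ : ∀ h : LinearMap.ker f, φ h = p.2 h := fun h => by
      simp [φ, hπ]
    have hφu : φ u = b := by simp [φ, hπu, hu]
    have hT : ∀ h : LinearMap.ker f, LinearMap.transvection φ (p.1 : V) h =
        (LinearMap.transvection p.2 p.1 h : LinearMap.ker f) := fun h => by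
      simp [LinearMap.transvection.apply, hφ]
    refine ⟨((p.1 : V), φ) :: L', by simp [hlen], ?_, fun h => ?_, ?_, ?_⟩
    · intro q hq
      rcases List.mem_cons.1 hq with rfl | hq
      · obtain ⟨h1, h2⟩ := hp p (List.mem_cons_self ..)
        exact ⟨by simpa using h1, by rw [hφ]; exact h2⟩
      · exact hL' q hq
    · simp only [prodR, Module.End.mul_apply, hH, hT]
    · simp only [prodR, Module.End.mul_apply, hu', map_add, hT]
      simp [LinearMap.transvection.apply, hφu, add_assoc]
    · simp only [sweep, Submodule.map_sup, Submodule.map_span, Set.image_singleton,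
        Submodule.subtype_apply]
      refine sup_le_sup le_rfl ?_
      rw [← Submodule.map_comp]
      have e : (LinearMap.ker f).subtype ∘ₗ LinearMap.transvection p.2 p.1 =
          LinearMap.transvection φ (p.1 : V) ∘ₗ (LinearMap.ker f).subtype :=
        LinearMap.ext fun h => (hT h).symm
      rw [e, Submodule.map_comp]
      exact Submodule.map_mono hsw

/-- Every non-scalar endomorphism is such a product, for any prescribed factor determinant. -/
theorem exists_prodR {δ : K} (hδ : δ ≠ 0) : ∀ (n : ℕ) {W : Type v} [AddCommGroup W] [Module K W]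
    [FiniteDimensional K W] (g : Module.End K W), finrank K W = n → 1 ≤ n →
    LinearMap.det g = δ ^ n → (n = 1 ∨ ∀ a : K, g ≠ a • LinearMap.id) →
    ∃ L : List (W × Dual K W), L.length = n ∧ (∀ p ∈ L, p.1 ≠ 0 ∧ p.2 p.1 = δ - 1) ∧
      prodR L = g ∧ sweep L = ⊤ := by
  intro n
  induction n with
  | zero => intro W _ _ _ g _ h; omega
  | succ n ih =>
    intro W _ _ _ g hn _ hdet hg
    rcases Nat.eq_zero_or_pos n with rfl | hn1
    · obtain ⟨v, hv, hspan⟩ := finrank_eq_one_iff'.1 hn
      let b : Basis Unit K W := Basis.singleton Unit K |>.map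
        (LinearEquiv.ofBijective (LinearMap.toSpanSingleton K W v)
          ⟨fun a c h => smul_left_injective K hv (by simpa using h), fun w => by
            obtain ⟨a, ha⟩ := hspan w; exact ⟨a, by simpa using ha⟩⟩)
      have hb : b () = v := by
        show (b ()) = v
        simp only [b, Basis.map_apply, Basis.singleton_apply]
        exact one_smul K v
      have hco : b.coord () v = 1 := by rw [← hb]; simp
      refine ⟨[(v, (δ - 1) • b.coord ())], rfl, ?_, ?_, ?_⟩
      · intro p hp
        rw [List.mem_singleton] at hp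
        subst hp
        exact ⟨hv, by simp only [LinearMap.smul_apply, hco, smul_eq_mul, mul_one]⟩
      · refine b.ext fun i => ?_
        obtain ⟨a, ha⟩ := hspan (g v)
        have : g = a • LinearMap.id := b.ext fun i => by simp [hb, ha]
        rw [this, LinearMap.det_smul, LinearMap.det_id, hn, mul_one, pow_one, pow_one] at hdet
        simp only [prodR, mul_one, this, hdet, LinearMap.transvection.apply, LinearMap.smul_apply,
          LinearMap.id_apply, show b i = v from hb, hco, smul_eq_mul, sub_smul, one_smul]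
        abel
      · simp only [sweep, Submodule.map_bot, bot_le, sup_of_le_left]
        refine eq_top_iff.2 fun w _ => ?_
        obtain ⟨a, rfl⟩ := hspan w
        exact Submodule.smul_mem _ a (Submodule.mem_span_singleton_self v)
    have hgn : ∀ a : K, g ≠ a • LinearMap.id := hg.resolve_left (by omega)
    have hdet0 : LinearMap.det g ≠ 0 := hdet ▸ pow_ne_zero _ hδ
    obtain ⟨v, hv⟩ : ∃ v, LinearIndependent K ![v, g v] := by
      by_contra hno
      push Not at hno
      obtain ⟨a, ha⟩ := LinearMap.exists_eq_smul_id_of_forall_notLinearIndependent hno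
      exact hgn a ha
    rw [LinearIndependent.pair_iff] at hv
    obtain ⟨f₀, hf₀, hf₀v⟩ := Submodule.exists_dual_map_eq_bot_of_notMem
      (p := Submodule.span K {v}) (x := g v) (fun hmem => by
        obtain ⟨a, ha⟩ := Submodule.mem_span_singleton.1 hmem
        exact one_ne_zero (neg_eq_zero.1 (hv a (-1) (by rw [ha]; simp)).2)) inferInstance
    let f : Dual K W := (f₀ (g v))⁻¹ • f₀
    have hfgv : f (g v) = 1 := by simp [f, hf₀]
    have hfv : f v = 0 := by
      have : f₀ v = 0 := (Submodule.eq_bot_iff _).1 hf₀v _ ⟨v, Submodule.mem_span_singleton_self v, rfl⟩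
      simp [f, this]
    obtain ⟨u₁, hu₁⟩ : ∃ u₁, f u₁ = 1 := ⟨g v, hfgv⟩
    let u₀ : W := u₁ + (δ - f (g u₁)) • v
    let φ : Dual K W := f ∘ₗ g - f
    let H := LinearMap.ker f
    -- the choices of the last column
    have step : ∀ u : W, f u = 1 → f (g u) = δ →
        (∀ h ∈ H, (g * LinearMap.transvection φ (-δ⁻¹ • u)) h ∈ H) ∧
          f ((g * LinearMap.transvection φ (-δ⁻¹ • u)) u) = 1 := by
      intro u h1 h2
      refine ⟨fun h hh => ?_, ?_⟩
      · have hh' : f h = 0 := hh
        show f _ = 0
        simp only [Module.End.mul_apply, LinearMap.transvection.apply, map_add, map_smul, φ,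
          LinearMap.sub_apply, LinearMap.comp_apply, hh', h2, smul_eq_mul]
        field_simp
        ring
      · simp only [Module.End.mul_apply, LinearMap.transvection.apply, map_add, map_smul, φ,
          LinearMap.sub_apply, LinearMap.comp_apply, h1, h2, smul_eq_mul]
        field_simp
        ring
    have hu₀ : f u₀ = 1 ∧ f (g u₀) = δ := by
      constructor <;> simp [u₀, hu₁, hfv, hfgv]
    -- a column whose restriction is not a scalar
    obtain ⟨u, hu, hgu, hA⟩ : ∃ (u : W) (hu : f u = 1) (hgu : f (g u) = δ), n = 1 ∨ ∀ a : K,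
        (g * LinearMap.transvection φ (-δ⁻¹ • u)).restrict (step u hu hgu).1 ≠ a • LinearMap.id := by
      by_cases hn2 : n = 1
      · exact ⟨u₀, hu₀.1, hu₀.2, .inl hn2⟩
      obtain ⟨η, hη, hη0⟩ := (Submodule.ne_bot_iff _).1 (LinearMap.ker_ne_bot_of_finrank_lt
        (f := f.prod (f ∘ₗ g)) (by rw [Module.finrank_prod, Module.finrank_self, hn]; omega))
      simp only [LinearMap.mem_ker, LinearMap.prod_apply, Function.prod_apply, LinearMap.comp_apply,
        Prod.mk_eq_zero] at hη
      by_contra hno
      push Not at hno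
      obtain ⟨-, a, ha⟩ := hno u₀ hu₀.1 hu₀.2
      obtain ⟨-, a', ha'⟩ := hno (u₀ + η) (by simp [hu₀, hη]) (by simp [hu₀, hη])
      have key : ∀ h, f h = 0 → (φ h * δ⁻¹) • g η = (a - a') • h := fun h hh => by
        have e1 := congrArg (fun L : Module.End K H => (L ⟨h, hh⟩ : W)) ha
        have e2 := congrArg (fun L : Module.End K H => (L ⟨h, hh⟩ : W)) ha'
        simp only [LinearMap.restrict_coe_apply, Module.End.mul_apply, LinearMap.transvection.apply,
          map_add, map_smul, LinearMap.smul_apply, LinearMap.id_apply, SetLike.val_smul, smul_add,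
          smul_smul] at e1 e2
        linear_combination (norm := module) e1 - e2
      have k1 := key η hη.1
      rw [show φ η = 0 by simp [φ, hη], zero_mul, zero_smul, eq_comm, smul_eq_zero] at k1
      have k2 := key v hfv
      rw [show φ v = 1 by simp [φ, hfgv, hfv], one_mul, k1.resolve_right hη0, zero_smul,
        smul_eq_zero] at k2
      have hker : LinearMap.ker g = ⊥ := by
        by_contra hne
        exact hdet0 (LinearMap.det_eq_zero_iff_ker_ne_bot.2 hne)
      exact hη0 ((Submodule.eq_bot_iff _).1 hker η (k2.resolve_left (inv_ne_zero hδ)))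
    set g' := g * LinearMap.transvection φ (-δ⁻¹ • u) with hg'
    obtain ⟨hres, hfix⟩ := step u hu hgu
    set A := g'.restrict hres with hAdef
    have hφu : φ u = δ - 1 := by simp [φ, hu, hgu]
    have hinv : g' * LinearMap.transvection φ u = g := LinearMap.ext fun z => by
      simp only [hg', Module.End.mul_apply, LinearMap.transvection.apply, map_add, map_smul, hφu,
        smul_add, smul_smul, smul_eq_mul]
      match_scalars <;> field_simp <;> ring
    have hH : finrank K H = n := by
      have h1 := LinearMap.finrank_range_add_finrank_ker f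
      rw [LinearMap.range_eq_top.2 fun c => ⟨c • u, by simp [hu]⟩, finrank_top, Module.finrank_self,
        hn] at h1
      show finrank K (LinearMap.ker f) = n
      omega
    -- the determinant of the restriction
    let E : (H × K) ≃ₗ[K] W := LinearEquiv.ofLinearMap
      (H.subtype.coprod (LinearMap.toSpanSingleton K W u))
      ((LinearMap.codRestrict H (LinearMap.id - f.smulRight u) fun z => by simp [H, hu]).prod f)
      (LinearMap.ext fun z => by
        show (z - f z • u) + f z • u = z
        abel)
      (LinearMap.ext fun z => by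
        have h0 : f (z.1 : W) = 0 := z.1.2
        refine Prod.ext (Subtype.ext ?_) ?_
        · show ((z.1 : W) + z.2 • u) - f ((z.1 : W) + z.2 • u) • u = z.1
          simp [hu, h0]
        · show f ((z.1 : W) + z.2 • u) = z.2
          simp [hu, h0])
    have hD : g' = LinearMap.transvection f (g' u - u) *
        E.conj (A.prodMap (LinearMap.id : K →ₗ[K] K)) := LinearMap.ext fun z => by
      obtain ⟨⟨h, a⟩, rfl⟩ := E.surjective z
      have h0 : f (g' (h : W)) = 0 := hres _ h.2
      simp only [Module.End.mul_apply, LinearEquiv.conj_apply, LinearMap.comp_apply,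
        LinearEquiv.coe_coe, LinearEquiv.symm_apply_apply]
      simp [E, LinearMap.toSpanSingleton_apply, A, LinearMap.transvection.apply, h0, hu, smul_sub]
    have hdA : LinearMap.det A = δ ^ n := by
      have h1 : LinearMap.det g' * δ = δ ^ (n + 1) := by
        have := congrArg LinearMap.det hinv
        rw [map_mul, LinearMap.transvection.det, hφu, hdet] at this
        rw [← this]; ring
      rw [hD, map_mul, LinearMap.transvection.det, map_sub, hfix, hu, sub_self, add_zero, one_mul,
        LinearEquiv.conj_apply, LinearMap.comp_assoc, LinearMap.det_conj, LinearMap.det_prodMap,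
        LinearMap.det_id, mul_one, pow_succ] at h1
      exact mul_right_cancel₀ hδ h1
    obtain ⟨L, hlen, hL, hprod, hsweep⟩ := ih A hH hn1 hdA hA
    obtain ⟨L', hlen', hL', hH', hu', hsw⟩ := exists_lift f u hu δ L hL
      ⟨g' u - u, by show f _ = 0; rw [map_sub, hfix, hu, sub_self]⟩ (hsweep ▸ Submodule.mem_top)
    have hP : prodR L' = g' := LinearMap.ext fun z => by
      obtain ⟨⟨h, a⟩, rfl⟩ := E.surjective z
      have e : E (h, a) = (h : W) + a • u := by simp [E, LinearMap.toSpanSingleton_apply]
      rw [e, map_add, map_add, map_smul, map_smul, hH', hu', hprod]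
      simp [A]
    refine ⟨L' ++ [(u, φ)], by simp [hlen', hlen], ?_, ?_, ?_⟩
    · intro p hp
      rcases List.mem_append.1 hp with hp | hp
      · exact hL' p hp
      · rw [List.mem_singleton] at hp
        subst hp
        exact ⟨fun h0 : u = 0 => by simp [h0] at hu, hφu⟩
    · rw [prodR_append, hP]
      simpa [prodR] using hinv
    · rw [sweep_append, hP, eq_top_iff]
      intro z _
      obtain ⟨⟨h, a⟩, rfl⟩ := E.surjective z
      have hH2 : ∀ h : H, (h : W) ∈ sweep L' := fun h => hsw ⟨h, hsweep ▸ Submodule.mem_top, rfl⟩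
      have hu2 : g' u ∈ sweep L' ⊔ (sweep [(u, φ)]).map g' := Submodule.mem_sup_right
        ⟨u, by simp [sweep, Submodule.mem_span_singleton_self], rfl⟩
      have hu3 : u ∈ sweep L' ⊔ (sweep [(u, φ)]).map g' := by
        have := Submodule.sub_mem _ hu2 (Submodule.mem_sup_left (T := (sweep [(u, φ)]).map g')
          (hH2 ⟨g' u - u, by show f _ = 0; rw [map_sub, hfix, hu, sub_self]⟩))
        simpa using this
      rw [show E (h, a) = (h : W) + a • u by simp [E, LinearMap.toSpanSingleton_apply]]
      exact add_mem (Submodule.mem_sup_left (hH2 h)) (Submodule.smul_mem _ a hu3)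

variable [FiniteDimensional K V]

/-- Any two with the same value are conjugate. -/
theorem exists_conj_transvection {u u' : V} {φ φ' : Dual K V} (hu : u ≠ 0) (hu' : u' ≠ 0)
    (hφ : φ ≠ 0) (hφ' : φ' ≠ 0) (h : φ u = φ' u') :
    ∃ P : V ≃ₗ[K] V, ∀ z, P (LinearMap.transvection φ u z) = LinearMap.transvection φ' u' (P z) := by
  suffices hP : ∃ P : V ≃ₗ[K] V, P u = u' ∧ ∀ z, φ' (P z) = φ z by
    obtain ⟨P, h1, h2⟩ := hP
    exact ⟨P, fun z => by simp [LinearMap.transvection.apply, h1, h2]⟩
  obtain ⟨v, v', hv, hv', hc⟩ : ∃ v v', φ v = 1 ∧ φ' v' = 1 ∧ ((φ u ≠ 0 ∧ u - φ u • v = 0 ∧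
      u' - φ' u' • v' = 0) ∨ φ u = 0) := by
    by_cases hc : φ u = 0
    · obtain ⟨v, hv⟩ := LinearMap.surjective hφ 1
      obtain ⟨v', hv'⟩ := LinearMap.surjective hφ' 1
      exact ⟨v, v', hv, hv', .inr hc⟩
    · have hc' : φ' u' ≠ 0 := h ▸ hc
      exact ⟨(φ u)⁻¹ • u, (φ' u')⁻¹ • u', by simp [hc], by simp [hc'],
        .inl ⟨hc, by simp [smul_smul, hc], by simp [smul_smul, hc']⟩⟩
  have hk : finrank K (LinearMap.ker φ) = finrank K (LinearMap.ker φ') := by
    have h1 := LinearMap.finrank_range_add_finrank_ker φ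
    have h2 := LinearMap.finrank_range_add_finrank_ker φ'
    rw [LinearMap.range_eq_top.2 (LinearMap.surjective hφ)] at h1
    rw [LinearMap.range_eq_top.2 (LinearMap.surjective hφ')] at h2
    omega
  let w : LinearMap.ker φ := ⟨u - φ u • v, by simp [hv]⟩
  let w' : LinearMap.ker φ' := ⟨u' - φ' u' • v', by simp [hv']⟩
  obtain ⟨Ψ, hΨ⟩ : ∃ Ψ : LinearMap.ker φ ≃ₗ[K] LinearMap.ker φ', Ψ w = w' := by
    let Ψ₀ := LinearEquiv.ofFinrankEq _ _ hk
    rcases hc with ⟨-, h1, h2⟩ | hc
    · exact ⟨Ψ₀, by rw [show w = 0 from Subtype.ext h1, map_zero, show w' = 0 from Subtype.ext h2]⟩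
    · have hw : Ψ₀ w ≠ 0 := fun e => hu (by
        simpa [w, hc] using congrArg Subtype.val (Ψ₀.map_eq_zero_iff.1 e))
      have hw' : w' ≠ 0 := fun e => hu' (by simpa [w', ← h, hc] using congrArg Subtype.val e)
      obtain ⟨g, hg⟩ := Submodule.exists_linearEquiv_restrict_eq
        ((LinearEquiv.toSpanNonzeroSingleton K _ (Ψ₀ w) hw).symm.trans
          (LinearEquiv.toSpanNonzeroSingleton K _ w' hw'))
      refine ⟨Ψ₀.trans g, ?_⟩
      have := hg ⟨Ψ₀ w, Submodule.mem_span_singleton_self _⟩
      rw [LinearEquiv.trans_apply, ← this, LinearEquiv.trans_apply,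
        (LinearEquiv.symm_apply_eq _).2 (show (⟨Ψ₀ w, _⟩ : Submodule.span K {Ψ₀ w}) =
          LinearEquiv.toSpanNonzeroSingleton K _ (Ψ₀ w) hw 1 from Subtype.ext (one_smul K _).symm)]
      exact one_smul K w'
  let π : V →ₗ[K] LinearMap.ker φ :=
    LinearMap.codRestrict _ (LinearMap.id - φ.smulRight v) fun z => by simp [hv]
  let P : Module.End K V :=
    (LinearMap.ker φ').subtype ∘ₗ (Ψ : _ →ₗ[K] LinearMap.ker φ') ∘ₗ π + φ.smulRight v'
  have hPφ : ∀ z, φ' (P z) = φ z := fun z => by
    have : φ' (Ψ (π z) : V) = 0 := (Ψ (π z)).2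
    simp [P, this, hv']
  have hinj : Function.Injective P := by
    rw [← LinearMap.ker_eq_bot]
    refine (Submodule.eq_bot_iff _).2 fun z hz => ?_
    have h1 : φ z = 0 := by rw [← hPφ, show P z = 0 from hz, map_zero]
    have h2 : π z = ⟨z, h1⟩ := Subtype.ext (by
      show z - φ z • v = z
      simp [h1])
    have h3 : P z = (Ψ ⟨z, h1⟩ : V) := by simp [P, h1, h2]
    have h4 : Ψ ⟨z, h1⟩ = 0 := Subtype.ext (h3.symm.trans hz)
    simpa using congrArg Subtype.val (Ψ.map_eq_zero_iff.1 h4)
  refine ⟨LinearEquiv.ofBijective P ⟨hinj, LinearMap.injective_iff_surjective.1 hinj⟩, ?_, hPφ⟩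
  show P u = u'
  have : π u = w := rfl
  simp [P, this, hΨ, w', h]

omit [FiniteDimensional K V] in
/-- Splitting transvections up to a given number. -/
theorem exists_pad [Fintype K] (hq : 3 ≤ Fintype.card K) : ∀ (k : ℕ) (L : List (V × Dual K V)),
    L ≠ [] → (∀ p ∈ L, p.1 ≠ 0 ∧ p.2 ≠ 0 ∧ p.2 p.1 = 0) →
    ∃ L' : List (V × Dual K V), L'.length = L.length + k ∧
      (∀ p ∈ L', p.1 ≠ 0 ∧ p.2 ≠ 0 ∧ p.2 p.1 = 0) ∧ prodR L' = prodR L := by
  classical
  intro k
  induction k with
  | zero => exact fun L _ h => ⟨L, rfl, h, rfl⟩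
  | succ k ih =>
    intro L hne hL
    obtain ⟨L', hlen, hL', hp⟩ := ih L hne hL
    obtain _ | ⟨⟨u, φ⟩, T⟩ := L'
    · exact absurd (List.length_eq_zero_iff.1 (by simp at hlen; omega)) hne
    obtain ⟨a, -, ha⟩ := Finset.exists_mem_notMem_of_card_lt_card (s := ({0, 1} : Finset K))
      (t := Finset.univ) (Finset.card_le_two.trans_lt (by rw [Finset.card_univ]; omega))
    simp only [Finset.mem_insert, Finset.mem_singleton, not_or] at ha
    obtain ⟨h1, h2, h3⟩ := hL' (u, φ) (List.mem_cons_self ..)
    refine ⟨(a • u, φ) :: ((1 - a) • u, φ) :: T, by simp at hlen ⊢; omega, ?_, ?_⟩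
    · intro p hp'
      rcases List.mem_cons.1 hp' with rfl | hp'
      · exact ⟨smul_ne_zero ha.1 h1, h2, by simp [show φ u = 0 from h3]⟩
      rcases List.mem_cons.1 hp' with rfl | hp'
      · exact ⟨smul_ne_zero (sub_ne_zero.2 (Ne.symm ha.2)) h1, h2, by simp [show φ u = 0 from h3]⟩
      exact hL' p (List.mem_cons_of_mem _ hp')
    · rw [← hp]
      simp only [prodR, ← mul_assoc]
      congr 1
      refine LinearMap.ext fun z => ?_
      simp only [Module.End.mul_apply, LinearMap.transvection.apply, map_add, map_smul,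
        show φ u = 0 from h3, smul_eq_mul, mul_zero, add_zero]
      module

/-- **Pseudo-reflections**: the case of a rank one perturbation of a scalar. -/
theorem covers_reflection [Fintype K] (hq : 4 ≤ Fintype.card K) (hn : 3 ≤ finrank K V)
    {x : V ≃ₗ[K] V} (hx : LinearEquiv.det x = 1) (hxn : NonScalar x) (hcl : Closed x)
    {a : K} {u₀ : V} {φ₀ : Dual K V}
    (hform : (x : Module.End K V) = a • LinearMap.transvection φ₀ u₀) : Covers x := by
  classical
  set n := finrank K V with hndef
  refine ⟨n, le_rfl, fun g hg hgn => ?_, .inr ⟨1, scal_one (K := K) (V := V) ▸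
    one_mem hx hxn (by omega) (.inr hcl)⟩⟩
  have hx1 : LinearMap.det (x : Module.End K V) = 1 := by
    rw [← LinearEquiv.coe_det, hx, Units.val_one]
  have hg1 : LinearMap.det (g : Module.End K V) = 1 := by
    rw [← LinearEquiv.coe_det, hg, Units.val_one]
  set δ := 1 + φ₀ u₀ with hδdef
  have had : a ^ n * δ = 1 := by
    rw [← hx1, hform, LinearMap.det_smul, LinearMap.transvection.det]
  have hδ : δ ≠ 0 := right_ne_zero_of_mul_eq_one had
  have ha : a ≠ 0 := fun e => by simp [e, show n ≠ 0 by omega] at had
  have hu₀ : u₀ ≠ 0 := fun e => hxn a (by rw [hform, e]; ext; simp [LinearMap.transvection.apply])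
  have hφ₀ : φ₀ ≠ 0 := fun e => hxn a (by rw [hform, e]; ext; simp [LinearMap.transvection.apply])
  obtain ⟨L, hlen, hL, hprod, -⟩ := exists_prodR hδ n ((a ^ n)⁻¹ • (g : Module.End K V))
    rfl (by omega) (by
      rw [LinearMap.det_smul, hg1, mul_one, ← hndef, show δ = (a ^ n)⁻¹ from
        eq_inv_of_mul_eq_one_right had])
    (.inr fun c hc => hgn (a ^ n * c) (by
      rw [mul_smul, ← hc, smul_smul, mul_inv_cancel₀ (pow_ne_zero _ ha), one_smul]))
  -- drop the trivial factors, then restore their number
  obtain ⟨L', hlen', hL', hprod'⟩ : ∃ L' : List (V × Dual K V), L'.length = n ∧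
      (∀ p ∈ L', p.1 ≠ 0 ∧ p.2 ≠ 0 ∧ p.2 p.1 = δ - 1) ∧ prodR L' = prodR L := by
    by_cases h1 : δ = 1
    · let M := L.filter fun p => decide (p.2 ≠ 0)
      have hM : prodR M = prodR L := by
        have : ∀ l : List (V × Dual K V), prodR (l.filter fun p => decide (p.2 ≠ 0)) = prodR l := by
          intro l
          induction l with
          | nil => rfl
          | cons p l ih =>
            by_cases hp : p.2 = 0
            · rw [List.filter_cons_of_neg (by simp [hp]), ih, prodR, hp]
              refine LinearMap.ext fun z => ?_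
              simp [LinearMap.transvection.apply]
            · rw [List.filter_cons_of_pos (by simp [hp]), prodR, prodR, ih]
        exact this L
      have hne : M ≠ [] := fun e => by
        rw [e, hprod] at hM
        refine hgn (a ^ n) ?_
        rw [show (g : Module.End K V) = a ^ n • ((a ^ n)⁻¹ • (g : Module.End K V)) by
          rw [smul_smul, mul_inv_cancel₀ (pow_ne_zero _ ha), one_smul], ← hM]
        rfl
      obtain ⟨L', h2, h3, h4⟩ := exists_pad (by omega) (n - M.length) M hne fun p hp => by
        obtain ⟨hp1, hp2⟩ := List.mem_filter.1 hp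
        obtain ⟨h5, h6⟩ := hL p hp1
        exact ⟨h5, of_decide_eq_true hp2, by rw [h6, h1, sub_self]⟩
      refine ⟨L', ?_, fun p hp => ?_, h4.trans hM⟩
      · have : M.length ≤ n := hlen ▸ List.length_filter_le _ _
        omega
      · obtain ⟨h5, h6, h7⟩ := h3 p hp
        exact ⟨h5, h6, by rw [h7, h1, sub_self]⟩
    · refine ⟨L, hlen, fun p hp => ⟨(hL p hp).1, fun e => ?_, (hL p hp).2⟩, rfl⟩
      have := (hL p hp).2
      rw [e, LinearMap.zero_apply, eq_comm, sub_eq_zero] at this
      exact h1 this
  have key : ∀ l : List (V × Dual K V), (∀ p ∈ l, p.1 ≠ 0 ∧ p.2 ≠ 0 ∧ p.2 p.1 = δ - 1) →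
      ∃ y, InProd x l.length y ∧ (y : Module.End K V) = a ^ l.length • prodR l := by
    intro l
    induction l with
    | nil => exact fun _ => ⟨1, InProd.zero x, by simp [prodR]; rfl⟩
    | cons p l ih =>
      intro hl
      obtain ⟨y, hy, hy'⟩ := ih fun q hq => hl q (List.mem_cons_of_mem _ hq)
      obtain ⟨h5, h6, h7⟩ := hl p (List.mem_cons_self ..)
      obtain ⟨P, hP⟩ := exists_conj_transvection hu₀ h5 hφ₀ h6 (by rw [h7, hδdef]; ring)
      refine ⟨P * x * P⁻¹ * y, ?_, ?_⟩
      · rw [List.length_cons, add_comm]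
        exact (InProd.single_x hcl P).mul hy
      · refine LinearMap.ext fun z => ?_
        show P (x (P.symm (y z))) = _
        rw [show y z = a ^ l.length • prodR l z from LinearMap.congr_fun hy' z,
          show x (P.symm _) = a • LinearMap.transvection φ₀ u₀ (P.symm _) from
            LinearMap.congr_fun hform _, map_smul, hP, P.apply_symm_apply]
        simp [prodR, pow_succ', mul_smul]
  obtain ⟨y, hy, hy'⟩ := key L' hL'
  rw [hlen', hprod', hprod, smul_smul, mul_inv_cancel₀ (pow_ne_zero _ ha), one_smul] at hy'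
  rw [hlen'] at hy
  exact LinearEquiv.toLinearMap_injective hy' ▸ hy

end Cfsg.Agent.CoverNum
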