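import Mathlib
import Cfsg.Agent.CoverNum.NoOnes
import Cfsg.Agent.CoverNum.Refl

/-!
# Every non-scalar class covers in `n` steps
-/

namespace Cfsg.Agent.CoverNum

open Module Polynomial OreSL

universe u v

variable {K : Type u} [Field K] {V : Type v} [AddCommGroup V] [Module K V] [FiniteDimensional K V]
  {x : V ≃ₗ[K] V} {m : ℕ} {s : Fin m → ℕ} {c : ∀ i, Fin (s i) → K}

/-- A block of size one is a scalar. -/
theorem comp_eq_smul {d : ℕ} (hd : d = 1) {g : Fin d → K} {a : K} (ha : g ⟨0, by omega⟩ = a) :
    comp g = a • LinearMap.id := by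
  subst hd
  refine LinearMap.ext fun z => funext fun j => ?_
  obtain rfl : j = ⟨0, by omega⟩ := Fin.ext (by simp only; omega)
  simp [comp_apply, ext_of_lt, ← ha]

/-- Blocks of size one only: a scalar. -/
theorem Blocks.scalar_of_sizes {y : Module.End K V} (h : Blocks y s c) {a : K}
    (h1 : ∀ i, ∃ hi : s i = 1, c i ⟨0, by omega⟩ = a) : y = a • LinearMap.id := by
  obtain ⟨-, E, hE⟩ := h
  refine LinearMap.ext fun v => ?_
  obtain ⟨z, rfl⟩ := E.surjective v
  rw [hE, LinearMap.smul_apply, LinearMap.id_apply, ← map_smul]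
  congr 1
  funext i
  obtain ⟨hi, ha⟩ := h1 i
  rw [dsum_apply, comp_eq_smul hi ha]
  rfl

/-- **One block of size two besides ones**: a pseudo-reflection times a scalar. -/
theorem Blocks.exists_transvection (h : Blocks (x : Module.End K V) s c) {i : Fin m} (hi : s i = 2)
    {a : K} (ha : a ≠ 0) (hroot : (cpoly (c i)).eval a = 0)
    (hone : ∀ j, j ≠ i → ∃ hj : s j = 1, c j ⟨0, by omega⟩ = a) :
    ∃ (u : V) (φ : Dual K V), (x : Module.End K V) = a • LinearMap.transvection φ u := by
  obtain ⟨m, rfl⟩ : ∃ k, m = k + 1 := ⟨m - 1, by have := i.isLt; omega⟩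
  obtain ⟨E, hE⟩ := h.extract i
  have hrest : dsum (fun j => s (i.succAbove j)) (fun j => c (i.succAbove j)) = a • LinearMap.id := by
    refine LinearMap.ext fun z => funext fun j => ?_
    obtain ⟨hj, hja⟩ := hone _ (Fin.succAbove_ne i j)
    rw [dsum_apply, comp_eq_smul hj hja]
    rfl
  rw [hrest] at hE
  generalize c i = ci at hroot hE
  generalize s i = d at hi ci E hE hroot
  subst hi
  rw [cpoly_two] at hroot
  simp only [eval_sub, eval_pow, eval_X, eval_mul, eval_C] at hroot
  refine ⟨E (![-a, 1], 0), a⁻¹ • ((LinearMap.proj (R := K) (φ := fun _ : Fin 2 => K) 0 +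
    (ci 1 - a) • LinearMap.proj 1) ∘ₗ LinearMap.fst K _ _ ∘ₗ E.symm.toLinearMap),
    LinearMap.ext fun v => ?_⟩
  obtain ⟨z, rfl⟩ := E.surjective v
  show (x : Module.End K V) (E z) = _
  rw [hE, LinearMap.smul_apply, LinearMap.transvection.apply, smul_add, smul_smul, ← map_smul,
    ← map_smul, ← map_add]
  simp only [LinearMap.smul_apply, LinearMap.comp_apply, LinearMap.fst_apply, LinearEquiv.coe_coe,
    LinearEquiv.symm_apply_apply, smul_eq_mul, ← mul_assoc, mul_inv_cancel₀ ha, one_mul]
  congr 1
  refine Prod.ext (funext fun j => ?_) (by simp)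
  show comp ci z.1 j = _
  rw [comp_two]
  fin_cases j <;> simp <;> first | linear_combination -(z.1 1) * hroot | ring

omit [FiniteDimensional K V] in
/-- A non-refinable block is irreducible. -/
theorem irreducible_of_not_refinable (hs : ∀ i, 2 ≤ s i) (h : ¬ Refinable c) (i : Fin m) :
    Irreducible (cpoly (c i)) := by
  rw [(cpoly_monic _).irreducible_iff_natDegree]
  refine ⟨fun e => ?_, fun f g hf hg hfg => ?_⟩
  · have := congrArg natDegree e
    rw [cpoly_natDegree, natDegree_one] at this
    have := hs i; omega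
  · by_contra hno
    push Not at hno
    exact h ⟨i, f, g, hs i, hf, hg, Nat.pos_of_ne_zero hno.1, Nat.pos_of_ne_zero hno.2, hfg.symm⟩

/-- Shortest decompositions have no coprime blocks. -/
theorem Blocks.not_coprime {y : Module.End K V} (h : Blocks y s c)
    (hmin : ∀ (m' : ℕ) (s' : Fin m' → ℕ) (c' : ∀ i, Fin (s' i) → K), Blocks y s' c' → m ≤ m')
    {i j : Fin m} (hij : i ≠ j) : ¬ IsCoprime (cpoly (c i)) (cpoly (c j)) := fun hco => by
  obtain ⟨m', s', c', h', hm'⟩ := h.merge hij hco
  have := hmin m' s' c' h'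
  omega

omit [FiniteDimensional K V] in
theorem eq_of_irreducible_of_not_coprime {d : ℕ} {g g' : Fin d → K} (hi : Irreducible (cpoly g))
    (h : ¬ IsCoprime (cpoly g) (cpoly g')) : g = g' := by
  refine cpoly_inj (eq_of_monic_of_dvd_of_natDegree_le (cpoly_monic g) (cpoly_monic g') ?_ ?_).symm
  · by_contra hdvd
    exact h (hi.coprime_iff_not_dvd.2 hdvd)
  · rw [cpoly_natDegree, cpoly_natDegree]

/-- **Four dimensions, two blocks**: they are equal, or not best. -/
theorem covers_four [Fintype K] (hq : 4 ≤ Fintype.card K) {c : ∀ _i : Fin 2, Fin 2 → K}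
    (hx : LinearEquiv.det x = 1) (hxn : NonScalar x)
    (h : Blocks (x : Module.End K V) (fun _ : Fin 2 => 2) c)
    (hmin : ∀ (m' : ℕ) (s' : Fin m' → ℕ) (c' : ∀ i, Fin (s' i) → K),
      Blocks (x : Module.End K V) s' c' → 2 ≤ m')
    (hmax : ∀ (s' : Fin 2 → ℕ) (c' : ∀ i, Fin (s' i) → K),
      Blocks (x : Module.End K V) s' c' → ones s' = 0) : Covers x := by
  refine covers_two_two hq hx hxn h ?_
  by_contra hne
  have hnc := h.not_coprime hmin (show (0 : Fin 2) ≠ 1 by decide)
  have hroots : ∀ i, ¬ Irreducible (cpoly (c i)) → ∃ a b, cpoly (c i) = (X - C a) * (X - C b) := by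
    intro i hi
    rw [(cpoly_monic _).irreducible_iff_natDegree] at hi
    push Not at hi
    obtain ⟨f, g, hf, hg, hfg, hf0, hg0⟩ := hi fun e => by
      have := congrArg natDegree e
      rw [cpoly_natDegree, natDegree_one] at this
      omega
    have hd := congrArg natDegree hfg
    rw [hf.natDegree_mul hg, cpoly_natDegree] at hd
    refine ⟨-f.coeff 0, -g.coeff 0, ?_⟩
    rw [← hfg, hf.eq_X_add_C (by omega), hg.eq_X_add_C (by omega)]
    simp
  have e0 : (Fin.succAbove (0 : Fin 2) (0 : Fin 1)) = 1 := rfl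
  have e1 : (Fin.succAbove (1 : Fin 2) (0 : Fin 1)) = 0 := rfl
  by_cases h0 : Irreducible (cpoly (c 0))
  · exact hne (eq_of_irreducible_of_not_coprime h0 hnc)
  by_cases h1 : Irreducible (cpoly (c 1))
  · exact hne (eq_of_irreducible_of_not_coprime h1 fun e => hnc e.symm).symm
  obtain ⟨a, b, hab⟩ := hroots 0 h0
  obtain ⟨a', c₁, hac⟩ := hroots 1 h1
  -- one root of the first is a root of the second
  obtain ⟨a, b, d, hab, hac⟩ : ∃ a b d, cpoly (c 0) = (X - C a) * (X - C b) ∧
      cpoly (c 1) = (X - C a) * (X - C d) := by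
    by_contra hno
    push Not at hno
    apply hnc
    rw [hab, hac]
    have key : ∀ {p q : K}, p ≠ q → IsCoprime (X - C p) (X - C q) := fun h =>
      Polynomial.isCoprime_X_sub_C_of_isUnit_sub (sub_ne_zero.2 h).isUnit
    refine IsCoprime.mul_left (IsCoprime.mul_right (key ?_) (key ?_))
      (IsCoprime.mul_right (key ?_) (key ?_))
    · rintro rfl; exact hno a b c₁ hab hac
    · rintro rfl; exact hno a b a' hab (by rw [hac]; ring)
    · rintro rfl; exact hno b a c₁ (by rw [hab]; ring) hac
    · rintro rfl; exact hno b a a' (by rw [hab]; ring) (by rw [hac]; ring)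
  have hbd : b ≠ d := fun e => hne (cpoly_inj (by rw [hab, hac, e]))
  by_cases hba : a = b
  · have had : a ≠ d := hba ▸ hbd
    obtain ⟨s', c', h', h1'⟩ := h.exchange 1 hac had (by
      rw [e1, hab]
      simp only [eval_mul, eval_sub, eval_X, eval_C]
      exact mul_ne_zero (sub_ne_zero.2 had.symm) (sub_ne_zero.2 hbd.symm))
    have := hmax s' c' h'
    omega
  · obtain ⟨s', c', h', h1'⟩ := h.exchange 0 hab hba (by
      rw [e0, hac]
      simp only [eval_mul, eval_sub, eval_X, eval_C]
      exact mul_ne_zero (sub_ne_zero.2 (Ne.symm hba)) (sub_ne_zero.2 hbd))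
    have := hmax s' c' h'
    omega

omit [FiniteDimensional K V] in
/-- A block of size one is a scalar with the matching cyclic structure. -/
theorem cyc_scalar_block {d : ℕ} (hd : d = 1) (ν : K) :
    Cyc (ν • LinearMap.id : Module.End K (Fin d → K)) (X - C ν) := by
  subst hd
  refine ⟨monic_X_sub_C ν, by rw [natDegree_X_sub_C, Module.finrank_fin_fun], ?_, LinearMap.proj 0,
    fun z hz => funext fun j => ?_⟩
  · refine LinearMap.ext fun z => ?_
    simp [Module.algebraMap_end_apply]
  · obtain rfl : j = 0 := Subsingleton.elim _ _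
    simpa using hz 0

/-- **Excess two in even dimension**: cyclic on a hyperplane first. -/
theorem covers_even_two [Fintype K] (hq : 4 ≤ Fintype.card K) (hx : LinearEquiv.det x = 1)
    (hxn : NonScalar x) (h : Blocks (x : Module.End K V) s c) {μ : K}
    (hone : ∀ i (hi : s i = 1), c i ⟨0, by omega⟩ = μ) {i₁ : Fin m} (hi₁ : s i₁ = 1)
    (hred : ∀ i, (cpoly (c i)).eval μ = 0) (hE : exc (bigSizes s) = 2) {k : ℕ}
    (hn : finrank K V = 2 * k + 4) : Covers x := by
  classical
  have hcl := h.closed_of_one hi₁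
  have hexc := h.exc_add
  obtain ⟨m, rfl⟩ : ∃ k, m = k + 1 := ⟨m - 1, by have := i₁.isLt; omega⟩
  have hμ : μ ≠ 0 := hone i₁ hi₁ ▸ h.coeff_ne_zero i₁ (by omega)
  obtain ⟨E, hE'⟩ := h.extract i₁
  let W := ∀ j, Fin (s (i₁.succAbove j)) → K
  let s' := fun j => s (i₁.succAbove j)
  let c' : ∀ j, Fin (s' j) → K := fun j => c (i₁.succAbove j)
  let U := Fin (s i₁) → K
  have hT₁ : comp (c i₁) = μ • LinearMap.id := comp_eq_smul hi₁ (hone i₁ hi₁)
  rw [hT₁] at hE'
  have hinj : Function.Injective (dsum s' c') := fun a b hab => by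
    have ha := hE' (0, a); have hb := hE' (0, b)
    simp only [LinearMap.prodMap_apply, map_zero] at ha hb
    rw [show dsum _ _ a = dsum s' c' a from rfl, hab] at ha
    simpa using congrArg Prod.snd (E.injective (x.injective (ha.trans hb.symm)))
  obtain ⟨x', hx'⟩ : ∃ x' : W ≃ₗ[K] W, ∀ z, x' z = dsum s' c' z :=
    ⟨LinearEquiv.ofBijective _ ⟨hinj, LinearMap.injective_iff_surjective.1 hinj⟩, fun z => rfl⟩
  have hx'e : (x' : Module.End K W) = dsum s' c' := LinearMap.ext hx'
  have h' : Blocks (x' : Module.End K W) s' c' :=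
    ⟨fun j => h.1 _, LinearEquiv.refl K W, fun z => hx' z⟩
  have hW : finrank K W = 2 * k + 3 := by
    have := E.finrank_eq
    rw [Module.finrank_prod, Module.finrank_fin_fun, hi₁, hn] at this
    rw [show finrank K W = finrank K (∀ j, Fin (s (i₁.succAbove j)) → K) from rfl]
    omega
  have hE2 : exc (bigSizes s') = 2 := by
    have := h'.exc_add
    omega
  -- a cyclic product below
  obtain ⟨y, hy, hcy⟩ : ∃ y : W ≃ₗ[K] W, InProd x' (k + 1) y ∧
      Cyc (y : Module.End K W) (LinearMap.charpoly (y : Module.End K W)) := by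
    rcases Nat.eq_zero_or_pos k with rfl | hk
    · have hc := h'.cyc_one (by have := h'.exc_add; omega)
      obtain ⟨-, -, -, ν, hν⟩ := hc
      exact ⟨x', InProd.self x', LinearMap.charpoly_monic _, LinearMap.charpoly_natDegree _,
        LinearMap.aeval_self_charpoly _, ν, hν⟩
    · obtain ⟨j, hj⟩ : ∃ j, 2 ≤ s' j := by
        by_contra hno
        push Not at hno
        rw [exc_bigSizes h'.1, Finset.sum_eq_zero fun j _ => by have := hno j; omega] at hE2
        omega
      exact exists_cyc_power h' (fun j hj => hone _ hj) hμ (by omega)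
        (refinable_of_root c' hj (hred _)) (j := k + 1) (by omega) (.inr (by rw [hE2]; omega))
        (by rw [hE2]; omega)
  -- lift
  let up : K → (W ≃ₗ[K] W) → Module.End K V := fun a g =>
    E.conj (LinearMap.prodMap (a • LinearMap.id : Module.End K U) (g : Module.End K W))
  obtain ⟨Y, hY, hYe⟩ : ∃ Y : V ≃ₗ[K] V, InProd x (k + 1) Y ∧ (Y : Module.End K V) = up (μ ^ (k + 1)) y := by
    obtain ⟨P, hP, hPy⟩ := hy
    have key : ∀ (l : ℕ) (P : Fin l → (W ≃ₗ[K] W)), (∀ i, LinearEquiv.det (P i) = 1) →
        ∃ Y : V ≃ₗ[K] V, InProd x l Y ∧ (Y : Module.End K V) =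
          up (μ ^ l) (List.ofFn fun i => P i * x' * (P i)⁻¹).prod := by
      intro l
      induction l with
      | zero =>
        refine fun P _ => ⟨1, InProd.zero x, LinearMap.ext fun v => ?_⟩
        obtain ⟨z, rfl⟩ := E.surjective v
        simp [up, LinearEquiv.conj_apply]
      | succ l ih =>
        intro P hP
        obtain ⟨Y, hY, hYe⟩ := ih (fun i => P i.succ) fun i => hP _
        let L := E.symm.trans (((LinearEquiv.refl K U).prodCongr (P 0)).trans E)
        refine ⟨L * x * L⁻¹ * Y, by rw [Nat.add_comm]; exact (InProd.single_x hcl L).mul hY,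
          LinearMap.ext fun v => ?_⟩
        obtain ⟨z, rfl⟩ := E.surjective v
        have hYz := LinearMap.congr_fun hYe (E z)
        simp only [up, LinearEquiv.conj_apply, LinearMap.comp_apply, LinearEquiv.coe_coe,
          LinearEquiv.symm_apply_apply] at hYz
        have hxz : ∀ w, x (E w) = E (μ • w.1, x' w.2) := fun w => by
          rw [hx']; exact hE' w
        show L (x (L.symm (Y (E z)))) = _
        rw [hYz]
        simp only [L, up, List.ofFn_succ, List.prod_cons, LinearEquiv.trans_apply,
          LinearEquiv.trans_symm, LinearEquiv.symm_symm, LinearEquiv.symm_apply_apply, hxz,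
          LinearEquiv.conj_apply, LinearMap.comp_apply, LinearEquiv.coe_coe]
        congr 1
        simp only [LinearEquiv.prodCongr_symm, LinearEquiv.prodCongr_apply, LinearEquiv.refl_symm, LinearEquiv.refl_apply,
          LinearMap.prodMap_apply, LinearMap.smul_apply, LinearMap.id_apply, smul_smul, ← pow_succ']
        rfl
    obtain ⟨Y, hY, hYe⟩ := key _ P hP
    exact ⟨Y, hY, by rw [hYe, hPy]⟩
  -- the last factor makes it rooted
  have hx'n : ∀ a : K, (x' : Module.End K W) ≠ a • LinearMap.id := fun a e => by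
    obtain ⟨j, hj⟩ : ∃ j, 2 ≤ s (i₁.succAbove j) := by
      by_contra hno
      push Not at hno
      rw [exc_bigSizes h'.1, Finset.sum_eq_zero fun j _ => by
        have : s' j < 2 := hno j
        omega] at hE2
      omega
    have := congrFun (congrFun (LinearMap.congr_fun e (Pi.single j (Pi.single ⟨0, by omega⟩ 1))) j)
      ⟨1, by omega⟩
    rw [hx'e, dsum_apply, Pi.single_eq_same, comp_single,
      dif_pos (show 0 + 1 < s (i₁.succAbove j) by omega)] at this
    change (1 : _) = a • ((Pi.single (M := fun j => Fin (s' j) → K) j (Pi.single ⟨0, _⟩ 1)) j ⟨1, _⟩) at this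
    simp at this
  have hdx' := (LinearEquiv.isUnit_det' x').ne_zero
  have hdy := (LinearEquiv.isUnit_det' y).ne_zero
  obtain ⟨ρ, -, H⟩ := tool_of_nonScalar hdx' hx'n (y : Module.End K W) _ hcy hdy
  set ν := μ ^ (k + 2) with hν
  have hν0 : ν ≠ 0 := pow_ne_zero _ hμ
  obtain ⟨r, -, hr⟩ := Finset.exists_mem_notMem_of_card_lt_card (s := ({0, ν} : Finset K))
    (t := Finset.univ) (Finset.card_le_two.trans_lt (by rw [Finset.card_univ]; omega))
  simp only [Finset.mem_insert, Finset.mem_singleton, not_or] at hr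
  set D := LinearMap.det (x' : Module.End K W) * LinearMap.det (y : Module.End K W)
  obtain ⟨p, hpm, hpd, hp0, hp⟩ := exists_poly_avoid (d := 2 * k + 2) (by omega) (D / r) {r, ν}
    (by simp [Ne.symm hr.1, hν0.symm]) (Finset.card_le_two.trans_lt (by omega))
  obtain ⟨P, -, -, hPc⟩ := H p r hpm (by rw [hpd, hW]) (by
    rw [hpd, hp0, (show Even (2 * k + 2) from ⟨k + 1, by ring⟩).neg_one_pow, one_mul,
      div_mul_cancel₀ _ hr.1])
  replace hPc := hPc (hp r (by simp))
  let L := E.symm.trans (((LinearEquiv.refl K U).prodCongr P).trans E)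
  set z := x * (L * Y * L⁻¹) with hz
  have hzm : InProd x (1 + (k + 1)) z := (InProd.self x).mul (hY.conj_x hcl L)
  have hzc : Cyc (z : Module.End K V) ((X - C ν) * (p * (X - C r))) := by
    obtain ⟨hm1, hd1, hA1, μ1, hμ1⟩ := cyc_scalar_block hi₁ ν
    obtain ⟨hm2, hd2, hA2, μ2, hμ2⟩ := hPc
    refine Cyc.map (y := LinearMap.prodMap (ν • LinearMap.id : Module.End K U)
      ((x' : Module.End K W) * P.conj (y : Module.End K W))) ⟨hm1.mul hm2, ?_, ?_, _,
        hμ1.prod hμ2 hA1 hA2 (IsCoprime.mul_right ?_ ?_)⟩ E fun w => ?_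
    · rw [hm1.natDegree_mul hm2, hd1, hd2, Module.finrank_prod]
    · rw [aeval_prodMap, map_mul (aeval (ν • LinearMap.id : Module.End K U)), hA1, zero_mul,
        map_mul (aeval ((x' : Module.End K W) * P.conj (y : Module.End K W))), hA2, mul_zero]
      exact LinearMap.prodMap_zero
    · exact (irreducible_X_sub_C ν).coprime_iff_not_dvd.2 fun hdvd =>
        hp ν (by simp) (dvd_iff_isRoot.1 hdvd)
    · exact Polynomial.isCoprime_X_sub_C_of_isUnit_sub (sub_ne_zero.2 (Ne.symm hr.2)).isUnit
    · have hYz : ∀ w, Y (E w) = E (μ ^ (k + 1) • w.1, y w.2) := fun w => by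
        have := LinearMap.congr_fun hYe (E w)
        simp only [up, LinearEquiv.conj_apply, LinearMap.comp_apply, LinearEquiv.coe_coe,
          LinearEquiv.symm_apply_apply] at this
        exact this
      have hxz : ∀ w, x (E w) = E (μ • w.1, x' w.2) := fun w => by
        rw [hx']; exact hE' w
      show _ = x (L (Y (L.symm (E w))))
      simp only [L, LinearEquiv.trans_apply, LinearEquiv.trans_symm, LinearEquiv.symm_symm,
        LinearEquiv.symm_apply_apply, hYz, hxz]
      congr 1
      simp only [hν, LinearEquiv.prodCongr_symm, LinearEquiv.prodCongr_apply, LinearEquiv.refl_symm, LinearEquiv.refl_apply,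
        LinearMap.prodMap_apply, LinearMap.smul_apply, LinearMap.id_apply, smul_smul, ← pow_succ']
      rfl
  have hroot : RootedAt z r := ⟨(X - C ν) * p, by
    simp only [eval_mul, eval_sub, eval_X, eval_C]
    exact mul_ne_zero (sub_ne_zero.2 hr.2) (hp r (by simp)), by rwa [mul_assoc]⟩
  refine ⟨(1 + (k + 1)) + (1 + (k + 1)), by omega,
    fun g hg hgn => nonScalar_mem_x hx hcl hzm hroot hzm hzc hg hgn, .inr ⟨1, ?_⟩⟩
  rw [scal_one]
  exact one_mem hx hxn (by omega) (.inr hcl)

/-- **The covering theorem for non-scalar automorphisms.** -/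
theorem covers [Fintype K] (hq : 4 ≤ Fintype.card K) (hn : 3 ≤ finrank K V)
    (hx : LinearEquiv.det x = 1) (hxn : NonScalar x) : Covers x := by
  classical
  obtain ⟨m, s, c, h, hmin, hmax⟩ := exists_best (x : Module.End K V)
  set n := finrank K V with hndef
  rcases Nat.lt_or_ge m 2 with hm | hm
  · have hc := h.cyc_one (by omega)
    rcases hn.lt_or_eq with h4 | h3
    · exact Covers.of_cyc hq (by omega) hx hxn (InProd.self x) hc (by omega)
    · exact covers_cyc_three hq h3.symm hx hxn hc
  have hexc := h.exc_add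
  rw [← hndef] at hexc
  have hlen := length_bigSizes h.1
  have hle := length_le_exc (L := bigSizes s) fun d hd => two_le_of_mem_bigSizes hd
  rcases Nat.eq_zero_or_pos (ones s) with ht | ht
  · -- no trivial blocks
    have hs : ∀ i, 2 ≤ s i := fun i => by
      by_contra hlt
      have : i ∈ Finset.univ.filter fun i => s i = 1 :=
        Finset.mem_filter.2 ⟨Finset.mem_univ i, by have := h.1 i; omega⟩
      rw [Finset.card_eq_zero.1 ht] at this
      exact Finset.notMem_empty _ this
    have hone : ∀ i (hi : s i = 1), c i ⟨0, by omega⟩ = (1 : K) := fun i hi => by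
      have := hs i; omega
    have hsum : ∑ i, s i = n := h.finrank_eq
    by_cases hR : 6 ≤ n ∧ (Odd n ∨ Refinable c)
    · obtain ⟨z, hz, hH⟩ := exists_square h (Module.finBasis K V) hone one_ne_zero (by omega)
        (.inr hR.2)
      rw [min_eq_left (by omega)] at hH
      exact Covers.of_cyc hq (by omega) hx hxn hz (hH.cyc (by omega)) (by omega)
    rcases Nat.lt_or_ge n 6 with h6 | h6
    · obtain rfl : m = 2 := by omega
      rw [Fin.sum_univ_two] at hsum
      have := hs 0; have := hs 1
      rcases (show s 0 + s 1 = 4 ∨ s 0 + s 1 = 5 by omega) with h4 | h5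
      · obtain rfl : s = fun _ => 2 := funext fun i => by
          fin_cases i <;> simp <;> omega
        exact covers_four hq hx hxn h hmin fun s' c' h' => by
          have := hmax s' c' h'; omega
      · have hcl : Closed x := by
          rcases (show s 0 = 2 ∧ s 1 = 3 ∨ s 1 = 2 ∧ s 0 = 3 by omega) with ⟨a, b⟩ | ⟨a, b⟩
          · exact h.closed_of_two_three a b
          · exact h.closed_of_two_three a b
        obtain ⟨z, hz, hH⟩ := exists_square h (Module.finBasis K V) hone one_ne_zero (by omega)
          (.inr (.inl ⟨2, by omega⟩))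
        rw [min_eq_left (by omega)] at hH
        exact Covers.of_closed hq (by omega) hx hxn hcl hz (hH.cyc (by omega)) (by omega)
    push Not at hR
    obtain ⟨hodd, hnr⟩ := hR h6
    have hev : Even n := Nat.not_odd_iff_even.1 hodd
    have hirr := irreducible_of_not_refinable hs hnr
    rcases (show 8 ≤ n ∨ n = 6 by obtain ⟨a, ha⟩ := hev; omega) with h8 | h6'
    · exact covers_irreducible_large hq hx hxn h hs hirr hev h8
    have hsz : ∀ i j, s i = s j := fun i j => by
      rcases eq_or_ne i j with rfl | hij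
      · rfl
      have hnc := h.not_coprime hmin hij
      have hdvd : cpoly (c i) ∣ cpoly (c j) := by
        by_contra hdvd
        exact hnc ((hirr i).coprime_iff_not_dvd.2 hdvd)
      have := congrArg natDegree (eq_of_monic_of_associated (cpoly_monic _) (cpoly_monic _)
        ((hirr i).associated_of_dvd (hirr j) hdvd))
      rwa [cpoly_natDegree, cpoly_natDegree] at this
    obtain ⟨d, hd⟩ : ∃ d, ∀ i, s i = d := ⟨s ⟨0, by omega⟩, fun i => hsz i _⟩
    obtain rfl : s = fun _ => d := funext hd
    have hsum' : m * d = 6 := by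
      rw [← h6', ← hsum]; simp
    have heq : ∀ i j, c i = c j := fun i j => by
      rcases eq_or_ne i j with rfl | hij
      · rfl
      exact eq_of_irreducible_of_not_coprime (hirr i) (h.not_coprime hmin hij)
    have hd2 := hs ⟨0, by omega⟩
    have hm3 : m ≤ 3 := by
      by_contra hgt
      have := Nat.mul_le_mul (show 4 ≤ m by omega) hd2
      omega
    rcases (show m = 2 ∨ m = 3 by omega) with rfl | rfl
    · obtain rfl : d = 3 := by omega
      exact covers_three_three hq hx hxn h (fun i => heq i 0) (hirr 0)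
    · obtain rfl : d = 2 := by omega
      exact covers_two_three_times hq hx hxn h (fun i => heq i 0) (hirr 0)
  · -- a trivial block
    obtain ⟨i₁, hi₁⟩ := Finset.card_pos.1 ht
    replace hi₁ : s i₁ = 1 := (Finset.mem_filter.1 hi₁).2
    set μ := c i₁ ⟨0, by omega⟩ with hμdef
    have hμ : μ ≠ 0 := h.coeff_ne_zero i₁ (by omega)
    have hroot : ∀ j, (cpoly (c j)).eval μ = 0 := fun j => h.root hmin hi₁ j
    have hone : ∀ i (hi : s i = 1), c i ⟨0, by omega⟩ = μ := fun i hi => by
      have := hroot i
      rw [eq_of_sizes_one hi, eval_sub, eval_X, eval_C, sub_eq_zero] at this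
      exact this.symm
    have hcl := h.closed_of_one hi₁
    have hbig : ∃ i, 2 ≤ s i := by
      by_contra hno
      push Not at hno
      exact hxn μ (h.scalar_of_sizes fun i =>
        ⟨by have := hno i; have := h.1 i; omega, hone i (by have := hno i; have := h.1 i; omega)⟩)
    obtain ⟨i₀, hi₀⟩ := hbig
    have hsumE : s i₀ - 1 ≤ exc (bigSizes s) := by
      rw [exc_bigSizes h.1]
      exact Finset.single_le_sum (f := fun i => s i - 1) (fun _ _ => Nat.zero_le _) (Finset.mem_univ i₀)
    rcases (show exc (bigSizes s) = 1 ∨ exc (bigSizes s) = 2 ∨ 3 ≤ exc (bigSizes s) by omega)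
      with hE | hE | hE
    · have hs2 : s i₀ = 2 := by omega
      have hothers : ∀ j, j ≠ i₀ → s j = 1 := fun j hj => by
        have h1 : (s i₀ - 1) + (s j - 1) ≤ exc (bigSizes s) := by
          rw [exc_bigSizes h.1]
          exact (Finset.sum_pair (f := fun i => s i - 1) hj.symm).symm.trans_le
            (Finset.sum_le_sum_of_subset (Finset.subset_univ _))
        have := h.1 j
        omega
      obtain ⟨u, φ, hform⟩ := h.exists_transvection hs2 hμ (hroot i₀) fun j hj =>
        ⟨hothers j hj, hone j (hothers j hj)⟩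
      exact covers_reflection hq hn hx hxn hcl hform
    · rcases Nat.even_or_odd n with ⟨a, ha⟩ | ⟨a, ha⟩
      · exact covers_even_two hq hx hxn h hone hi₁ hroot hE (k := a - 2) (by omega)
      · obtain ⟨z, hz, hc⟩ := exists_cyc_power h hone hμ (by omega)
          (refinable_of_root c hi₀ (hroot i₀)) (j := a) (by omega) (.inr (by rw [hE]; omega))
          (by rw [hE]; omega)
        exact Covers.of_closed hq hn hx hxn hcl hz hc (by omega)
    · set E := exc (bigSizes s) with hEdef
      have hdm := Nat.div_add_mod (n - 2) E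
      have hmod := Nat.mod_lt (n - 2) (show 0 < E by omega)
      have hdiv : (n - 2) / E ≤ (n - 2) / 3 := Nat.div_le_div_left hE (by norm_num)
      have hpos : 1 ≤ (n - 2) / E := (Nat.one_le_div_iff (by omega)).2 (by omega)
      set q := (n - 2) / E
      rw [mul_comm] at hdm
      obtain ⟨z, hz, hc⟩ := exists_cyc_power h hone hμ (by omega)
        (refinable_of_root c hi₀ (hroot i₀)) (j := q + 1) (by omega)
        (.inr (by rw [← hEdef, ← hndef, Nat.add_sub_cancel]; omega))
        (by rw [← hEdef, ← hndef, Nat.succ_mul]; omega)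
      exact Covers.of_closed hq hn hx hxn hcl hz hc (by omega)

end Cfsg.Agent.CoverNum
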