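import Mathlib
import Cfsg.Agent.CoverNum.Cases

/-!
# The projective group: covering in `n` steps and not in fewer
-/

namespace Cfsg.Agent.CoverNum

open Module Polynomial OreSL
open Matrix (SpecialLinearGroup ProjectiveSpecialLinearGroup)

variable {F : Type*} [Field F] {n : ℕ}

local notation "SLn" => Matrix.SpecialLinearGroup (Fin n) F
local notation "PSLn" => Matrix.ProjectiveSpecialLinearGroup (Fin n) F

theorem det_toSL (A : SLn) : LinearEquiv.det (Matrix.SpecialLinearGroup.toLin' A) = 1 := Units.ext (by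
  rw [LinearEquiv.coe_det, Matrix.SpecialLinearGroup.toLin'_to_linearMap, LinearMap.det_toLin', A.2,
    Units.val_one])

theorem exists_toSL {P : (Fin n → F) ≃ₗ[F] (Fin n → F)} (hP : LinearEquiv.det P = 1) :
    ∃ A : SLn, Matrix.SpecialLinearGroup.toLin' A = P := by
  refine ⟨⟨LinearMap.toMatrix' (P : (Fin n → F) →ₗ[F] (Fin n → F)), ?_⟩, LinearEquiv.ext fun v => ?_⟩
  · rw [LinearMap.det_toMatrix', ← LinearEquiv.coe_det, hP, Units.val_one]
  · exact LinearMap.congr_fun (Matrix.toLin'_toMatrix' (P : (Fin n → F) →ₗ[F] (Fin n → F))) v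

theorem mem_center_of_scalar {A : SLn} {a : F}
    (h : (Matrix.SpecialLinearGroup.toLin' A : Module.End F (Fin n → F)) = a • LinearMap.id) :
    A ∈ Subgroup.center SLn := by
  refine Subgroup.mem_center_iff.2 fun B =>
    Matrix.SpecialLinearGroup.toLin'_injective (LinearEquiv.ext fun v => ?_)
  have hA : ∀ v, Matrix.SpecialLinearGroup.toLin' A v = a • v := fun v => LinearMap.congr_fun h v
  simp only [map_mul]
  show Matrix.SpecialLinearGroup.toLin' B (Matrix.SpecialLinearGroup.toLin' A v) =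
    Matrix.SpecialLinearGroup.toLin' A (Matrix.SpecialLinearGroup.toLin' B v)
  rw [hA, hA, map_smul]

theorem nonScalar_of_ne_one {A : SLn} (h : (A : PSLn) ≠ 1) :
    NonScalar (Matrix.SpecialLinearGroup.toLin' A) := fun _ e =>
  h ((QuotientGroup.eq_one_iff A).2 (mem_center_of_scalar e))

/-- A product of `k` conjugates in the projective group. -/
def Reach (x : PSLn) (k : ℕ) (g : PSLn) : Prop :=
  ∃ f : Fin k → PSLn, g = (List.ofFn fun i => f i * x * (f i)⁻¹).prod

theorem reach_of_inProd {A B : SLn} {k : ℕ}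
    (h : InProd (Matrix.SpecialLinearGroup.toLin' A) k (Matrix.SpecialLinearGroup.toLin' B)) :
    Reach (A : PSLn) k (B : PSLn) := by
  obtain ⟨P, hP, hprod⟩ := h
  choose Q hQ using fun i => exists_toSL (hP i)
  refine ⟨fun i => (Q i : PSLn), ?_⟩
  have hB : B = (List.ofFn fun i => Q i * A * (Q i)⁻¹).prod := Matrix.SpecialLinearGroup.toLin'_injective (by
    rw [← hprod, map_list_prod, List.map_ofFn]
    congr 2
    funext i
    simp [hQ])
  rw [hB]
  show QuotientGroup.mk' (Subgroup.center SLn) _ = _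
  rw [map_list_prod, List.map_ofFn]
  rfl

theorem Reach.cons {x g : PSLn} {k : ℕ} (h : Reach x k g) (y : PSLn) :
    Reach x (k + 1) (y * x * y⁻¹ * g) := by
  obtain ⟨f, rfl⟩ := h
  exact ⟨Fin.cons y f, by simp [List.ofFn_succ]⟩

theorem exists_two_ne [Fintype F] (h4 : 4 ≤ Fintype.card F) (hn : 3 ≤ n) :
    ∃ g g' : PSLn, g ≠ 1 ∧ g' ≠ 1 ∧ g ≠ g' := by
  classical
  obtain ⟨a, -, ha⟩ := Finset.exists_mem_notMem_of_card_lt_card (s := ({0, 1} : Finset F))
    (t := Finset.univ) (Finset.card_le_two.trans_lt (by rw [Finset.card_univ]; omega))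
  simp only [Finset.mem_insert, Finset.mem_singleton, not_or] at ha
  have hij : (⟨0, by omega⟩ : Fin n) ≠ ⟨1, by omega⟩ := by simp
  let T : F → SLn := fun b => Matrix.SpecialLinearGroup.transvection hij b
  have hne : ∀ b, b ≠ 0 → (T b : PSLn) ≠ 1 := fun b hb h => by
    obtain ⟨r, -, hr⟩ := Matrix.SpecialLinearGroup.mem_center_iff.1 ((QuotientGroup.eq_one_iff (N := Subgroup.center SLn) (T b)).1 h)
    have := congrFun (congrFun hr ⟨0, by omega⟩) ⟨1, by omega⟩
    rw [Matrix.scalar_apply, Matrix.diagonal_apply_ne _ hij] at this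
    exact hb (by simpa [T, Matrix.SpecialLinearGroup.transvection_coe, hij] using this.symm)
  refine ⟨(T 1 : PSLn), (T a : PSLn), hne 1 one_ne_zero, hne a ha.1, fun h => ?_⟩
  have hmul : T 1 * T (a - 1) = T a := Subtype.ext (by
    show Matrix.transvection _ _ (1 : F) * Matrix.transvection _ _ (a - 1) = Matrix.transvection _ _ a
    rw [Matrix.transvection_mul_transvection_same _ _ hij, add_sub_cancel])
  refine hne (a - 1) (sub_ne_zero.2 ha.2) ?_
  have h2 : (T 1 : PSLn) * (T (a - 1) : PSLn) = (T 1 : PSLn) * 1 := by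
    rw [mul_one, ← QuotientGroup.mk_mul, hmul, h]
  exact mul_left_cancel h2

theorem reach_succ [Fintype F] (h4 : 4 ≤ Fintype.card F) (hn : 3 ≤ n) {x : PSLn} {j : ℕ}
    (h : ∀ g, g ≠ 1 → Reach x j g) (g : PSLn) (hg : g ≠ 1) : Reach x (j + 1) g := by
  obtain ⟨y, hy⟩ : ∃ y : PSLn, y * x * y⁻¹ ≠ g := by
    by_contra hno
    push Not at hno
    have hx : x = g := by simpa using hno 1
    obtain ⟨a, b, ha, hb, hab⟩ := exists_two_ne (F := F) h4 hn
    have key : ∀ a, a ≠ 1 → a = g ^ j := fun a ha => by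
      obtain ⟨f, rfl⟩ := h a ha
      rw [show (fun i => f i * x * (f i)⁻¹) = fun _ => g from funext fun i => hno (f i),
        List.ofFn_const, List.prod_replicate]
    exact hab ((key a ha).trans (key b hb).symm)
  have := (h ((y * x * y⁻¹)⁻¹ * g) fun e => hy (by
    rw [inv_mul_eq_one] at e; exact e)).cons y
  rwa [mul_inv_cancel_left] at this

/-- **Upper bound**: `n` conjugates of any non-trivial element cover. -/
theorem covering [Fintype F] (h4 : 4 ≤ Fintype.card F) (hn : 3 ≤ n) (x : PSLn) (hx : x ≠ 1)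
    (g : PSLn) : Reach x n g := by
  obtain ⟨A, rfl⟩ := QuotientGroup.mk_surjective x
  have hnV : finrank F (Fin n → F) = n := Module.finrank_fin_fun F
  obtain ⟨j, hj, hcov, hid⟩ := covers h4 (by omega) (det_toSL A) (nonScalar_of_ne_one hx)
  rw [hnV] at hj hid
  have h0 : ∀ g : PSLn, g ≠ 1 → Reach (A : PSLn) j g := fun g hg => by
    obtain ⟨B, rfl⟩ := QuotientGroup.mk_surjective g
    exact reach_of_inProd (hcov _ (det_toSL B) (nonScalar_of_ne_one hg))
  have hup : ∀ i, ∀ g : PSLn, g ≠ 1 → Reach (A : PSLn) (j + i) g := by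
    intro i
    induction i with
    | zero => exact h0
    | succ i ih => exact fun g hg => reach_succ h4 hn ih g hg
  by_cases hg : g = 1
  · subst hg
    rcases hid with hlt | ⟨z, hz⟩
    · have h1 := (hup (n - 1 - j) (A : PSLn)⁻¹ (inv_ne_one.2 hx)).cons 1
      rw [show j + (n - 1 - j) + 1 = n by omega] at h1
      simpa using h1
    · obtain ⟨Z, hZ⟩ := exists_toSL (hz.det (det_toSL A))
      have := reach_of_inProd (hZ.symm ▸ hz :
        InProd (Matrix.SpecialLinearGroup.toLin' A) n (Matrix.SpecialLinearGroup.toLin' Z))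
      rwa [(QuotientGroup.eq_one_iff Z).2 (mem_center_of_scalar (a := (z : F))
        (by rw [hZ]; exact LinearMap.ext fun v => rfl))] at this
  · have := hup (n - j) g hg
    rwa [show j + (n - j) = n by omega] at this

/-- **Lower bound**: `n - 1` conjugates of a transvection fix a vector. -/
theorem not_covering [Fintype F] (h4 : 4 ≤ Fintype.card F) (hn : 3 ≤ n) :
    ∃ x : PSLn, x ≠ 1 ∧ ∃ g : PSLn, ¬ Reach x (n - 1) g := by
  classical
  have hij : (⟨0, by omega⟩ : Fin n) ≠ ⟨1, by omega⟩ := by simp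
  set T : SLn := Matrix.SpecialLinearGroup.transvection hij 1 with hT
  have hx : (T : PSLn) ≠ 1 := fun h => by
    obtain ⟨r, -, hr⟩ := Matrix.SpecialLinearGroup.mem_center_iff.1 ((QuotientGroup.eq_one_iff (N := Subgroup.center SLn) T).1 h)
    have := congrFun (congrFun hr ⟨0, by omega⟩) ⟨1, by omega⟩
    rw [Matrix.scalar_apply, Matrix.diagonal_apply_ne _ hij] at this
    simp [T, Matrix.SpecialLinearGroup.transvection_coe, hij] at this
  refine ⟨(T : PSLn), hx, ?_⟩
  -- an element without eigenvalues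
  obtain ⟨p, hpm, hpd, hp0, hp⟩ := exists_poly_avoid (d := n) (by omega) ((-1 : F) ^ n)
    (Finset.univ.erase (0 : F)) (Finset.notMem_erase _ _)
    (Finset.card_erase_lt_of_mem (Finset.mem_univ _))
  have hroot : ∀ r, p.eval r ≠ 0 := fun r => by
    rcases eq_or_ne r 0 with rfl | hr
    · rw [← coeff_zero_eq_eval_zero, hp0]; simp
    · exact hp r (Finset.mem_erase.2 ⟨hr, Finset.mem_univ _⟩)
  obtain ⟨y, hyc, hyd⟩ := exists_cyc (V := Fin n → F) hpm
    (hpd.trans (Module.finrank_fin_fun F).symm) (by rw [hp0]; simp)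
  obtain ⟨G, hG⟩ := exists_toSL (P := y) (Units.ext (by
    rw [LinearEquiv.coe_det, hyd, hp0, Module.finrank_fin_fun, ← mul_pow, neg_mul_neg, one_mul,
      one_pow, Units.val_one]))
  refine ⟨(G : PSLn), ?_⟩
  rintro ⟨f, hf⟩
  choose Q hQ using fun i => QuotientGroup.mk_surjective (f i)
  set M := (List.ofFn fun i => Q i * T * (Q i)⁻¹).prod with hM
  have hGM : (M : PSLn) = (G : PSLn) := by
    rw [hf, hM]
    show QuotientGroup.mk' (Subgroup.center SLn) _ = _
    rw [map_list_prod, List.map_ofFn]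
    congr 2
    funext i
    simp [hQ]
  obtain ⟨r, hr, hz⟩ := Matrix.SpecialLinearGroup.mem_center_iff.1 ((QuotientGroup.eq (s := Subgroup.center SLn) (a := M) (b := G)).1 hGM)
  -- a common fixed vector
  let Φ : (Fin n → F) →ₗ[F] (Fin (n - 1) → F) := LinearMap.pi fun i =>
    LinearMap.proj (⟨1, by omega⟩ : Fin n) ∘ₗ
      ((Matrix.SpecialLinearGroup.toLin' (Q i)).symm : (Fin n → F) →ₗ[F] (Fin n → F))
  obtain ⟨v, hv, hv0⟩ := (Submodule.ne_bot_iff _).1 (LinearMap.ker_ne_bot_of_finrank_lt (f := Φ)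
    (by rw [Module.finrank_fin_fun, Module.finrank_fin_fun]; omega))
  have hTw : ∀ w : Fin n → F, w ⟨1, by omega⟩ = 0 → Matrix.SpecialLinearGroup.toLin' T w = w := fun w hw => by
    rw [Matrix.SpecialLinearGroup.toLin'_apply, Matrix.toLin'_apply, hT,
      Matrix.SpecialLinearGroup.transvection_coe, Matrix.add_mulVec, Matrix.one_mulVec]
    simp [Matrix.single_mulVec, hw]
  have hfix : ∀ (k : ℕ) (q : Fin k → SLn),
      (∀ i, Matrix.SpecialLinearGroup.toLin' (q i * T * (q i)⁻¹) v = v) →
      Matrix.SpecialLinearGroup.toLin' (List.ofFn fun i => q i * T * (q i)⁻¹).prod v = v := by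
    intro k
    induction k with
    | zero => intro q _; simp
    | succ k ih =>
      intro q hq
      rw [List.ofFn_succ, List.prod_cons, map_mul, LinearEquiv.mul_apply,
        ih (fun i => q i.succ) fun i => hq _, hq 0]
  have hMv : Matrix.SpecialLinearGroup.toLin' M v = v := by
    refine hfix _ Q fun i => ?_
    have h1 : (Matrix.SpecialLinearGroup.toLin' (Q i)).symm v ⟨1, by omega⟩ = 0 := congrFun hv i
    simp only [map_mul, map_inv]
    show Matrix.SpecialLinearGroup.toLin' (Q i) (Matrix.SpecialLinearGroup.toLin' T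
      ((Matrix.SpecialLinearGroup.toLin' (Q i)).symm v)) = v
    rw [hTw _ h1, LinearEquiv.apply_symm_apply]
  have hyv : y v = r • v := by
    have hG2 : G = M * (M⁻¹ * G) := by group
    rw [← hG, hG2, map_mul, LinearEquiv.mul_apply, Matrix.SpecialLinearGroup.toLin'_apply (M⁻¹ * G),
      Matrix.toLin'_apply, ← hz, show (Matrix.scalar (Fin n) r).mulVec v = r • v by
        simp [Matrix.scalar_apply, Matrix.mulVec_diagonal, funext_iff], map_smul, hMv]
  have heig := Module.End.aeval_apply_of_hasEigenvector (p := p) (f := (y : Module.End F (Fin n → F)))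
    (μ := r) ⟨Module.End.mem_eigenspace_iff.2 hyv, hv0⟩
  rw [hyc.2.2.1, LinearMap.zero_apply, eq_comm, smul_eq_zero] at heig
  exact hroot r (heig.resolve_right hv0)

end Cfsg.Agent.CoverNum
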